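import Mathlib
import Cfsg.Agent.Lib.Invol.ChermakDelgado

/-!
# Pairs for pushing up: members of largest measure inside a subgroup

A member of `P` is a subgroup `X ≤ P` for which `|X| · |C_P(X)|` is as large as possible.
-/

set_option autoImplicit false
set_option linter.unusedSectionVars false

namespace Cfsg.Agent.Fus.GN

open Subgroup
open scoped commutatorElement

variable {G : Type*} [Group G]

/-- The centraliser of `X` in `P`. -/
def cz (P X : Subgroup G) : Subgroup G := P ⊓ centralizer (X : Set G)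

theorem mem_cz {P X : Subgroup G} {y : G} : y ∈ cz P X ↔ y ∈ P ∧ ∀ x ∈ X, x * y = y * x :=
  ⟨fun h => ⟨h.1, fun x hx => mem_centralizer_iff.mp h.2 x hx⟩, fun h => ⟨h.1, mem_centralizer_iff.mpr h.2⟩⟩

theorem cz_le {P X : Subgroup G} : cz P X ≤ P := inf_le_left

theorem cz_anti {P X Y : Subgroup G} (h : X ≤ Y) : cz P Y ≤ cz P X :=
  inf_le_inf_left _ (centralizer_le (SetLike.coe_subset_coe.mpr h))

theorem le_cz_comm {P X Y : Subgroup G} (hX : X ≤ P) (h : Y ≤ cz P X) : X ≤ cz P Y := fun x hx =>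
  mem_cz.mpr ⟨hX hx, fun y hy => ((mem_cz.mp (h hy)).2 x hx).symm⟩

theorem le_cz_cz {P X : Subgroup G} (hX : X ≤ P) : X ≤ cz P (cz P X) := le_cz_comm hX le_rfl

theorem cz_sup (P X Y : Subgroup G) : cz P (X ⊔ Y) = cz P X ⊓ cz P Y :=
  le_antisymm (le_inf (cz_anti le_sup_left) (cz_anti le_sup_right))
    fun _ hy => mem_cz.mpr ⟨hy.1.1, fun _ hz => mem_centralizer_singleton_iff.mp ((sup_le
      (fun a ha => mem_centralizer_singleton_iff.mpr ((mem_cz.mp hy.1).2 a ha))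
      fun a ha => mem_centralizer_singleton_iff.mpr ((mem_cz.mp hy.2).2 a ha) : X ⊔ Y ≤ _) hz)⟩

theorem cz_map {H : Type*} [Group H] (f : G →* H) (hf : Function.Injective f) (P X : Subgroup G) :
    cz (P.map f) (X.map f) = (cz P X).map f := by
  ext y
  constructor
  · rintro ⟨⟨a, ha, rfl⟩, hc⟩
    exact ⟨a, mem_cz.mpr ⟨ha, fun x hx => hf (by
      rw [map_mul, map_mul]; exact mem_centralizer_iff.mp hc _ ⟨x, hx, rfl⟩)⟩, rfl⟩
  · rintro ⟨a, ha, rfl⟩
    refine mem_cz.mpr ⟨⟨a, ha.1, rfl⟩, ?_⟩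
    rintro _ ⟨x, hx, rfl⟩
    rw [← map_mul, ← map_mul, (mem_cz.mp ha).2 x hx]

/-- `X` is normalised by `P`. -/
def NIn (P X : Subgroup G) : Prop := ∀ a ∈ P, ∀ x ∈ X, a * x * a⁻¹ ∈ X

theorem NIn.of_normal {P X : Subgroup G} (h : X.Normal) : NIn P X := fun a _ x hx => h.conj_mem x hx a

theorem NIn.le_normalizer [Finite G] {P X : Subgroup G} (h : NIn P X) : P ≤ normalizer (X : Set G) :=
  fun a ha => mem_normalizer_fintype (h a ha)

theorem NIn.inf {P X Y : Subgroup G} (hX : NIn P X) (hY : NIn P Y) : NIn P (X ⊓ Y) :=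
  fun a ha x hx => ⟨hX a ha x hx.1, hY a ha x hx.2⟩

theorem NIn.sup {P X Y : Subgroup G} (hX : NIn P X) (hY : NIn P Y) : NIn P (X ⊔ Y) := fun a ha x hx =>
  (sup_le (c := (X ⊔ Y).comap (MulAut.conj a).toMonoidHom) (fun z hz => mem_sup_left (hX a ha z hz))
    (fun z hz => mem_sup_right (hY a ha z hz)) : X ⊔ Y ≤ _) hx

theorem NIn.cz {P X : Subgroup G} (hX : NIn P X) : NIn P (cz P X) := fun a ha y hy => by
  refine mem_cz.mpr ⟨mul_mem (mul_mem ha hy.1) (inv_mem ha), fun x hx => ?_⟩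
  have h := (mem_cz.mp hy).2 (a⁻¹ * x * a⁻¹⁻¹) (hX _ (inv_mem ha) x hx)
  calc x * (a * y * a⁻¹) = a * (a⁻¹ * x * a⁻¹⁻¹ * y) * a⁻¹ := by group
    _ = a * (y * (a⁻¹ * x * a⁻¹⁻¹)) * a⁻¹ := by rw [h]
    _ = _ := by group

theorem cmul_left (a b c : G) : ⁅a * b, c⁆ = a * ⁅b, c⁆ * a⁻¹ * ⁅a, c⁆ := by
  simp only [commutatorElement_def]; group

theorem cmul_right (a b c : G) : ⁅a, b * c⁆ = ⁅a, b⁆ * (b * ⁅a, c⁆ * b⁻¹) := by
  simp only [commutatorElement_def]; group

theorem comm_one_iff (a b : G) : ⁅a, b⁆ = 1 ↔ a * b = b * a := commutatorElement_eq_one_iff_mul_comm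

theorem conj_comm (g a b : G) : g * ⁅a, b⁆ * g⁻¹ = ⁅g * a * g⁻¹, g * b * g⁻¹⁆ := by
  simp only [commutatorElement_def]; group

/-- A right factor commuting with the other entry can be dropped. -/
theorem comm_right_drop {a b c : G} (h : a * c = c * a) : ⁅a, b * c⁆ = ⁅a, b⁆ := by
  rw [cmul_right, (comm_one_iff a c).mpr h, mul_one, mul_inv_cancel, mul_one]

/-- A right factor commuting with the other entry can be dropped. -/
theorem comm_left_drop {a b c : G} (h : b * c = c * b) : ⁅a * b, c⁆ = ⁅a, c⁆ := by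
  rw [cmul_left, (comm_one_iff b c).mpr h, mul_one, mul_inv_cancel, one_mul]

/-- `X` is a subgroup of `P` of largest measure. -/
structure Mem (P X : Subgroup G) : Prop where
  le : X ≤ P
  max : ∀ K : Subgroup G, K ≤ P → Nat.card K * Nat.card (GN.cz P K) ≤ Nat.card X * Nat.card (GN.cz P X)

theorem cz_subgroupOf (P : Subgroup G) (X : Subgroup ↥P) :
    cz P (X.map P.subtype) = (centralizer (X : Set ↥P)).map P.subtype := by
  have e := cz_map P.subtype P.subtype_injective ⊤ X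
  rwa [← MonoidHom.range_eq_map, P.range_subtype, show cz ⊤ X = centralizer (X : Set ↥P) from top_inf_eq _] at e

theorem meas_eq (P : Subgroup G) (X : Subgroup ↥P) :
    Nat.card (X.map P.subtype) * Nat.card (cz P (X.map P.subtype)) = Invol.cdMeasure X := by
  rw [cz_subgroupOf, card_map_of_injective P.subtype_injective, card_map_of_injective P.subtype_injective]
  rfl

theorem mem_map_iff (P : Subgroup G) (X : Subgroup ↥P) : Mem P (X.map P.subtype) ↔ Invol.CDMax X := by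
  constructor
  · intro h K
    rw [← meas_eq, ← meas_eq]
    exact h.max _ (map_subtype_le K)
  · intro h
    refine ⟨map_subtype_le X, fun K hK => ?_⟩
    rw [← inf_eq_left.mpr hK, ← subgroupOf_map_subtype, meas_eq, meas_eq]
    exact h _

theorem Mem.exists_sub {P X : Subgroup G} (h : Mem P X) :
    ∃ Y : Subgroup ↥P, Y.map P.subtype = X ∧ Invol.CDMax Y := by
  have e : (X.subgroupOf P).map P.subtype = X := by rw [subgroupOf_map_subtype, inf_eq_left.mpr h.le]
  exact ⟨_, e, (mem_map_iff P _).mp (by rw [e]; exact h)⟩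

theorem Mem.card_eq {P X Y : Subgroup G} (hX : Mem P X) (hY : Mem P Y) :
    Nat.card X * Nat.card (GN.cz P X) = Nat.card Y * Nat.card (GN.cz P Y) :=
  le_antisymm (hY.max X hX.le) (hX.max Y hY.le)

theorem Mem.of_card {P X Y : Subgroup G} (hX : Mem P X) (hY : Y ≤ P)
    (h : Nat.card X * Nat.card (GN.cz P X) ≤ Nat.card Y * Nat.card (GN.cz P Y)) : Mem P Y :=
  ⟨hY, fun K hK => (hX.max K hK).trans h⟩

variable [Finite G]

theorem Mem.cz {P X : Subgroup G} (hX : Mem P X) : Mem P (GN.cz P X) := by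
  obtain ⟨Y, rfl, hY⟩ := hX.exists_sub
  rw [cz_subgroupOf]
  exact (mem_map_iff P _).mpr hY.centralizer

theorem Mem.cz_cz {P X : Subgroup G} (hX : Mem P X) : GN.cz P (GN.cz P X) = X := by
  obtain ⟨Y, rfl, hY⟩ := hX.exists_sub
  rw [cz_subgroupOf, cz_subgroupOf, ← hY.centralizer_centralizer]

theorem Mem.sup {P X Y : Subgroup G} (hX : Mem P X) (hY : Mem P Y) : Mem P (X ⊔ Y) := by
  obtain ⟨A, rfl, hA⟩ := hX.exists_sub
  obtain ⟨B, rfl, hB⟩ := hY.exists_sub
  rw [← Subgroup.map_sup]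
  exact (mem_map_iff P _).mpr (hA.lattice hB).1

theorem Mem.inf {P X Y : Subgroup G} (hX : Mem P X) (hY : Mem P Y) : Mem P (X ⊓ Y) := by
  obtain ⟨A, rfl, hA⟩ := hX.exists_sub
  obtain ⟨B, rfl, hB⟩ := hY.exists_sub
  rw [← Subgroup.map_inf _ _ _ P.subtype_injective]
  exact (mem_map_iff P _).mpr (hA.lattice hB).2.1

theorem Mem.cz_inf {P X Y : Subgroup G} (hX : Mem P X) (hY : Mem P Y) :
    GN.cz P (X ⊓ Y) = GN.cz P X ⊔ GN.cz P Y := by
  obtain ⟨A, rfl, hA⟩ := hX.exists_sub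
  obtain ⟨B, rfl, hB⟩ := hY.exists_sub
  rw [← Subgroup.map_inf _ _ _ P.subtype_injective, cz_subgroupOf, cz_subgroupOf, cz_subgroupOf, ← Subgroup.map_sup,
    (hA.lattice hB).2.2.2.2]

theorem Mem.exists_mul {P X Y : Subgroup G} (hX : Mem P X) (hY : Mem P Y) {z : G} (hz : z ∈ X ⊔ Y) :
    ∃ x ∈ X, ∃ y ∈ Y, x * y = z := by
  obtain ⟨A, rfl, hA⟩ := hX.exists_sub
  obtain ⟨B, rfl, hB⟩ := hY.exists_sub
  rw [← Subgroup.map_sup] at hz
  obtain ⟨c, hc, rfl⟩ := hz
  obtain ⟨a, ha, b, hb, rfl⟩ :=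
    (hA.lattice hB).2.2.1.subset (show c ∈ ((A ⊔ B : Subgroup ↥P) : Set ↥P) from hc)
  exact ⟨_, ⟨a, ha, rfl⟩, _, ⟨b, hb, rfl⟩, (map_mul P.subtype a b).symm⟩

theorem Mem.card_sup {P X Y : Subgroup G} (hX : Mem P X) (hY : Mem P Y) :
    Nat.card ↥(X ⊔ Y) * Nat.card ↥(X ⊓ Y) = Nat.card X * Nat.card Y := by
  have h1 := Invol.card_mul_le_card_sup X Y
  have h2 := Invol.card_mul_le_card_sup (GN.cz P X) (GN.cz P Y)
  rw [← hX.cz_inf hY, ← cz_sup] at h2
  have e1 := (hX.sup hY).card_eq hX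
  have e2 := (hX.inf hY).card_eq hY
  have e : Nat.card ↥(X ⊔ Y) * Nat.card ↥(X ⊓ Y) *
      (Nat.card (GN.cz P (X ⊓ Y)) * Nat.card (GN.cz P (X ⊔ Y))) =
      Nat.card X * Nat.card Y * (Nat.card (GN.cz P X) * Nat.card (GN.cz P Y)) := by
    calc _ = (Nat.card ↥(X ⊔ Y) * Nat.card (GN.cz P (X ⊔ Y))) * (Nat.card ↥(X ⊓ Y) * Nat.card (GN.cz P (X ⊓ Y))) := by ring
      _ = (Nat.card X * Nat.card (GN.cz P X)) * (Nat.card Y * Nat.card (GN.cz P Y)) := by rw [e1, e2]
      _ = _ := by ring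
  refine le_antisymm (Nat.le_of_mul_le_mul_right ((Nat.mul_le_mul_left _ h2).trans e.le) ?_) h1
  exact Nat.mul_pos Nat.card_pos Nat.card_pos

/-- The index of a member in a larger one is the reversed index of their centralisers. -/
theorem Mem.index_eq {P X Y : Subgroup G} (hX : Mem P X) (hY : Mem P Y) {n : ℕ}
    (h : Nat.card (GN.cz P X) = n * Nat.card (GN.cz P Y)) : Nat.card Y = n * Nat.card X := by
  have e := hX.card_eq hY
  rw [h] at e
  refine Nat.eq_of_mul_eq_mul_right (Nat.card_pos (α := GN.cz P Y)) ?_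
  rw [← e]; ring

theorem Mem.sSup {P : Subgroup G} {X₀ : Subgroup G} (h₀ : Mem P X₀) (s : Set (Subgroup G))
    (hs : ∀ X ∈ s, Mem P X) : Mem P (X₀ ⊔ SupSet.sSup s) := by
  induction s, (Set.toFinite s) using Set.Finite.induction_on with
  | empty => simpa using h₀
  | @insert a t _ _ ih =>
    rw [sSup_insert, sup_left_comm]
    exact (hs a (Set.mem_insert a t)).sup (ih fun X hX => hs X (Set.mem_insert_of_mem a hX))

theorem Mem.map {H : Type*} [Group H] {f : G →* H} (hf : Function.Injective f) {P X : Subgroup G}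
    (hX : Mem P X) : Mem (P.map f) (X.map f) := by
  refine ⟨map_mono hX.le, fun K hK => ?_⟩
  have eK : ((K.comap f) ⊓ P).map f = K := by
    refine le_antisymm ((map_mono inf_le_left).trans (map_comap_le f K)) fun k hk => ?_
    obtain ⟨a, ha, rfl⟩ := hK hk
    exact ⟨a, ⟨hk, ha⟩, rfl⟩
  rw [← eK, cz_map f hf, cz_map f hf, card_map_of_injective hf, card_map_of_injective hf, card_map_of_injective hf,
    card_map_of_injective hf]
  exact hX.max _ inf_le_right

theorem Mem.of_map {H : Type*} [Group H] {f : G →* H} (hf : Function.Injective f) {P X : Subgroup G} (hXP : X ≤ P)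
    (hX : Mem (P.map f) (X.map f)) : Mem P X := by
  refine ⟨hXP, fun K hK => ?_⟩
  have h := hX.max (K.map f) (map_mono hK)
  rwa [cz_map f hf, cz_map f hf, card_map_of_injective hf, card_map_of_injective hf, card_map_of_injective hf,
    card_map_of_injective hf] at h

/-- The standing hypotheses on `P`. -/
structure Std (p : ℕ) (P : Subgroup G) : Prop where
  mem : Mem P (GN.cz P P)
  exp : ∀ z ∈ GN.cz P P, z ^ p = 1
  gen : P ≤ SupSet.sSup {A : Subgroup G | Mem P A ∧ GN.cz P A = A}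

theorem Mem.Z_le {P X : Subgroup G} (hX : Mem P X) : GN.cz P P ≤ X := by
  conv_rhs => rw [← hX.cz_cz]
  exact cz_anti cz_le

theorem Mem.top {p : ℕ} {P : Subgroup G} (hs : Std p P) : Mem P P := by
  have h := hs.mem.cz
  rwa [show GN.cz P (GN.cz P P) = P from le_antisymm cz_le (le_cz_cz le_rfl)] at h

/-- An abelian subgroup is no larger than a self-centralising member. -/
theorem card_abelian_le {P A B : Subgroup G} (hA : Mem P A) (hAA : GN.cz P A = A) (hBP : B ≤ P)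
    (hB : ∀ x ∈ B, ∀ y ∈ B, x * y = y * x) : Nat.card B ≤ Nat.card A := by
  have h := hA.max B hBP
  rw [hAA] at h
  have h2 : Nat.card B ≤ Nat.card (GN.cz P B) :=
    card_le_of_le fun b hb => mem_cz.mpr ⟨hBP hb, fun x hx => hB x hx b hb⟩
  exact Nat.mul_self_le_mul_self_iff.mp ((Nat.mul_le_mul_left _ h2).trans h)

theorem Std.exists_not_le {p : ℕ} {P Q : Subgroup G} (hs : Std p P) (hQ : ¬ P ≤ Q) :
    ∃ A, Mem P A ∧ GN.cz P A = A ∧ ¬ A ≤ Q := by
  by_contra hc
  push Not at hc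
  exact hQ (hs.gen.trans (sSup_le fun A hA => hc A hA.1 hA.2))

theorem Std.map {H : Type*} [Group H] [Finite H] {p : ℕ} {f : G →* H} (hf : Function.Injective f) {P : Subgroup G}
    (hs : Std p P) : Std p (P.map f) := by
  refine ⟨by rw [cz_map f hf]; exact hs.mem.map hf, ?_, ?_⟩
  · rw [cz_map f hf]
    rintro _ ⟨z, hz, rfl⟩
    rw [← map_pow, hs.exp z hz, map_one]
  · rw [map_le_iff_le_comap]
    refine hs.gen.trans (sSup_le fun A hA => map_le_iff_le_comap.mp (le_sSup ?_))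
    exact ⟨hA.1.map hf, by rw [cz_map f hf, hA.2]⟩

end Cfsg.Agent.Fus.GN
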