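import Mathlib
import Cfsg.Agent.Lib.Fus.GN.Member
import Cfsg.Agent.Lib.Fus.GN.Vertex

/-!
# Pairs for pushing up: the facts on one group over `P`
-/

set_option autoImplicit false
set_option linter.style.haveILetI false
set_option linter.unusedSectionVars false

namespace Cfsg.Agent.Fus.GN

open Subgroup Cfsg.Agent.Invol Cfsg.Agent.Invol.PushUp
open Cfsg.Agent.Grp.SL2 (up low)
open scoped commutatorElement

universe u

variable {G : Type u} [Group G] [Finite G] {p : ℕ} [hp : Fact p.Prime]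

/-- The conjugate of `X` by `g`. -/
def cj (g : G) (X : Subgroup G) : Subgroup G := X.map (MulAut.conj g).toMonoidHom

theorem mem_cj {g : G} {X : Subgroup G} {y : G} : y ∈ cj g X ↔ g⁻¹ * y * g ∈ X := by
  constructor
  · rintro ⟨x, hx, rfl⟩; simpa [mul_assoc] using hx
  · exact fun h => ⟨_, h, by simp [mul_assoc]⟩

theorem conj_mem_cj {g : G} {X : Subgroup G} {x : G} (hx : x ∈ X) : g * x * g⁻¹ ∈ cj g X := ⟨x, hx, rfl⟩

theorem card_cj (g : G) (X : Subgroup G) : Nat.card (cj g X) = Nat.card X :=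
  card_map_of_injective (MulAut.conj g).injective

theorem cj_cj (g h : G) (X : Subgroup G) : cj g (cj h X) = cj (g * h) X := by
  ext y; simp only [mem_cj, mul_inv_rev, mul_assoc]

theorem cj_one (X : Subgroup G) : cj (1 : G) X = X := by ext y; simp [mem_cj]

theorem cj_inv_cj (g : G) (X : Subgroup G) : cj g⁻¹ (cj g X) = X := by rw [cj_cj, inv_mul_cancel, cj_one]

theorem cj_cj_inv (g : G) (X : Subgroup G) : cj g (cj g⁻¹ X) = X := by rw [cj_cj, mul_inv_cancel, cj_one]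

theorem cj_mono {g : G} {X Y : Subgroup G} (h : X ≤ Y) : cj g X ≤ cj g Y := map_mono h

theorem cj_sup (g : G) (X Y : Subgroup G) : cj g (X ⊔ Y) = cj g X ⊔ cj g Y := Subgroup.map_sup X Y _

theorem cj_inf (g : G) (X Y : Subgroup G) : cj g (X ⊓ Y) = cj g X ⊓ cj g Y :=
  Subgroup.map_inf X Y _ (MulAut.conj g).injective

theorem cj_normal (g : G) {X : Subgroup G} (h : X.Normal) : cj g X = X := by
  ext y
  rw [mem_cj]
  refine ⟨fun hy => ?_, fun hy => by simpa using h.conj_mem y hy g⁻¹⟩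
  have := h.conj_mem _ hy g
  rwa [show g * (g⁻¹ * y * g) * g⁻¹ = y by group] at this

theorem cj_eq_of_NIn {P X : Subgroup G} (h : NIn P X) {g : G} (hg : g ∈ P) : cj g X = X :=
  eq_of_le_of_card_ge (by rintro _ ⟨x, hx, rfl⟩; exact h g hg x hx) (card_cj g X).ge

/-- The elements of order prime to `p` generate the residual. -/
def res (p : ℕ) (G : Type u) [Group G] : Subgroup G := closure {g : G | (orderOf g).Coprime p}

instance res_normal (p : ℕ) : (res p G).Normal := by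
  refine ⟨fun x hx g => ?_⟩
  suffices h : res p G ≤ (res p G).comap (MulAut.conj g).toMonoidHom from h hx
  rw [res, closure_le]
  intro y hy
  refine subset_closure ?_
  show (orderOf ((MulAut.conj g) y)).Coprime p
  rwa [MulEquiv.orderOf_eq]

theorem res_sup_sylow (P : Sylow p G) : res p G ⊔ (P : Subgroup G) = ⊤ := by
  obtain ⟨L, hL⟩ : ∃ L, L = res p G := ⟨_, rfl⟩
  haveI : L.Normal := hL ▸ res_normal p
  have hq : IsPGroup p (G ⧸ L) := by
    intro x
    obtain ⟨g, rfl⟩ := QuotientGroup.mk'_surjective L x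
    obtain ⟨k, r, hr, hkr⟩ := Nat.exists_eq_pow_mul_and_not_dvd (orderOf_pos g).ne' p hp.out.ne_one
    refine ⟨k, ?_⟩
    rw [← map_pow, QuotientGroup.mk'_apply, QuotientGroup.eq_one_iff, hL]
    refine subset_closure ?_
    show (orderOf (g ^ p ^ k)).Coprime p
    rw [orderOf_pow' _ (pow_ne_zero k hp.out.ne_zero), hkr, Nat.gcd_eq_right (Dvd.intro _ rfl),
      Nat.mul_div_cancel_left _ (pow_pos hp.out.pos k)]
    exact (hp.out.coprime_iff_not_dvd.mpr hr).symm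
  obtain ⟨j, hj⟩ := IsPGroup.iff_card.mp hq
  have h1 : (L ⊔ (P : Subgroup G)).index ∣ p ^ j := by
    rw [← hj, ← index_eq_card]; exact index_dvd_of_le le_sup_left
  have h2 : (L ⊔ (P : Subgroup G)).index ∣ (P : Subgroup G).index := index_dvd_of_le le_sup_right
  have h3 : (p ^ j).Coprime (P : Subgroup G).index :=
    Nat.Coprime.pow_left _ (hp.out.coprime_iff_not_dvd.mpr P.not_dvd_index)
  exact hL ▸ index_eq_one.mp (Nat.eq_one_of_dvd_coprimes h3 h1 h2)

theorem res_le (P : Sylow p G) {N : Subgroup G} [N.Normal] (h : N ⊔ (P : Subgroup G) = ⊤) : res p G ≤ N := by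
  rw [res, closure_le]
  intro g hg
  have hq : IsPGroup p (G ⧸ N) := by
    refine P.isPGroup'.of_surjective ((QuotientGroup.mk' N).comp (P : Subgroup G).subtype) fun x => ?_
    obtain ⟨g, rfl⟩ := QuotientGroup.mk'_surjective N x
    have hg' : g ∈ ((N ⊔ (P : Subgroup G) : Subgroup G) : Set G) := h.symm ▸ mem_top g
    rw [Subgroup.normal_mul] at hg'
    obtain ⟨n, hn, a, ha, rfl⟩ := hg'
    exact ⟨⟨a, ha⟩, by simp [(QuotientGroup.eq_one_iff n).mpr hn]⟩
  rw [SetLike.mem_coe, ← QuotientGroup.eq_one_iff, ← orderOf_eq_one_iff]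
  obtain ⟨k, hk⟩ := hq (g : G ⧸ N)
  exact Nat.eq_one_of_dvd_coprimes (hg.pow_right k) (orderOf_map_dvd (QuotientGroup.mk' N) g)
    (orderOf_dvd_of_pow_eq_one hk)

variable {P : Sylow p G} {F : Type} [Field F] [Fintype F]

/-- The vertex facts together with the standing hypotheses. -/
structure Loc (fr : Frame P F) : Prop where
  v : IsVertex fr
  s : Std p (P : Subgroup G)

/-- The representation on the natural module. -/
noncomputable def Loc.rho {fr : Frame P F} (h : Loc fr) : G →* Matrix.SpecialLinearGroup (Fin 2) F := h.v.nat.choose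

/-- The coordinates on the natural module. -/
noncomputable def Loc.co {fr : Frame P F} (h : Loc fr) : G → (Fin 2 → F) := h.v.nat.choose_spec.1.coords.choose

variable {fr : Frame P F} (h : Loc fr)
include h

theorem Loc.nat : IsNatSection fr (Vz P) (Zs P) (Cz P) h.rho := h.v.nat.choose_spec.1

theorem Loc.ker {g : G} : h.rho g = 1 ↔ g ∈ centralizer (Vz P : Set G) := h.v.nat.choose_spec.2 g

theorem Loc.co_mul {u v : G} (hu : u ∈ Vz P) (hv : v ∈ Vz P) : h.co (u * v) = h.co u + h.co v :=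
  h.nat.coords.choose_spec.1 u hu v hv

theorem Loc.co_eq_zero {u : G} (hu : u ∈ Vz P) : h.co u = 0 ↔ u ∈ Cz P := h.nat.coords.choose_spec.2.1 u hu

theorem Loc.co_conj (g : G) {u : G} (hu : u ∈ Vz P) :
    h.co (g * u * g⁻¹) = (h.rho g : Matrix (Fin 2) (Fin 2) F).mulVec (h.co u) := h.nat.coords.choose_spec.2.2 g u hu

theorem Loc.co_one : h.co 1 = 0 := (h.co_eq_zero (one_mem _)).mpr (one_mem _)

theorem Loc.co_inv {u : G} (hu : u ∈ Vz P) : h.co u⁻¹ = - h.co u := by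
  rw [eq_neg_iff_add_eq_zero, ← h.co_mul (inv_mem hu) hu, inv_mul_cancel, h.co_one]

theorem Loc.Vz_normal : (Vz P).Normal := normalClosure_normal

theorem Loc.conj_Vz (g : G) {u : G} (hu : u ∈ Vz P) : g * u * g⁻¹ ∈ Vz P := h.Vz_normal.conj_mem u hu g

theorem Loc.comm_Vz (g : G) {u : G} (hu : u ∈ Vz P) : ⁅g, u⁆ ∈ Vz P := by
  rw [commutatorElement_def]; exact mul_mem (h.conj_Vz g hu) (inv_mem hu)

theorem Loc.co_comm (g : G) {u : G} (hu : u ∈ Vz P) :
    h.co ⁅g, u⁆ = (h.rho g : Matrix (Fin 2) (Fin 2) F).mulVec (h.co u) - h.co u := by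
  rw [commutatorElement_def, h.co_mul (h.conj_Vz g hu) (inv_mem hu), h.co_conj g hu, h.co_inv hu, sub_eq_add_neg]

theorem Loc.V_le : Vz P ≤ (P : Subgroup G) := h.v.le_core.trans Frame.Q_le_S

theorem Loc.cz_P : cz (P : Subgroup G) (P : Subgroup G) = Zs P :=
  le_antisymm (fun z hz => ⟨hz.1, hz.2, h.s.exp z hz⟩) fun _ hz => ⟨hz.1, hz.2.1⟩

theorem Loc.Z_mem : Mem (P : Subgroup G) (Zs P) := h.cz_P ▸ h.s.mem

theorem Loc.P_mem : Mem (P : Subgroup G) (P : Subgroup G) := Mem.top h.s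

theorem Loc.cz_Z : cz (P : Subgroup G) (Zs P) = (P : Subgroup G) :=
  le_antisymm cz_le (le_cz_comm le_rfl h.cz_P.ge)

theorem Loc.Z_le_of_mem {X : Subgroup G} (hX : Mem (P : Subgroup G) X) : Zs P ≤ X := h.cz_P ▸ hX.Z_le

theorem Loc.cz_V : cz (P : Subgroup G) (Vz P) = Cfsg.pCore p G := h.v.S_inf_cent

theorem Loc.card_V : Nat.card (Vz P) = Fintype.card F * Nat.card (Zs P) := h.nat.card_U

theorem Loc.V_mem : Mem (P : Subgroup G) (Vz P) := by
  refine h.Z_mem.of_card h.V_le (le_of_eq ?_)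
  rw [h.cz_V, h.cz_Z, fr.card_S, h.card_V]; ring

theorem Loc.Q_mem : Mem (P : Subgroup G) (Cfsg.pCore p G) := h.cz_V ▸ h.V_mem.cz

theorem Loc.cz_Q : cz (P : Subgroup G) (Cfsg.pCore p G) = Vz P := by rw [← h.cz_V, h.V_mem.cz_cz]

theorem Loc.cz_le_core {X : Subgroup G} (hX : Vz P ≤ X) : cz (P : Subgroup G) X ≤ Cfsg.pCore p G :=
  h.cz_V ▸ cz_anti hX

/-- An element of `P` outside the core fixing `v` modulo `Cz` forces `v ∈ Z`. -/
theorem Loc.fix {a v : G} (ha : a ∈ (P : Subgroup G)) (haQ : a ∉ Cfsg.pCore p G) (hv : v ∈ Vz P)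
    (hav : ⁅a, v⁆ ∈ Cz P) : v ∈ Zs P := h.nat.fix a ha haQ v hv hav

theorem Loc.fix' {a v : G} (ha : a ∈ (P : Subgroup G)) (haQ : a ∉ Cfsg.pCore p G) (hv : v ∈ Vz P)
    (hav : a * v = v * a) : v ∈ Zs P := h.v.fix a ha haQ v hv hav

theorem Loc.Cz_le_Zs : Cz P ≤ Zs P := h.v.C0_le

theorem Loc.comm_Z {a z : G} (ha : a ∈ (P : Subgroup G)) (hz : z ∈ Zs P) : a * z = z * a :=
  mem_centralizer_iff.mp hz.2.1 a ha

theorem Loc.moved {z x : G} (hx : x ∉ fr.M) (hz : z ∈ Zs P) (hxz : x * z * x⁻¹ ∈ Zs P) : z ∈ Cz P :=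
  h.nat.moved z (h.v.Z_le hz) x hx hz hxz

theorem Loc.Z_inf_cj {x : G} (hx : x ∉ fr.M) : Zs P ⊓ cj x (Zs P) ≤ Cz P := fun z hz => by
  refine h.moved (x := x⁻¹) (fun h' => hx (inv_mem_iff.mp h')) hz.1 ?_
  rw [inv_inv]; exact mem_cj.mp hz.2

/-- There is no member strictly between `Z` and `V`. -/
theorem Loc.atom {M : Subgroup G} (hM : Mem (P : Subgroup G) M) (hMV : M ≤ Vz P) : M = Zs P ∨ M = Vz P := by
  refine or_iff_not_imp_left.mpr fun hne => ?_
  obtain ⟨v, hvM, hvZ⟩ : ∃ v ∈ M, v ∉ Zs P := by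
    by_contra hc
    push Not at hc
    exact hne (le_antisymm hc (h.Z_le_of_mem hM))
  have hc : cz (P : Subgroup G) M = Cfsg.pCore p G := by
    refine le_antisymm (fun a ha => ?_) (le_trans h.cz_V.ge (cz_anti hMV))
    by_contra haQ
    exact hvZ (h.fix' ha.1 haQ (hMV hvM) ((mem_cz.mp ha).2 v hvM).symm)
  rw [← hM.cz_cz, hc, h.cz_Q]

/-- A member meets `V` in `Z` or contains it. -/
theorem Loc.inf_V {M : Subgroup G} (hM : Mem (P : Subgroup G) M) : M ⊓ Vz P = Zs P ∨ Vz P ≤ M :=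
  (h.atom (hM.inf h.V_mem) inf_le_right).imp id fun he => he.ge.trans inf_le_left

/-- A member outside the core supplements it. -/
theorem Loc.sup_core {X : Subgroup G} (hX : Mem (P : Subgroup G) X) (hXQ : ¬ X ≤ Cfsg.pCore p G) :
    X ⊔ Cfsg.pCore p G = (P : Subgroup G) := by
  rw [← (hX.sup h.Q_mem).cz_cz, cz_sup, h.cz_Q]
  rcases h.inf_V hX.cz with he | hle
  · rw [he, h.cz_Z]
  · exact absurd (hX.cz_cz ▸ (h.cz_le_core hle)) hXQ

/-- Conjugation preserves members between `V` and the core. -/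
theorem Loc.cz_cj {X : Subgroup G} (hVX : Vz P ≤ X) (g : G) :
    cz (P : Subgroup G) (cj g X) = cj g (cz (P : Subgroup G) X) := by
  haveI := Frame.Q_normal (G := G) (p := p)
  have key : ∀ (g : G) (X : Subgroup G), Vz P ≤ X → cj g (cz (P : Subgroup G) X) ≤ cz (P : Subgroup G) (cj g X) := by
    intro g X hVX
    rintro _ ⟨c, hc, rfl⟩
    refine mem_cz.mpr ⟨Frame.Q_le_S ((inferInstance : (Cfsg.pCore p G).Normal).conj_mem c (h.cz_le_core hVX hc) g), ?_⟩
    rintro _ ⟨x, hx, rfl⟩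
    rw [← map_mul, ← map_mul, (mem_cz.mp hc).2 x hx]
  refine le_antisymm ?_ (key g X hVX)
  have h1 := key g⁻¹ (cj g X) (by rw [← cj_normal g h.Vz_normal]; exact cj_mono hVX)
  rw [cj_inv_cj] at h1
  have h2 := cj_mono (g := g) h1
  rwa [cj_cj_inv] at h2

theorem Loc.cj_mem {X : Subgroup G} (hX : Mem (P : Subgroup G) X) (hVX : Vz P ≤ X) (hXQ : X ≤ Cfsg.pCore p G)
    (g : G) : Mem (P : Subgroup G) (cj g X) := by
  refine hX.of_card ?_ (le_of_eq ?_)
  · exact ((cj_mono hXQ).trans (cj_normal g Frame.Q_normal).le).trans Frame.Q_le_S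
  · rw [h.cz_cj hVX, card_cj, card_cj]

theorem Loc.not_le_core : ¬ (P : Subgroup G) ≤ Cfsg.pCore p G := fun hle =>
  one_ne_zero (fr.σ_eq_zero 1 (hle (fr.σ_mem 1)))

/-- A normal subgroup meeting `P` outside the core supplements `P`. -/
theorem Loc.sup_top {N : Subgroup G} [hN : N.Normal] {a : G} (haP : a ∈ (P : Subgroup G)) (haN : a ∈ N)
    (haQ : a ∉ Cfsg.pCore p G) : N ⊔ (P : Subgroup G) = ⊤ :=
  (PushUnique.sup_eq_top_or_normal P fr.unique N).resolve_right fun hn =>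
    haQ (Grp.le_pCore hn (P.isPGroup'.to_le inf_le_left) ⟨haP, haN⟩)

theorem Loc.central_of {N : Subgroup G} (htop : N ⊔ (P : Subgroup G) = ⊤) {z : G} (hz : z ∈ Zs P)
    (hN : ∀ n ∈ N, n * z = z * n) : z ∈ center G :=
  PushUnique.mem_center_of htop hN fun _ hn => h.comm_Z hn hz

theorem Loc.normal_of {X : Subgroup G} {g : G} (hg : g ∉ fr.M) (hP : NIn (P : Subgroup G) X)
    (hgP : ∀ s ∈ (P : Subgroup G), ∀ x ∈ X, (g * s * g⁻¹) * x * (g * s * g⁻¹)⁻¹ ∈ X) : X.Normal :=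
  normalizer_eq_top_iff.mp (fr.gen_conj hg _ hP.le_normalizer fun s hs => mem_normalizer_fintype (hgP s hs))

theorem Loc.conj_not_M {a l : G} (ha : a ∈ (P : Subgroup G)) (haQ : a ∉ Cfsg.pCore p G) (hl : l ∉ fr.M) :
    l * a * l⁻¹ ∉ fr.M := fun hc => fr.M_ne_top <| by
  have htop : fr.M.comap (MulAut.conj l).toMonoidHom = ⊤ := by
    refine fr.gen a ha haQ l⁻¹ (fun h' => hl (inv_mem_iff.mp h')) _ hc fun s hs => ?_
    show l * (l⁻¹ * s * l⁻¹⁻¹) * l⁻¹ ∈ fr.M
    simpa [mul_assoc] using fr.S_le hs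
  refine eq_top_iff.mpr fun y _ => ?_
  have := htop.ge (mem_top (l⁻¹ * y * l))
  simpa [mul_assoc] using this

theorem Loc.normalizer_le_M {n : G} (hn : ∀ s ∈ (P : Subgroup G), n * s * n⁻¹ ∈ (P : Subgroup G)) : n ∈ fr.M := by
  by_contra hM
  have htop := fr.gen_conj hM (P : Subgroup G) le_rfl hn
  exact h.not_le_core (Grp.le_pCore (htop ▸ inferInstance) P.isPGroup')

theorem Loc.rho_core {x : G} (hx : x ∈ Cfsg.pCore p G) : h.rho x = 1 := h.nat.std.core x hx

theorem Loc.rho_P {a : G} (ha : a ∈ (P : Subgroup G)) : ∃ t, h.rho a = up t := by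
  obtain ⟨t, ht⟩ := fr.σ_surj a ha
  refine ⟨t, ?_⟩
  have h1 := h.rho_core ht
  rw [map_mul, map_inv, inv_mul_eq_one] at h1
  rw [← h1, h.nat.std.up']

theorem Loc.mem_core_iff {a : G} (ha : a ∈ (P : Subgroup G)) : a ∈ Cfsg.pCore p G ↔ h.rho a = 1 := by
  rw [h.ker, ← h.cz_V, cz]
  exact ⟨fun h' => h'.2, fun h' => ⟨ha, h'⟩⟩

theorem Loc.rho_eq_act {g g' : G} (he : h.rho g = h.rho g') {v : G} (hv : v ∈ Vz P) :
    g * v * g⁻¹ = g' * v * g'⁻¹ := by
  have h1 : g'⁻¹ * g ∈ centralizer (Vz P : Set G) := h.ker.mp (by rw [map_mul, map_inv, he, inv_mul_cancel])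
  have h2 := mem_centralizer_iff.mp h1 v hv
  calc g * v * g⁻¹ = g' * ((g'⁻¹ * g) * v) * g⁻¹ := by group
    _ = g' * (v * (g'⁻¹ * g)) * g⁻¹ := by rw [h2]
    _ = _ := by group

theorem Loc.co_one_eq {u : G} (hu : u ∈ Vz P) : h.co u 1 = 0 ↔ u ∈ Zs P := by
  have hco : h.co ⁅fr.σ 1, u⁆ = ![h.co u 1, 0] := by
    rw [h.co_comm _ hu, h.nat.std.up']
    ext i
    fin_cases i <;> simp [up, Matrix.mulVec, dotProduct, Fin.sum_univ_two]
  constructor
  · intro h0
    refine h.fix (fr.σ_mem 1) (fun h' => one_ne_zero (fr.σ_eq_zero 1 h')) hu ?_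
    rw [← h.co_eq_zero (h.comm_Vz _ hu), hco, h0]
    ext i; fin_cases i <;> rfl
  · intro hz
    have h1 : ⁅fr.σ 1, u⁆ = 1 := (comm_one_iff _ _).mpr (h.comm_Z (fr.σ_mem 1) hz)
    rw [h1, h.co_one] at hco
    exact (congrFun hco 0).symm

/-- A normal subgroup covering `P` modulo the core covers the linear group. -/
theorem Loc.rho_normal {N : Subgroup G} [hN : N.Normal] (hP : (P : Subgroup G) ≤ N ⊔ Cfsg.pCore p G)
    (γ : Matrix.SpecialLinearGroup (Fin 2) F) : ∃ n ∈ N, h.rho n = γ := by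
  obtain ⟨K, hK⟩ : ∃ K, K = N.map h.rho := ⟨_, rfl⟩
  haveI hKn : K.Normal := hK ▸ hN.map _ h.nat.std.surjective
  have hu : ∀ t, up t ∈ K := fun t => by
    have hm := hP (fr.σ_mem t)
    haveI := Frame.Q_normal (G := G) (p := p)
    rw [← SetLike.mem_coe, Subgroup.mul_normal] at hm
    obtain ⟨n, hn, c, hc, he⟩ := hm
    have he' : n * c = fr.σ t := he
    refine hK ▸ ⟨n, hn, ?_⟩
    rw [← h.nat.std.up' t, ← he', map_mul, h.rho_core hc, mul_one]
  have hw : (SL2Nat.wel : Matrix.SpecialLinearGroup (Fin 2) F) ∈ K := by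
    have e : (SL2Nat.wel : Matrix.SpecialLinearGroup (Fin 2) F) = up (-1) * low 1 * up (-1) := by
      refine Subtype.ext ?_
      simp only [Matrix.SpecialLinearGroup.coe_mul]
      ext i j
      fin_cases i <;> fin_cases j <;> simp [up, low, SL2Nat.wel, Matrix.mul_apply, Fin.sum_univ_two]
    have hl : ∀ t, low t ∈ K := fun t => by
      rw [SL2Nat.low_eq]; exact hKn.conj_mem _ (hu _) _
    rw [e]; exact mul_mem (mul_mem (hu _) (hl _)) (hu _)
  obtain ⟨n, hn, he⟩ := (hK ▸ (SL2Nat.generated K hu hw).ge (mem_top γ) : γ ∈ N.map h.rho)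
  exact ⟨n, hn, he⟩

/-- Upper triangular matrices lift to the normaliser of `P`. -/
theorem Loc.rho_normalizer {b : Matrix.SpecialLinearGroup (Fin 2) F} (hb : b ∈ bor) :
    ∃ n : G, (∀ s ∈ (P : Subgroup G), n * s * n⁻¹ ∈ (P : Subgroup G)) ∧ h.rho n = b := by
  obtain ⟨g, hg⟩ := h.nat.std.surjective b
  obtain ⟨H, hH⟩ : ∃ H, H = h.rho.ker ⊔ (P : Subgroup G) := ⟨_, rfl⟩
  have hgP : ∀ s ∈ (P : Subgroup G), g * s * g⁻¹ ∈ H := by
    intro s hs
    obtain ⟨t, ht⟩ := h.rho_P hs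
    obtain ⟨t', ht'⟩ := Nat2.mem_upG.mp
      ((Subgroup.mem_normalizer_iff.mp (Nat2.normalizes_upG (mem_bor.mp hb)) (up t)).mp (Nat2.mem_upG.mpr ⟨t, rfl⟩))
    have hk : g * s * g⁻¹ * (fr.σ t')⁻¹ ∈ h.rho.ker := by
      rw [MonoidHom.mem_ker, map_mul, map_mul, map_mul, map_inv, map_inv, hg, ht, h.nat.std.up', ht']
      group
    rw [hH]
    simpa using mul_mem (mem_sup_left hk) (mem_sup_right (S := h.rho.ker) (fr.σ_mem t'))
  obtain ⟨Pg, hPg⟩ : ∃ Pg : Sylow p G, (Pg : Subgroup G) = cj g (P : Subgroup G) :=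
    ⟨g • P, by rw [Sylow.coe_subgroup_smul]; rfl⟩
  have hPgH : (Pg : Subgroup G) ≤ H := by rw [hPg]; rintro _ ⟨s, hs, rfl⟩; exact hgP s hs
  obtain ⟨k, hk⟩ := MulAction.exists_smul_eq H (Pg.subtype hPgH) (P.subtype (hH ▸ le_sup_right))
  have hk' : ∀ s ∈ (P : Subgroup G), (k : G) * (g * s * g⁻¹) * (k : G)⁻¹ ∈ (P : Subgroup G) := by
    intro s hs
    have h1 : (⟨g * s * g⁻¹, hgP s hs⟩ : H) ∈ ((Pg.subtype hPgH : Sylow p H) : Subgroup H) := by
      show g * s * g⁻¹ ∈ (Pg : Subgroup G)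
      rw [hPg]; exact conj_mem_cj hs
    have h2 := Subgroup.smul_mem_pointwise_smul _ (MulAut.conj k) _ h1
    rw [← Sylow.coe_subgroup_smul] at h2
    exact (congrArg (fun X : Sylow p H => (X : Subgroup H)) hk).le h2
  have hkm : (k : G) ∈ ((h.rho.ker ⊔ (P : Subgroup G) : Subgroup G) : Set G) := hH ▸ k.2
  rw [Subgroup.normal_mul] at hkm
  obtain ⟨c, hc, s0, hs0, hks⟩ := hkm
  have hks' : c * s0 = (k : G) := hks
  refine ⟨s0⁻¹ * k * g, fun s hs => ?_, ?_⟩
  · have h1 := hk' s hs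
    rw [show s0⁻¹ * (k : G) * g * s * (s0⁻¹ * (k : G) * g)⁻¹ = s0⁻¹ * ((k : G) * (g * s * g⁻¹) * (k : G)⁻¹) * s0 by group]
    exact mul_mem (mul_mem (inv_mem hs0) h1) hs0
  · rw [← hks', map_mul, map_mul, map_mul, map_inv, (MonoidHom.mem_ker.mp hc), one_mul, inv_mul_cancel, one_mul, hg]

theorem Loc.res_V {v : G} (hv : v ∈ Vz P) (hres : ∀ l ∈ res p G, l * v = v * l) : v ∈ Cz P := by
  haveI := h.Vz_normal
  haveI := res_normal (G := G) p
  haveI := PushUnique.centralizer_normal' (res p G)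
  have hW : Cz P ≤ Vz P ⊓ centralizer (res p G : Set G) := fun c hc =>
    ⟨hc.1, mem_centralizer_iff.mpr fun l _ => Subgroup.mem_center_iff.mp hc.2 l⟩
  rcases h.nat.irr (Vz P ⊓ centralizer (res p G : Set G)) inferInstance hW inf_le_left with he | he
  · exact he ▸ ⟨hv, mem_centralizer_iff.mpr fun l hl => hres l hl⟩
  · exfalso
    refine h.v.Z_not_central fun z hz => h.central_of (res_sup_sylow P) hz fun n hn => ?_
    exact mem_centralizer_iff.mp (he.ge (h.v.Z_le hz)).2 n hn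

theorem Loc.card_F : ∃ n, 1 ≤ n ∧ Fintype.card F = p ^ n := by
  obtain ⟨j, hj⟩ := IsPGroup.iff_card.mp P.isPGroup'
  have h1 := fr.card_S
  rw [hj] at h1
  obtain ⟨i, -, hi⟩ := (Nat.dvd_prime_pow hp.out).mp (Dvd.intro _ h1.symm : Fintype.card F ∣ p ^ j)
  refine ⟨i, Nat.one_le_iff_ne_zero.mpr fun h0 => ?_, hi⟩
  rw [h0, pow_zero] at hi
  exact absurd hi Fintype.one_lt_card.ne'

theorem Loc.charP : CharP F p := by
  obtain ⟨n, -, hn⟩ := h.card_F
  exact Nat2.charP_of_card hn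

theorem Loc.co_surj (x : Fin 2 → F) : ∃ v ∈ Vz P, h.co v = x := by
  let f : Vz P →* Multiplicative (Fin 2 → F) :=
    { toFun := fun v => Multiplicative.ofAdd (h.co v)
      map_one' := by simp [h.co_one]
      map_mul' := fun a b => by rw [Subgroup.coe_mul, h.co_mul a.2 b.2]; rfl }
  have hker : f.ker = (Cz P).subgroupOf (Vz P) := by
    ext v
    rw [MonoidHom.mem_ker, Subgroup.mem_subgroupOf, ← h.co_eq_zero v.2]
    exact ⟨fun he => Multiplicative.ofAdd.injective he, fun he => congrArg Multiplicative.ofAdd he⟩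
  have h1 := Subgroup.card_mul_index f.ker
  rw [Subgroup.index_ker, hker, Nat.card_congr (subgroupOfEquivOfLe (show Cz P ≤ Vz P from inf_le_left)).toEquiv,
    h.card_V, h.nat.card_L] at h1
  have hr : Nat.card f.range = Nat.card (Multiplicative (Fin 2 → F)) := by
    rw [Nat.card_congr (Multiplicative.toAdd (α := Fin 2 → F)), Nat.card_fun, Nat.card_fin, Nat.card_eq_fintype_card (α := F)]
    refine Nat.eq_of_mul_eq_mul_left (Nat.card_pos (α := Cz P)) ?_
    rw [h1]; ring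
  have htop : f.range = ⊤ := Subgroup.eq_top_of_card_eq _ hr
  obtain ⟨v, hv⟩ := htop.ge (mem_top (Multiplicative.ofAdd x))
  exact ⟨v, v.2, Multiplicative.ofAdd.injective hv⟩

end Cfsg.Agent.Fus.GN
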