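import Mathlib
import Cfsg.Agent.Lib.Fus.GN.Local
import Cfsg.Agent.Lib.Grp.Frattini

/-!
# Pairs for pushing up: where the Frattini part of `P` lies, and chains of length zero
-/

set_option autoImplicit false
set_option linter.style.haveILetI false
set_option linter.unusedSectionVars false

namespace Cfsg.Agent.Fus.GN

open Subgroup Cfsg.Agent.Invol Cfsg.Agent.Invol.PushUp
open scoped commutatorElement

universe u

variable {G : Type u} [Group G] [Finite G] {p : ℕ} [hp : Fact p.Prime]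

/-- Bounds putting the deep part of `P` into a normal subgroup meeting the fixed line centrally. -/
structure Bounds (P : Sylow p G) (N W₁ : Subgroup G) : Prop where
  nor : N.Normal
  central : ∀ z ∈ Zs P, z ∈ N → z ∈ center G
  le : W₁ ≤ (P : Subgroup G)
  comm : ∀ a ∈ (P : Subgroup G), ∀ b ∈ (P : Subgroup G), ⁅a, b⁆ ∈ W₁
  pow : ∀ a ∈ (P : Subgroup G), a ^ p ∈ W₁
  deep : ∀ w ∈ W₁, ∀ a ∈ (P : Subgroup G), ∀ b ∈ (P : Subgroup G), ⁅⁅w, a⁆, b⁆ ∈ N
  wcomm : ∀ w ∈ W₁, ∀ w' ∈ W₁, ⁅w, w'⁆ ∈ N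
  wpow : ∀ w ∈ W₁, w ^ p ∈ N

/-- If generators commute modulo `W` and have their `p`-th powers there, so does everything. -/
theorem elementary_of_gens {P W : Subgroup G} (hW : NIn P W) (T : Set G)
    (hgen : closure T = P) (hcomm : ∀ a ∈ T, ∀ b ∈ T, ⁅a, b⁆ ∈ W) (hpow : ∀ a ∈ T, a ^ p ∈ W) :
    (∀ a ∈ P, ∀ b ∈ P, ⁅a, b⁆ ∈ W) ∧ ∀ a ∈ P, a ^ p ∈ W := by
  have hT : ∀ a ∈ T, a ∈ P := fun a ha => hgen ▸ subset_closure ha
  haveI : (W.subgroupOf P).Normal := ⟨fun x hx a => hW a a.2 x hx⟩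
  obtain ⟨π, hπ⟩ : ∃ π, π = QuotientGroup.mk' (W.subgroupOf P) := ⟨_, rfl⟩
  have hπ1 : ∀ x, π x = 1 ↔ (x : G) ∈ W := fun x => hπ ▸ QuotientGroup.eq_one_iff x
  have hgen' : closure (P.subtype ⁻¹' T) = (⊤ : Subgroup P) := by
    refine map_injective P.subtype_injective ?_
    rw [MonoidHom.map_closure, Set.image_preimage_eq_of_subset (fun x hx => ⟨⟨x, hT x hx⟩, rfl⟩), hgen,
      ← MonoidHom.range_eq_map, P.range_subtype]
  have hc : ∀ x y : P, π x * π y = π y * π x := by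
    have h1 : ∀ x ∈ P.subtype ⁻¹' T, ∀ y : P, π x * π y = π y * π x := by
      intro x hx y
      refine closure_induction (p := fun y _ => π x * π y = π y * π x) (fun z hz => ?_) (by simp)
        (fun a b _ _ ha hb => by rw [map_mul, ← mul_assoc, ha, mul_assoc, hb, mul_assoc])
        (fun a _ ha => by rw [map_inv]; exact (Commute.inv_right ha).eq) (hgen'.ge (mem_top y))
      rw [← commutatorElement_eq_one_iff_mul_comm, ← map_commutatorElement, hπ1]
      exact hcomm _ hx _ hz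
    intro x y
    refine closure_induction (p := fun x _ => π x * π y = π y * π x) (fun z hz => h1 z hz y) (by simp)
      (fun a b _ _ ha hb => by rw [map_mul, mul_assoc, hb, ← mul_assoc, ha, mul_assoc])
      (fun a _ ha => by rw [map_inv]; exact (Commute.inv_left ha).eq) (hgen'.ge (mem_top x))
  refine ⟨fun a ha b hb => ?_, fun a ha => ?_⟩
  · have h1 := hc ⟨a, ha⟩ ⟨b, hb⟩
    rw [← commutatorElement_eq_one_iff_mul_comm, ← map_commutatorElement, hπ1] at h1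
    exact h1
  · suffices h1 : π (⟨a, ha⟩ : P) ^ p = 1 by
      rw [← map_pow, hπ1] at h1
      exact h1
    refine closure_induction (p := fun x _ => π x ^ p = 1) (fun z hz => ?_) (by simp)
      (fun a b _ _ ha hb => by rw [map_mul, Commute.mul_pow (hc a b), ha, hb, one_mul])
      (fun a _ ha => by rw [map_inv, inv_pow, ha, inv_one]) (hgen'.ge (mem_top (⟨a, ha⟩ : P)))
    rw [← map_pow, hπ1]
    exact hpow _ hz

/-- The Frattini subgroup of `H`, inside the ambient group. -/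
def fr' (H : Subgroup G) : Subgroup G := (frattini H).map H.subtype

theorem fr'_le (H : Subgroup G) : fr' H ≤ H := map_subtype_le _

instance fr'_normal (H : Subgroup G) [H.Normal] : (fr' H).Normal := Grp.normal_of_characteristic_map _

theorem pow_mem_fr' {H : Subgroup G} (hH : IsPGroup p H) {a : G} (ha : a ∈ H) : a ^ p ∈ fr' H :=
  ⟨⟨a, ha⟩ ^ p, Grp.pGroup_pow_mem_frattini hH _, rfl⟩

theorem comm_mem_fr' {H : Subgroup G} (hH : IsPGroup p H) {a b : G} (ha : a ∈ H) (hb : b ∈ H) : ⁅a, b⁆ ∈ fr' H :=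
  ⟨⁅(⟨a, ha⟩ : H), ⟨b, hb⟩⁆, Grp.pGroup_commutator_le_frattini hH (commutator_mem_commutator (mem_top _) (mem_top _)), rfl⟩

theorem fr'_le_of {H K : Subgroup G} (hn : NIn H K) (hc : ∀ a ∈ H, ∀ b ∈ H, ⁅a, b⁆ ∈ K)
    (hpw : ∀ a ∈ H, a ^ p ∈ K) : fr' H ≤ K := by
  rw [fr', map_le_iff_le_comap]
  haveI : (K.subgroupOf H).Normal := ⟨fun x hx a => hn a a.2 x hx⟩
  refine Grp.frattini_le_of_elementary (N := K.subgroupOf H) hp.out ?_ fun x => hpw x x.2
  rw [commutator_def, commutator_le]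
  exact fun a _ b _ => hc a a.2 b b.2

/-- Power of a product with central commutator. -/
theorem mul_pow_central {a b z : G} (hz : b * a = z * (a * b)) (hza : z * a = a * z) (hzb : z * b = b * z) (n : ℕ) :
    (a * b) ^ n = a ^ n * b ^ n * z ^ (n.choose 2) := by
  have hza' : Commute z a := hza
  have hzb' : Commute z b := hzb
  have hpw : ∀ m : ℕ, b ^ m * a = z ^ m * (a * b ^ m) := by
    intro m
    induction m with
    | zero => simp
    | succ m ih =>
      calc b ^ (m + 1) * a = b * (b ^ m * a) := by rw [pow_succ', mul_assoc]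
        _ = z ^ m * (b * a) * b ^ m := by rw [ih, ← mul_assoc, (hzb'.pow_left m).eq.symm]; group
        _ = z ^ m * z * a * (b * b ^ m) := by rw [hz]; group
        _ = _ := by rw [← pow_succ, ← pow_succ', mul_assoc]
  induction n with
  | zero => simp
  | succ n ih =>
    have h1 : Commute (z ^ n.choose 2) (a * b) := (hza'.mul_right hzb').pow_left _
    rw [pow_succ, ih, mul_assoc (a ^ n * b ^ n), h1.eq, ← mul_assoc, mul_assoc (a ^ n) (b ^ n), ← mul_assoc (b ^ n), hpw,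
      Nat.choose_succ_succ, Nat.choose_one_right, pow_add, pow_succ a, pow_succ b]
    have h2 : Commute (z ^ n) a := hza'.pow_left n
    have h3 : Commute (z ^ n) (b ^ n) := (hzb'.pow_left n).pow_right n
    have h4 : Commute (z ^ n) b := hzb'.pow_left n
    have hall : Commute (z ^ n) (a * b ^ n * b) := (h2.mul_right h3).mul_right h4
    calc a ^ n * (z ^ n * (a * b ^ n) * b) * z ^ n.choose 2
        = a ^ n * (z ^ n * (a * b ^ n * b)) * z ^ n.choose 2 := by group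
      _ = a ^ n * (a * b ^ n * b * z ^ n) * z ^ n.choose 2 := by rw [hall.eq]
      _ = _ := by group

variable {P : Sylow p G} {F : Type} [Field F] [Fintype F] {fr : Frame P F} (h : Loc fr)
include h

/-- A chain of length zero bounds the Frattini part of `P` inside the core. -/
theorem Loc.zero_bounds {W : Subgroup G} (hW : Mem (P : Subgroup G) W) (hWn : NIn (P : Subgroup G) W)
    (hWc : ∀ a ∈ W, ∀ b ∈ W, a * b = b * a) (hWe : ∀ w ∈ W, w ^ p = 1)
    (hWm : ∀ s ∈ (P : Subgroup G), ∀ w ∈ W, ⁅s, w⁆ ∈ Zs P)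
    (hWa : ∀ M, Mem (P : Subgroup G) M → M ≤ W → M = Zs P ∨ M = W) (hWQ : ¬ W ≤ Cfsg.pCore p G) :
    ∃ N W₁, Bounds P N W₁ ∧ (∀ w ∈ W₁, ∀ a ∈ (P : Subgroup G), ⁅w, a⁆ ∈ N) ∧
      (p ≠ 2 → ∀ a ∈ (P : Subgroup G), a ^ p ∈ N) := by
  classical
  obtain ⟨Q, hQ⟩ : ∃ Q, Q = Cfsg.pCore p G := ⟨_, rfl⟩
  haveI hQn : Q.Normal := hQ ▸ Frame.Q_normal
  have hQP : Q ≤ (P : Subgroup G) := hQ ▸ Frame.Q_le_S
  have hQp : IsPGroup p Q := P.isPGroup'.to_le hQP
  have hinf : W ⊓ Q = Zs P := (hWa _ (hW.inf (hQ ▸ h.Q_mem)) inf_le_left).resolve_right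
    fun he => hWQ (hQ ▸ he.ge.trans inf_le_right)
  have hVQ : Vz P ≤ Q := hQ ▸ h.v.le_core
  have hVR : Vz P ⊔ cz (P : Subgroup G) W = (P : Subgroup G) := by
    rw [← (h.V_mem.sup hW.cz).cz_cz, cz_sup, hW.cz_cz, h.cz_V, ← hQ, inf_comm, hinf, h.cz_Z]
  obtain ⟨D, hD⟩ : ∃ D, D = Q ⊓ cz (P : Subgroup G) W := ⟨_, rfl⟩
  have hDn : NIn (P : Subgroup G) D := hD ▸ (NIn.of_normal hQn).inf hWn.cz
  have hDQ : D ≤ Q := hD ▸ inf_le_left
  have hDW : ∀ d ∈ D, ∀ w ∈ W, w * d = d * w := fun d hd w hw => (mem_cz.mp (hD ▸ hd : d ∈ Q ⊓ cz _ W).2).2 w hw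
  have hQdec : ∀ x ∈ Q, ∃ v ∈ Vz P, ∃ d ∈ D, v * d = x := fun x hx => by
    obtain ⟨v, hv, d, hd, rfl⟩ := h.V_mem.exists_mul hW.cz (hVR.ge (hQP hx))
    exact ⟨v, hv, d, hD ▸ ⟨by simpa using mul_mem (inv_mem (hVQ hv)) hx, hd⟩, rfl⟩
  have hVc : ∀ x ∈ Q, ∀ v ∈ Vz P, x * v = v * x := hQ ▸ h.v.cent_core
  obtain ⟨N, hN⟩ : ∃ N, N = fr' Q := ⟨_, rfl⟩
  haveI hNn : N.Normal := hN ▸ fr'_normal Q
  have hNQ : N ≤ Q := hN ▸ fr'_le Q
  have hND : N ≤ D := by
    rw [hN]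
    refine fr'_le_of (p := p) (fun a ha x hx => hDn a (hQP ha) x hx) (fun a ha b hb => ?_) fun a ha => ?_
    · obtain ⟨v, hv, d, hd, rfl⟩ := hQdec a ha
      obtain ⟨v', hv', d', hd', rfl⟩ := hQdec b hb
      rw [show v' * d' = d' * v' from (hVc d' (hDQ hd') v' hv').symm, ← hVc d (hDQ hd) v hv]
      rw [comm_left_drop ((hVc _ (mul_mem (hDQ hd') (hVQ hv')) v hv)).symm, comm_right_drop (hVc d (hDQ hd) v' hv')]
      rw [commutatorElement_def]
      exact mul_mem (mul_mem (mul_mem hd hd') (inv_mem hd)) (inv_mem hd')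
    · obtain ⟨v, hv, d, hd, rfl⟩ := hQdec a ha
      rw [Commute.mul_pow (hVc d (hDQ hd) v hv).symm, h.v.exp v hv, one_mul]
      exact pow_mem hd p
  obtain ⟨w₀, hw₀, hw₀Q⟩ := SetLike.not_le_iff_exists.mp hWQ
  obtain ⟨W₁, hW₁⟩ : ∃ W₁, W₁ = Zs P ⊔ N := ⟨_, rfl⟩
  have hNP : N ≤ (P : Subgroup G) := hNQ.trans hQP
  have hW₁dec : ∀ w ∈ W₁, ∃ z ∈ Zs P, ∃ n ∈ N, z * n = w := fun w hw => by
    rw [hW₁, ← SetLike.mem_coe, Subgroup.mul_normal] at hw
    exact hw
  have hcentral : ∀ z ∈ Zs P, z ∈ N → z ∈ center G := fun z hz hzN => by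
    haveI := PushUnique.centralizer_normal' N
    refine h.central_of (h.sup_top (N := centralizer (N : Set G)) (hW.le hw₀) ?_ hw₀Q) hz
      fun n hn => (mem_centralizer_iff.mp hn z hzN).symm
    exact mem_centralizer_iff.mpr fun n hn => (hDW n (hND hn) w₀ hw₀).symm
  have hflat : ∀ w ∈ W₁, ∀ a ∈ (P : Subgroup G), ⁅w, a⁆ ∈ N := by
    intro w hw a ha
    obtain ⟨z, hz, n, hn, rfl⟩ := hW₁dec w hw
    rw [cmul_left, (comm_one_iff z a).mpr (h.comm_Z ha hz).symm, mul_one]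
    refine hNn.conj_mem _ ?_ _
    rw [commutatorElement_def, mul_assoc, mul_assoc]
    refine mul_mem hn ?_
    rw [← mul_assoc]; exact hNn.conj_mem _ (inv_mem hn) a
  have hW₁n : NIn (P : Subgroup G) W₁ := hW₁ ▸
    NIn.sup (fun a ha z hz => by rw [h.comm_Z ha hz, mul_inv_cancel_right]; exact hz) (NIn.of_normal hNn)
  have hgen : closure ((W : Set G) ∪ (Vz P : Set G) ∪ (D : Set G)) = (P : Subgroup G) := by
    refine le_antisymm ((closure_le _).mpr ?_) ?_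
    · rintro x ((hx | hx) | hx)
      · exact hW.le hx
      · exact h.V_le hx
      · exact hQP (hDQ hx)
    · rw [← h.sup_core hW hWQ, ← hQ]
      refine sup_le (fun x hx => subset_closure (Or.inl (Or.inl hx))) fun x hx => ?_
      obtain ⟨v, hv, d, hd, rfl⟩ := hQdec x hx
      exact mul_mem (subset_closure (Or.inl (Or.inr hv))) (subset_closure (Or.inr hd))
  have hDN : ∀ a ∈ D, ∀ b ∈ D, ⁅a, b⁆ ∈ N := fun a ha b hb => hN ▸ comm_mem_fr' hQp (hDQ ha) (hDQ hb)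
  have hDp : ∀ a ∈ D, a ^ p ∈ N := fun a ha => hN ▸ pow_mem_fr' hQp (hDQ ha)
  have hzW : ∀ {z}, z ∈ Zs P → z ∈ W₁ := fun hz => hW₁ ▸ mem_sup_left hz
  have hnW : ∀ {n}, n ∈ N → n ∈ W₁ := fun hn => hW₁ ▸ mem_sup_right hn
  have hone : ∀ {a b : G}, a * b = b * a → ⁅a, b⁆ ∈ W₁ := fun hab => by rw [(comm_one_iff _ _).mpr hab]; exact one_mem _
  have hel := elementary_of_gens (p := p) hW₁n _ hgen (by
    rintro a ((ha | ha) | ha) b ((hb | hb) | hb)
    · exact hone (hWc a ha b hb)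
    · exact hzW (by rw [← commutatorElement_inv]; exact inv_mem (hWm b (h.V_le hb) a ha))
    · exact hone (hDW b hb a ha)
    · exact hzW (hWm a (h.V_le ha) b hb)
    · exact hone (h.v.comm a ha b hb)
    · exact hone (hVc b (hDQ hb) a ha).symm
    · exact hone (hDW a ha b hb).symm
    · exact hone (hVc a (hDQ ha) b hb)
    · exact hnW (hDN a ha b hb)) (by
    rintro a ((ha | ha) | ha)
    · rw [hWe a ha]; exact one_mem _
    · rw [h.v.exp a ha]; exact one_mem _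
    · exact hnW (hDp a ha))
  refine ⟨N, W₁, ⟨hNn, hcentral, ?_, hel.1, hel.2, fun w hw a ha b hb => ?_, fun w hw w' hw' => ?_, fun w hw => ?_⟩, hflat, ?_⟩
  · rw [hW₁]; exact sup_le (fun z hz => hz.1) hNP
  · have h1 := hflat w hw a ha
    rw [commutatorElement_def (⁅w, a⁆) b, mul_assoc, mul_assoc]
    refine mul_mem h1 ?_
    rw [← mul_assoc]; exact hNn.conj_mem _ (inv_mem h1) b
  · obtain ⟨z, hz, n, hn, rfl⟩ := hW₁dec w' hw'
    exact hflat w hw _ (mul_mem hz.1 (hNP hn))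
  · obtain ⟨z, hz, n, hn, rfl⟩ := hW₁dec w hw
    rw [Commute.mul_pow (h.comm_Z (hNP hn) hz).symm, hz.2.2, one_mul]
    exact pow_mem hn p
  · intro hp2 a ha
    obtain ⟨w, hw, x, hx, rfl⟩ := hW.exists_mul h.Q_mem ((h.sup_core hW hWQ).ge ha)
    obtain ⟨v, hv, d, hd, rfl⟩ := hQdec x (hQ ▸ hx)
    have hc : Commute (w * v) d := Commute.mul_left (hDW d hd w hw) (hVc d (hDQ hd) v hv).symm
    have hzz : ⁅v, w⁆ ∈ Zs P := hWm v (h.V_le hv) w hw
    have he := mul_pow_central (a := w) (b := v) (z := ⁅v, w⁆) (by simp only [commutatorElement_def]; group)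
      (h.comm_Z (hW.le hw) hzz).symm (h.comm_Z (h.V_le hv) hzz).symm p
    rw [← mul_assoc, hc.mul_pow, he, hWe w hw, h.v.exp v hv, one_mul, one_mul]
    obtain ⟨j, hj⟩ : p ∣ p.choose 2 := hp.out.dvd_choose_self (by norm_num) (lt_of_le_of_ne hp.out.two_le (Ne.symm hp2))
    rw [hj, pow_mul, hzz.2.2, one_pow, one_mul]
    exact hDp d hd

end Cfsg.Agent.Fus.GN
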