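import Mathlib
import Cfsg.Agent.Lib.Fus.GN.Local

/-!
# Pairs for pushing up: splitting a normal member over the residual
-/

set_option autoImplicit false
set_option linter.style.haveILetI false
set_option linter.unusedSectionVars false

namespace Cfsg.Agent.Fus.GN

open Subgroup Cfsg.Agent.Invol Cfsg.Agent.Invol.PushUp
open Cfsg.Agent.Grp.SL2 (up low)
open scoped commutatorElement

universe u

variable {G : Type u} [Group G] [Finite G] {p : ℕ} [hp : Fact p.Prime]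
variable {P : Sylow p G} {F : Type} [Field F] [Fintype F] {fr : Frame P F} (h : Loc fr)
include h

/-- The elements acting trivially on `D` modulo `Vz`. -/
def Loc.triv (D : Subgroup G) : Subgroup G where
  carrier := {g | ∀ d ∈ D, ⁅g, d⁆ ∈ Vz P}
  one_mem' := fun d _ => by simp [one_mem]
  mul_mem' := by
    intro a b ha hb d hd
    rw [cmul_left]
    exact mul_mem (h.conj_Vz a (hb d hd)) (ha d hd)
  inv_mem' := by
    intro a ha d hd
    rw [show ⁅a⁻¹, d⁆ = a⁻¹ * ⁅a, d⁆⁻¹ * a⁻¹⁻¹ by simp only [commutatorElement_def]; group]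
    exact h.conj_Vz _ (inv_mem (ha d hd))

theorem Loc.triv_normal (D : Subgroup G) [hD : D.Normal] : (h.triv D).Normal :=
  ⟨fun a ha g d hd => by
    have h1 : ⁅a, g⁻¹ * d * g⁆ ∈ Vz P := ha _ (by simpa using hD.conj_mem d hd g⁻¹)
    rw [show ⁅g * a * g⁻¹, d⁆ = g * ⁅a, g⁻¹ * d * g⁆ * g⁻¹ by simp only [commutatorElement_def]; group]
    exact h.conj_Vz g h1⟩

/-- The core part of the kernel kills `D` modulo `Cz`. -/
theorem Loc.triv_core {D X : Subgroup G} [hDn : D.Normal] (hD : Mem (P : Subgroup G) D)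
    (hDQ : D ≤ Cfsg.pCore p G) (hXQ : (P : Subgroup G) ≤ X ⊔ Cfsg.pCore p G)
    (hXD : ∀ x ∈ X, ∀ d ∈ D, ⁅x, d⁆ ∈ Vz P) :
    ∀ k ∈ h.triv D, k ∈ Cfsg.pCore p G → ∀ d ∈ D, ⁅k, d⁆ ∈ Cz P := by
  classical
  obtain ⟨H, hH⟩ : ∃ H, H = h.triv D := ⟨_, rfl⟩
  haveI hHn : H.Normal := hH ▸ h.triv_normal D
  haveI hQn := Frame.Q_normal (G := G) (p := p)
  have hXH : X ≤ H := hH ▸ hXD
  have hHV : ∀ g ∈ H, ∀ d ∈ D, ⁅g, d⁆ ∈ Vz P := hH ▸ fun g hg => hg
  obtain ⟨H₀, hH₀⟩ : ∃ H₀, H₀ = H ⊓ Cfsg.pCore p G := ⟨_, rfl⟩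
  haveI hH₀n : H₀.Normal := hH₀ ▸ inferInstance
  rw [← hH]
  suffices hgoal : ∀ k ∈ H₀, ∀ d ∈ D, ⁅k, d⁆ ∈ Cz P from fun k hk hkQ => hgoal k (hH₀ ▸ ⟨hk, hkQ⟩)
  have hmem₀ : ∀ {k}, k ∈ H₀ → k ∈ H ∧ k ∈ Cfsg.pCore p G := fun {k} hk => (hH₀ ▸ hk : k ∈ H ⊓ Cfsg.pCore p G)
  have hV : ∀ k ∈ H₀, ∀ d ∈ D, ⁅k, d⁆ ∈ Vz P := fun k hk d hd => hHV k (hmem₀ hk).1 d hd
  have hfixV : ∀ a ∈ Cfsg.pCore p G, ∀ v ∈ Vz P, a * v * a⁻¹ = v := fun a ha v hv => by
    rw [h.v.cent_core a ha v hv, mul_inv_cancel_right]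
  -- the displacement of `k`
  let φ : G → D → (Fin 2 → F) := fun k d => h.co ⁅k, (d : G)⁆
  have hφk : ∀ a ∈ H₀, ∀ b ∈ H₀, φ (a * b) = φ a + φ b := by
    intro a ha b hb
    funext d
    show h.co _ = h.co _ + h.co _
    rw [cmul_left, hfixV a (hmem₀ ha).2 _ (hV b hb d d.2), h.co_mul (hV b hb d d.2) (hV a ha d d.2), add_comm]
  have hφinv : ∀ a ∈ H₀, φ a⁻¹ = - φ a := fun a ha => by
    have h1 := hφk a⁻¹ (inv_mem ha) a ha
    rw [inv_mul_cancel] at h1
    have h0 : φ 1 = 0 := funext fun d => by show h.co _ = 0; rw [commutatorElement_one_left, h.co_one]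
    rw [h0] at h1
    exact eq_neg_of_add_eq_zero_left h1.symm
  have hφd : ∀ k ∈ H₀, ∀ a b : D, φ k (a * b) = φ k a + φ k b := by
    intro k hk a b
    show h.co _ = h.co _ + h.co _
    rw [Subgroup.coe_mul, cmul_right, hfixV _ (hDQ a.2) _ (hV k hk b b.2), h.co_mul (hV k hk a a.2) (hV k hk b b.2)]
  have hexact : ∀ g ∈ H, ∀ k ∈ H₀, ∀ d ∈ D, ⁅g * k * g⁻¹, d⁆ = g * ⁅k, d⁆ * g⁻¹ := by
    intro g hg k hk d hd
    rw [conj_comm, show g * d * g⁻¹ = ⁅g, d⁆ * d by simp only [commutatorElement_def]; group]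
    have hk' := hH₀n.conj_mem k hk g
    have hc : g * k * g⁻¹ * ⁅g, d⁆ = ⁅g, d⁆ * (g * k * g⁻¹) := h.v.cent_core _ (hmem₀ hk').2 _ (hHV g hg d hd)
    rw [cmul_right, (comm_one_iff _ _).mpr hc, one_mul, h.v.comm _ (hHV g hg d hd) _ (hV _ hk' d hd),
      mul_inv_cancel_right]
  have hφconj : ∀ g ∈ H, ∀ k ∈ H₀, φ (g * k * g⁻¹) = fun d => (h.rho g : Matrix (Fin 2) (Fin 2) F).mulVec (φ k d) := by
    intro g hg k hk
    funext d
    show h.co _ = _
    rw [hexact g hg k hk d d.2, h.co_conj g (hV k hk d d.2)]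
  -- the kernel on `D`
  let K : Subgroup G :=
    { carrier := {d | d ∈ D ∧ ∀ k ∈ H₀, ⁅k, d⁆ ∈ Cz P}
      one_mem' := ⟨one_mem _, fun k _ => by simp [one_mem]⟩
      mul_mem' := by
        rintro a b ⟨ha, ha'⟩ ⟨hb, hb'⟩
        refine ⟨mul_mem ha hb, fun k hk => ?_⟩
        rw [cmul_right]
        exact mul_mem (ha' k hk) ((inferInstance : (Cz P).Normal).conj_mem _ (hb' k hk) a)
      inv_mem' := by
        rintro a ⟨ha, ha'⟩
        refine ⟨inv_mem ha, fun k hk => ?_⟩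
        rw [show ⁅k, a⁻¹⁆ = a⁻¹ * ⁅k, a⁆⁻¹ * a⁻¹⁻¹ by simp only [commutatorElement_def]; group]
        exact (inferInstance : (Cz P).Normal).conj_mem _ (inv_mem (ha' k hk)) _ }
  have hKD : K ≤ D := fun d hd => hd.1
  suffices hDK : D ≤ K from fun k hk d hd => (hDK hd).2 k hk
  -- the subgroup commuting with `K`
  obtain ⟨R, hR⟩ : ∃ R, R = ⁅H, H₀⁆ := ⟨_, rfl⟩
  haveI hRn : R.Normal := hR ▸ inferInstance
  have hR₀ : R ≤ H₀ := hR ▸ commutator_le_right H H₀
  have hRP : R ≤ (P : Subgroup G) := fun r hr => Frame.Q_le_S (hmem₀ (hR₀ hr)).2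
  have hRK : R ≤ cz (P : Subgroup G) K := by
    rw [hR, commutator_le]
    intro g hg k hk
    refine mem_cz.mpr ⟨hRP (hR ▸ commutator_mem_commutator hg hk), fun d hd => ?_⟩
    refine ((comm_one_iff _ _).mp ?_).symm
    have hc := Subgroup.mem_center_iff.mp (hd.2 k hk).2
    rw [show ⁅g, k⁆ = g * k * g⁻¹ * k⁻¹ from commutatorElement_def g k, cmul_left, hexact g hg k hk d hd.1,
      show g * ⁅k, d⁆ * g⁻¹ = ⁅k, d⁆ by rw [hc g, mul_inv_cancel_right],
      hfixV _ (hmem₀ (hH₀n.conj_mem k hk g)).2 _ (hV _ (inv_mem hk) d hd.1),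
      show ⁅k⁻¹, d⁆ = k⁻¹ * ⁅k, d⁆⁻¹ * k⁻¹⁻¹ by simp only [commutatorElement_def]; group,
      hfixV _ (inv_mem (hmem₀ hk).2) _ (inv_mem (hd.2 k hk).1), inv_mul_cancel]
  -- the image
  let Y : AddSubgroup (D → (Fin 2 → F)) :=
    { carrier := {f | ∃ r ∈ R, φ r = f}
      zero_mem' := ⟨1, one_mem _, funext fun d => by show h.co _ = 0; rw [commutatorElement_one_left, h.co_one]⟩
      add_mem' := by rintro _ _ ⟨a, ha, rfl⟩ ⟨b, hb, rfl⟩; exact ⟨a * b, mul_mem ha hb, hφk a (hR₀ ha) b (hR₀ hb)⟩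
      neg_mem' := by rintro _ ⟨a, ha, rfl⟩; exact ⟨a⁻¹, inv_mem ha, hφinv a (hR₀ ha)⟩ }
  have hYinv : ∀ g ∈ H, ∀ f ∈ Y, (fun d => (h.rho g : Matrix (Fin 2) (Fin 2) F).mulVec (f d)) ∈ Y := by
    rintro g hg _ ⟨r, hr, rfl⟩
    exact ⟨g * r * g⁻¹, hRn.conj_mem r hr g, hφconj g hg r (hR₀ hr)⟩
  have hlift : ∀ γ : Matrix.SpecialLinearGroup (Fin 2) F, ∃ g ∈ H, h.rho g = γ :=
    h.rho_normal (hXQ.trans (sup_le_sup_right hXH _))
  have hdisp : ∀ γ : Matrix.SpecialLinearGroup (Fin 2) F, ∀ k ∈ H₀,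
      (fun d => (γ : Matrix (Fin 2) (Fin 2) F).mulVec (φ k d) - φ k d) ∈ Y := by
    intro γ k hk
    obtain ⟨g, hg, hγ⟩ := hlift γ
    refine ⟨⁅g, k⁆, hR ▸ commutator_mem_commutator hg hk, ?_⟩
    rw [commutatorElement_def, hφk _ (hH₀n.conj_mem k hk g) _ (inv_mem hk), hφconj g hg k hk, hφinv k hk, hγ]
    funext d
    simp [sub_eq_add_neg]
  let S₀ : Submodule F (D → F) :=
    { carrier := {f | ∀ t : F, (fun d => ![t * f d, 0]) ∈ Y ∧ (fun d => ![0, t * f d]) ∈ Y}
      zero_mem' := fun t => by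
        have e1 : (fun d : D => ![t * (0 : D → F) d, 0]) = 0 := by funext d i; fin_cases i <;> simp
        have e2 : (fun d : D => ![0, t * (0 : D → F) d]) = 0 := by funext d i; fin_cases i <;> simp
        rw [e1, e2]; exact ⟨zero_mem _, zero_mem _⟩
      add_mem' := by
        intro a b ha hb t
        have e1 : (fun d : D => ![t * (a + b) d, 0]) = (fun d => ![t * a d, 0]) + (fun d => ![t * b d, 0]) := by
          funext d i; fin_cases i <;> simp [mul_add]
        have e2 : (fun d : D => ![0, t * (a + b) d]) = (fun d => ![0, t * a d]) + (fun d => ![0, t * b d]) := by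
          funext d i; fin_cases i <;> simp [mul_add]
        rw [e1, e2]; exact ⟨add_mem (ha t).1 (hb t).1, add_mem (ha t).2 (hb t).2⟩
      smul_mem' := by
        intro c a ha t
        have := ha (t * c)
        simpa [mul_assoc] using this }
  have hS₀ : ∀ k ∈ H₀, ∀ i : Fin 2, (fun d => φ k d i) ∈ S₀ := by
    intro k hk
    have hup : ∀ t : F, (fun d => ![t * φ k d 1, 0]) ∈ Y := fun t => by
      convert hdisp (up t) k hk using 1
      funext d i; fin_cases i <;> simp [up, Matrix.mulVec, dotProduct, Fin.sum_univ_two]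
    have hlow : ∀ t : F, (fun d => ![0, t * φ k d 0]) ∈ Y := fun t => by
      convert hdisp (low t) k hk using 1
      funext d i; fin_cases i <;> simp [low, Matrix.mulVec, dotProduct, Fin.sum_univ_two]
    obtain ⟨g, hg, hgw⟩ := hlift SL2Nat.wel
    intro i t
    fin_cases i
    · refine ⟨?_, hlow t⟩
      convert hYinv g hg _ (hlow (-t)) using 1
      funext d i; fin_cases i <;> simp [hgw, SL2Nat.wel, Matrix.mulVec, dotProduct, Fin.sum_univ_two]
    · refine ⟨hup t, ?_⟩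
      convert hYinv g hg _ (hup t) using 1
      funext d i; fin_cases i <;> simp [hgw, SL2Nat.wel, Matrix.mulVec, dotProduct, Fin.sum_univ_two]
  -- counting
  obtain ⟨cD, hcD⟩ : ∃ cD, cD = cz (P : Subgroup G) D := ⟨_, rfl⟩
  have h1 : Nat.card S₀ * Nat.card S₀ * Nat.card ↥(R ⊓ cD) ≤ Nat.card R := by
    let ψ : R →* Multiplicative (D → (Fin 2 → F)) :=
      { toFun := fun r => Multiplicative.ofAdd (φ r)
        map_one' := congrArg Multiplicative.ofAdd (funext fun d => by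
          show h.co _ = 0; rw [OneMemClass.coe_one, commutatorElement_one_left, h.co_one])
        map_mul' := fun a b => congrArg Multiplicative.ofAdd (hφk a (hR₀ a.2) b (hR₀ b.2)) }
    have e := Subgroup.card_mul_index ψ.ker
    rw [Subgroup.index_ker, mul_comm] at e
    refine le_trans (Nat.mul_le_mul ?_ ?_) e.le
    · rw [← Nat.card_prod]
      refine Nat.card_le_card_of_injective (fun fg : S₀ × S₀ =>
        (⟨Multiplicative.ofAdd (fun d => ![(fg.1 : D → F) d, (fg.2 : D → F) d]), ?_⟩ : ψ.range)) ?_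
      · have hm : (fun d => ![(fg.1 : D → F) d, (fg.2 : D → F) d]) ∈ Y := by
          have e1 := (fg.1.2 1).1
          have e2 := (fg.2.2 1).2
          convert add_mem e1 e2 using 1
          funext d i; fin_cases i <;> simp
        obtain ⟨r, hr, he⟩ := hm
        exact ⟨⟨r, hr⟩, congrArg Multiplicative.ofAdd he⟩
      · rintro ⟨a, b⟩ ⟨a', b'⟩ he
        have he' := Multiplicative.ofAdd.injective (congrArg Subtype.val he)
        exact Prod.ext (Subtype.ext (funext fun d => congrFun (congrFun he' d) 0))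
          (Subtype.ext (funext fun d => congrFun (congrFun he' d) 1))
    · rw [← Nat.card_congr (subgroupOfEquivOfLe (inf_le_left : R ⊓ cD ≤ R)).toEquiv]
      refine card_le_of_le fun r hr => congrArg Multiplicative.ofAdd (funext fun d => ?_)
      show h.co _ = 0
      have hr' : (r : G) ∈ cD := (Subgroup.mem_subgroupOf.mp hr).2
      rw [hcD] at hr'
      have hc : (d : G) * (r : G) = (r : G) * (d : G) := (mem_cz.mp hr').2 d d.2
      rw [(comm_one_iff _ _).mpr hc.symm, h.co_one]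
  have h2 : Nat.card D ≤ Nat.card S₀ * Nat.card K := by
    let ev : D →* Multiplicative (Module.Dual F S₀) :=
      { toFun := fun d => Multiplicative.ofAdd
          { toFun := fun f => (f : D → F) d
            map_add' := fun _ _ => rfl
            map_smul' := fun _ _ => rfl }
        map_one' := congrArg Multiplicative.ofAdd (LinearMap.ext fun f => by
          show (f : D → F) 1 = 0
          obtain ⟨r, hr, he⟩ := (f.2 1).1
          have e0 := congrFun (congrFun he 1) 0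
          simp only [Matrix.cons_val_zero, one_mul] at e0
          rw [← e0]
          show h.co _ 0 = 0
          rw [OneMemClass.coe_one, commutatorElement_one_right, h.co_one]; rfl)
        map_mul' := fun a b => congrArg Multiplicative.ofAdd (LinearMap.ext fun f => by
          show (f : D → F) (a * b) = (f : D → F) a + (f : D → F) b
          obtain ⟨r, hr, he⟩ := (f.2 1).1
          have e0 := fun x => congrFun (congrFun he x) 0
          simp only [Matrix.cons_val_zero, one_mul] at e0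
          rw [← e0, ← e0, ← e0, hφd r (hR₀ hr)]; rfl) }
    have e := Subgroup.card_mul_index ev.ker
    rw [Subgroup.index_ker, mul_comm] at e
    haveI : Finite (Module.Dual F S₀) := Finite.of_equiv _ (Module.finBasis F S₀).toDualEquiv.toEquiv
    refine e.ge.trans (Nat.mul_le_mul ?_ ?_)
    · refine (Subgroup.card_le_card_group _).trans (le_of_eq ?_)
      rw [Nat.card_congr Multiplicative.toAdd]
      exact (Nat.card_congr (Module.finBasis F S₀).toDualEquiv.toEquiv).symm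
    · rw [← Nat.card_congr (subgroupOfEquivOfLe hKD).toEquiv]
      refine card_le_of_le fun d hd => ⟨d.2, fun k hk => ?_⟩
      refine (h.co_eq_zero (hV k hk d d.2)).mp (funext fun i => ?_)
      have := DFunLike.congr_fun (Multiplicative.ofAdd.injective (MonoidHom.mem_ker.mp hd)) ⟨_, hS₀ k hk i⟩
      exact this
  have h3 : Nat.card K * Nat.card (cz (P : Subgroup G) K) ≤ Nat.card D * Nat.card cD :=
    hcD ▸ hD.max K (hKD.trans (hDQ.trans Frame.Q_le_S))
  have h4 : Nat.card R * Nat.card cD ≤ Nat.card (cz (P : Subgroup G) K) * Nat.card ↥(R ⊓ cD) :=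
    (Invol.card_mul_le_card_sup R cD).trans (Nat.mul_le_mul_right _ (card_le_of_le (sup_le hRK (hcD ▸ cz_anti hKD))))
  have hpos : 0 < Nat.card cD := Nat.card_pos
  have hpos' : 0 < Nat.card ↥(R ⊓ cD) := Nat.card_pos
  have h5 : Nat.card S₀ * Nat.card S₀ * Nat.card cD ≤ Nat.card (cz (P : Subgroup G) K) := by
    refine Nat.le_of_mul_le_mul_right (le_trans ?_ h4) hpos'
    calc Nat.card S₀ * Nat.card S₀ * Nat.card cD * Nat.card ↥(R ⊓ cD)
        = Nat.card S₀ * Nat.card S₀ * Nat.card ↥(R ⊓ cD) * Nat.card cD := by ring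
      _ ≤ _ := Nat.mul_le_mul_right _ h1
  have hKpos : 0 < Nat.card K := Nat.card_pos
  have h6 : Nat.card S₀ ≤ 1 := by
    refine Nat.le_of_mul_le_mul_right (c := Nat.card K * Nat.card cD * Nat.card S₀) ?_
      (Nat.mul_pos (Nat.mul_pos hKpos hpos) Nat.card_pos)
    calc Nat.card S₀ * (Nat.card K * Nat.card cD * Nat.card S₀)
        = Nat.card K * (Nat.card S₀ * Nat.card S₀ * Nat.card cD) := by ring
      _ ≤ Nat.card K * Nat.card (cz (P : Subgroup G) K) := Nat.mul_le_mul_left _ h5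
      _ ≤ Nat.card D * Nat.card cD := h3
      _ ≤ Nat.card S₀ * Nat.card K * Nat.card cD := Nat.mul_le_mul_right _ h2
      _ = 1 * (Nat.card K * Nat.card cD * Nat.card S₀) := by ring
  have h7 : Nat.card D ≤ Nat.card K := h2.trans (by
    calc Nat.card S₀ * Nat.card K ≤ 1 * Nat.card K := Nat.mul_le_mul_right _ h6
      _ = Nat.card K := one_mul _)
  exact (eq_of_le_of_card_ge hKD h7).ge

/-- A normal member inside the core splits over the centraliser of the residual. -/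
theorem Loc.dlemma {D X : Subgroup G} [hDn : D.Normal] (hD : Mem (P : Subgroup G) D) (hVD : Vz P ≤ D)
    (hDQ : D ≤ Cfsg.pCore p G) (hXP : X ≤ (P : Subgroup G)) (hXQ : (P : Subgroup G) ≤ X ⊔ Cfsg.pCore p G)
    (hXD : ∀ x ∈ X, ∀ d ∈ D, ⁅x, d⁆ ∈ Vz P)
    (hdec : ∀ d ∈ D, ∃ v ∈ Vz P, ∃ c ∈ D, (∀ x ∈ X, x * c = c * x) ∧ v * c = d) :
    ∀ d ∈ D, ∃ v ∈ Vz P, ∃ c ∈ D, (∀ l ∈ res p G, l * c = c * l) ∧ v * c = d := by
  classical
  haveI := h.charP
  obtain ⟨H, hH⟩ : ∃ H, H = h.triv D := ⟨_, rfl⟩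
  haveI hHn : H.Normal := hH ▸ h.triv_normal D
  haveI hQn := Frame.Q_normal (G := G) (p := p)
  have hXH : X ≤ H := hH ▸ hXD
  have hHV : ∀ g ∈ H, ∀ d ∈ D, ⁅g, d⁆ ∈ Vz P := hH ▸ fun g hg => hg
  have hker := h.triv_core hD hDQ hXQ hXD
  rw [← hH] at hker
  have htop : H ⊔ (P : Subgroup G) = ⊤ := by
    obtain ⟨x, hx, hxQ⟩ : ∃ x ∈ X, x ∉ Cfsg.pCore p G := by
      by_contra hc
      push Not at hc
      exact h.not_le_core (hXQ.trans (sup_le hc le_rfl))
    exact h.sup_top (hXP hx) (hXH hx) hxQ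
  have hresH : res p G ≤ H := res_le P htop
  intro d hd
  obtain ⟨v₀, hv₀, c, hc, hcX, rfl⟩ := hdec d hd
  let f : H → (Fin 2 → F) := fun g => h.co ⁅(g : G), c⁆
  have hf : ∀ a b : H, f (a * b) = (h.rho a : Matrix (Fin 2) (Fin 2) F).mulVec (f b) + f a := by
    intro a b
    show h.co _ = _
    rw [Subgroup.coe_mul, cmul_left, h.co_mul (h.conj_Vz _ (hHV b b.2 c hc)) (hHV a a.2 c hc), h.co_conj _ (hHV b b.2 c hc)]
  have hf0 : ∀ s : H, (s : G) ∈ (P : Subgroup G) → f s = 0 := by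
    intro s hs
    have hm := hXQ hs
    rw [← SetLike.mem_coe, Subgroup.mul_normal] at hm
    obtain ⟨x, hx, k, hk, he⟩ := hm
    have he' : x * k = (s : G) := he
    have hkH : k ∈ H := by
      have h1 := mul_mem (inv_mem (hXH hx)) s.2
      rwa [← he', inv_mul_cancel_left] at h1
    have hkc : ⁅k, c⁆ ∈ Cz P := hker k hkH hk c hc
    show h.co ⁅(s : G), c⁆ = 0
    rw [← he', cmul_left, (comm_one_iff x c).mpr (hcX x hx), mul_one]
    exact (h.co_eq_zero (h.conj_Vz x hkc.1)).mpr ((inferInstance : (Cz P).Normal).conj_mem _ hkc x)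
  obtain ⟨T, hT⟩ : ∃ T : Subgroup H, T = (P : Subgroup G).subgroupOf H := ⟨_, rfl⟩
  have hfT : ∀ (a : H) (s : H), s ∈ T → f (a * s) = f a := by
    intro a s hs
    rw [hf, hf0 s (by rw [hT] at hs; exact hs), Matrix.mulVec_zero, zero_add]
  let f' : H ⧸ T → (Fin 2 → F) := fun q => f q.out
  have hf' : ∀ a : H, f' (a : H ⧸ T) = f a := by
    intro a
    have h1 : a⁻¹ * (a : H ⧸ T).out ∈ T := QuotientGroup.eq.mp (QuotientGroup.out_eq' (a : H ⧸ T)).symm
    show f (a : H ⧸ T).out = f a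
    rw [show (a : H ⧸ T).out = a * (a⁻¹ * (a : H ⧸ T).out) by group, hfT a _ h1]
  haveI := Fintype.ofFinite (H ⧸ T)
  obtain ⟨e, he⟩ : ∃ e, e = ∑ q : H ⧸ T, f' q := ⟨_, rfl⟩
  have hsum : ∀ a : H, (h.rho a : Matrix (Fin 2) (Fin 2) F).mulVec e + (Fintype.card (H ⧸ T) : F) • f a = e := by
    intro a
    have h1 : ∀ q : H ⧸ T, f' (a • q) = (h.rho a : Matrix (Fin 2) (Fin 2) F).mulVec (f' q) + f a := by
      intro q
      induction q using QuotientGroup.induction_on with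
      | _ b => rw [MulAction.Quotient.smul_mk, smul_eq_mul, hf', hf', hf]
    calc _ = ∑ q : H ⧸ T, ((h.rho a : Matrix (Fin 2) (Fin 2) F).mulVec (f' q) + f a) := by
            rw [Finset.sum_add_distrib, Finset.sum_const, Finset.card_univ, he, Matrix.mulVec_sum, Nat.cast_smul_eq_nsmul]
      _ = ∑ q : H ⧸ T, f' (a • q) := Finset.sum_congr rfl fun q _ => (h1 q).symm
      _ = e := he ▸ Equiv.sum_comp (MulAction.toPerm a) f'
  have hm : (Fintype.card (H ⧸ T) : F) ≠ 0 := by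
    rw [Ne, CharP.cast_eq_zero_iff F p, ← Nat.card_eq_fintype_card, ← Subgroup.index_eq_card, hT]
    show ¬ p ∣ (P : Subgroup G).relIndex H
    have e1 := Grp.card_sup_mul_card_inf (H := (P : Subgroup G)) (N := H) (by rw [normalizer_eq_top]; exact le_top)
    rw [sup_comm, htop, card_top, inf_comm, ← (P : Subgroup G).card_mul_index] at e1
    have e2 := Grp.relIndex_mul_card_inf H (P : Subgroup G)
    have e3 : (P : Subgroup G).index = (P : Subgroup G).relIndex H :=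
      Nat.eq_of_mul_eq_mul_left (Nat.mul_pos (Nat.card_pos (α := (P : Subgroup G))) (Nat.card_pos (α := ↥(H ⊓ (P : Subgroup G)))))
        (by rw [mul_assoc (Nat.card (P : Subgroup G)) _ ((P : Subgroup G).relIndex H), e2, ← e1]; ring)
    exact e3 ▸ P.not_dvd_index
  obtain ⟨v, hv, hvb⟩ := h.co_surj ((Fintype.card (H ⧸ T) : F)⁻¹ • e)
  have hfix : ∀ g ∈ H, ⁅g, v * c⁆ ∈ Cz P := by
    intro g hg
    have hgv := h.comm_Vz g hv
    have hgc := hHV g hg c hc
    rw [cmul_right, h.v.comm v hv _ hgc, mul_inv_cancel_right]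
    refine (h.co_eq_zero (mul_mem hgv hgc)).mp ?_
    rw [h.co_mul hgv hgc, h.co_comm g hv, hvb]
    have h2 := hsum ⟨g, hg⟩
    show _ + f ⟨g, hg⟩ = 0
    obtain ⟨m, hmdef⟩ : ∃ m : F, m = (Fintype.card (H ⧸ T) : F) := ⟨_, rfl⟩
    rw [← hmdef] at h2 hm ⊢
    have h3 : f ⟨g, hg⟩ = m⁻¹ • (e - (h.rho g : Matrix (Fin 2) (Fin 2) F).mulVec e) := by
      rw [eq_inv_smul_iff₀ hm]
      exact eq_sub_of_add_eq' h2
    rw [h3, Matrix.mulVec_smul, ← smul_sub, ← smul_add, add_comm, sub_add_sub_cancel, sub_self, smul_zero]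
  refine ⟨v₀ * v⁻¹, mul_mem hv₀ (inv_mem hv), v * c, mul_mem (hVD hv) hc, fun l hl => ?_, by group⟩
  refine mem_centralizer_singleton_iff.mp ((?_ : res p G ≤ centralizer ({v * c} : Set G)) hl)
  rw [res, closure_le]
  intro g hg
  refine mem_centralizer_singleton_iff.mpr ((comm_one_iff _ _).mp ?_)
  have hgH : g ∈ H := hresH (subset_closure hg)
  have hpow : ∀ n : ℕ, ⁅g ^ n, v * c⁆ = ⁅g, v * c⁆ ^ n := by
    intro n
    induction n with
    | zero => simp
    | succ n ih =>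
      rw [pow_succ g, cmul_left, ih, Subgroup.mem_center_iff.mp (hfix g hgH).2 (g ^ n), mul_inv_cancel_right, ← pow_succ']
  have h1 : ⁅g, v * c⁆ ^ orderOf g = 1 := by rw [← hpow, pow_orderOf_eq_one, commutatorElement_one_left]
  have h2 : ⁅g, v * c⁆ ^ p = 1 := h.v.exp _ (hfix g hgH).1
  exact orderOf_eq_one_iff.mp (Nat.eq_one_of_dvd_coprimes hg (orderOf_dvd_of_pow_eq_one h1) (orderOf_dvd_of_pow_eq_one h2))

end Cfsg.Agent.Fus.GN
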