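import Mathlib
import Cfsg.Agent.Lib.Fus.GN.Local

/-!
# Pairs for pushing up: moving the line of `S` by the group and its Borel subgroup
-/

set_option autoImplicit false
set_option linter.style.haveILetI false
set_option linter.unusedSectionVars false

namespace Cfsg.Agent.Fus.GN

open Subgroup Cfsg.Agent.Invol Cfsg.Agent.Invol.PushUp
open Cfsg.Agent.Grp.SL2 (up low)
open Cfsg.Agent.Invol.Nat2 (dg)
open scoped commutatorElement

universe u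

/-- `n` carries `P` into itself. -/
def Nm {G : Type u} [Group G] (P : Subgroup G) (n : G) : Prop := ∀ s ∈ P, n * s * n⁻¹ ∈ P

theorem Nm.mul {G : Type u} [Group G] {P : Subgroup G} {m n : G} (hm : Nm P m) (hn : Nm P n) : Nm P (m * n) :=
  fun s hs => by
    have := hm _ (hn s hs)
    rwa [show m * n * s * (m * n)⁻¹ = m * (n * s * n⁻¹) * m⁻¹ by group]

theorem Nm.of_mem {G : Type u} [Group G] {P : Subgroup G} {a : G} (ha : a ∈ P) : Nm P a :=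
  fun _ hs => mul_mem (mul_mem ha hs) (inv_mem ha)

theorem Nm.inv {G : Type u} [Group G] [Finite G] {P : Subgroup G} {n : G} (hn : Nm P n) : Nm P n⁻¹ := fun s hs => by
  have h : cj n P = P := eq_of_le_of_card_ge (by rintro _ ⟨x, hx, rfl⟩; exact hn x hx) (card_cj n P).ge
  simpa using mem_cj.mp (h.ge hs)

variable {G : Type u} [Group G] [Finite G] {p : ℕ} [hp : Fact p.Prime]
variable {P : Sylow p G} {F : Type} [Field F] [Fintype F] {fr : Frame P F} (h : Loc fr)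
include h

/-- An image of `r ∈ Z` all of whose normaliser conjugates lie in `C` puts `r` in `C`, unless the field has two elements. -/
theorem Loc.twist (C : Subgroup G) (g : G) {r : G} (hr : r ∈ Zs P)
    (hC : ∀ n, Nm (P : Subgroup G) n → n * (g * r * g⁻¹) * n⁻¹ ∈ C) :
    r ∈ C ∨ (Fintype.card F = 2 ∧ r ∉ Cz P ∧ g * r * g⁻¹ ∈ Vz P ∧ g * r * g⁻¹ ∉ Zs P) := by
  classical
  have hrV : r ∈ Vz P := h.v.Z_le hr
  by_cases hgb : h.rho g ∈ bor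
  · obtain ⟨n, hn, hρ⟩ := h.rho_normalizer hgb
    have h1 := hC n⁻¹ (Nm.inv hn)
    rw [← h.rho_eq_act hρ hrV] at h1
    exact Or.inl (by simpa [mul_assoc] using h1)
  by_cases hrc : r ∈ Cz P
  · have h1 := hC 1 (Nm.of_mem (one_mem _))
    rw [Subgroup.mem_center_iff.mp hrc.2 g, mul_inv_cancel_right] at h1
    exact Or.inl (by simpa using h1)
  obtain ⟨γ, hγ⟩ : ∃ γ, γ = h.rho g := ⟨_, rfl⟩
  rw [← hγ, mem_bor] at hgb
  have hr1 : h.co r 1 = 0 := (h.co_one_eq hrV).mpr hr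
  have hr0 : h.co r 0 ≠ 0 := fun h0 => hrc ((h.co_eq_zero hrV).mp (funext fun i => by fin_cases i <;> simp [h0, hr1]))
  by_cases hq : Fintype.card F = 2
  · refine Or.inr ⟨hq, hrc, h.conj_Vz g hrV, fun hZ => ?_⟩
    have h1 := (h.co_one_eq (h.conj_Vz g hrV)).mpr hZ
    rw [h.co_conj g hrV, ← hγ] at h1
    simp [Matrix.mulVec, dotProduct, Fin.sum_univ_two, hr1] at h1
    exact h1.elim hgb hr0
  refine Or.inl ?_
  obtain ⟨t, ht0, ht1⟩ : ∃ t : F, t ≠ 0 ∧ t ≠ 1 := by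
    by_contra hc
    push Not at hc
    refine hq (le_antisymm ?_ Fintype.one_lt_card)
    calc Fintype.card F = (Finset.univ : Finset F).card := Finset.card_univ.symm
      _ ≤ ({0, 1} : Finset F).card := Finset.card_le_card fun x _ => by
          simp only [Finset.mem_insert, Finset.mem_singleton]
          exact (em (x = 0)).imp id (hc x)
      _ ≤ 2 := Finset.card_le_two
  -- the good elements
  let C₀ : Subgroup G :=
    { carrier := {y | y ∈ Vz P ∧ ∀ n, Nm (P : Subgroup G) n → n * y * n⁻¹ ∈ C}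
      one_mem' := ⟨one_mem _, fun n _ => by simp [one_mem]⟩
      mul_mem' := by
        rintro a b ⟨ha, ha'⟩ ⟨hb, hb'⟩
        refine ⟨mul_mem ha hb, fun n hn => ?_⟩
        rw [show n * (a * b) * n⁻¹ = n * a * n⁻¹ * (n * b * n⁻¹) by group]
        exact mul_mem (ha' n hn) (hb' n hn)
      inv_mem' := by
        rintro a ⟨ha, ha'⟩
        refine ⟨inv_mem ha, fun n hn => ?_⟩
        rw [show n * a⁻¹ * n⁻¹ = (n * a * n⁻¹)⁻¹ by group]
        exact inv_mem (ha' n hn) }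
  have hCV : ∀ y ∈ C₀, y ∈ Vz P := fun y hy => hy.1
  have hCn : ∀ n, Nm (P : Subgroup G) n → ∀ y ∈ C₀, n * y * n⁻¹ ∈ C₀ := fun n hn y hy =>
    ⟨h.conj_Vz n hy.1, fun m hm => by
      rw [show m * (n * y * n⁻¹) * m⁻¹ = m * n * y * (m * n)⁻¹ by group]
      exact hy.2 _ (hm.mul hn)⟩
  have hCcomm : ∀ n, Nm (P : Subgroup G) n → ∀ y ∈ C₀, ⁅n, y⁆ ∈ C₀ := fun n hn y hy => by
    rw [commutatorElement_def]; exact mul_mem (hCn n hn y hy) (inv_mem hy)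
  -- the torus and the complement it gives
  obtain ⟨h0, hh0, hρ0⟩ := h.rho_normalizer (b := dg t ht0) (by rw [mem_bor]; simp [dg])
  have hφ0 : ∀ v ∈ Vz P, h.co ⁅h0, v⁆ = ![(t - 1) * h.co v 0, (t⁻¹ - 1) * h.co v 1] := by
    intro v hv
    rw [h.co_comm _ hv, hρ0]
    ext i
    fin_cases i <;> simp [dg, Matrix.mulVec, dotProduct, Fin.sum_univ_two] <;> ring
  have hti : (t⁻¹ - 1 : F) ≠ 0 := by rw [sub_ne_zero]; simpa [inv_eq_one] using ht1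
  have htt : (t - 1 : F) ≠ 0 := sub_ne_zero.mpr ht1
  let Rg : Subgroup G :=
    { carrier := {y | ∃ v ∈ Vz P, ⁅h0, v⁆ = y}
      one_mem' := ⟨1, one_mem _, commutatorElement_one_right h0⟩
      mul_mem' := by
        rintro _ _ ⟨a, ha, rfl⟩ ⟨b, hb, rfl⟩
        refine ⟨a * b, mul_mem ha hb, ?_⟩
        rw [cmul_right, h.v.comm a ha _ (h.comm_Vz h0 hb), mul_inv_cancel_right]
      inv_mem' := by
        rintro _ ⟨a, ha, rfl⟩
        refine ⟨a⁻¹, inv_mem ha, eq_inv_of_mul_eq_one_left ?_⟩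
        have h1 : ⁅h0, a⁻¹ * a⁆ = ⁅h0, a⁻¹⁆ * ⁅h0, a⁆ := by
          rw [cmul_right, h.v.comm a⁻¹ (inv_mem ha) _ (h.comm_Vz h0 ha), mul_inv_cancel_right]
        rw [← h1, inv_mul_cancel, commutatorElement_one_right] }
  have hRgV : ∀ y ∈ Rg, y ∈ Vz P := by rintro _ ⟨v, hv, rfl⟩; exact h.comm_Vz h0 hv
  have hRgC : ∀ y ∈ Rg, h.co y = 0 → y = 1 := by
    rintro _ ⟨v, hv, rfl⟩ h0'
    rw [hφ0 v hv] at h0'
    have e0 := congrFun h0' 0
    have e1 := congrFun h0' 1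
    simp [htt, hti] at e0 e1
    have hvC := (h.co_eq_zero hv).mp (funext fun i => by fin_cases i <;> simp [e0, e1])
    exact (comm_one_iff _ _).mpr (Subgroup.mem_center_iff.mp hvC.2 h0)
  have hdecomp : ∀ v ∈ Vz P, ∃ l ∈ Rg, l⁻¹ * v ∈ Cz P := by
    intro v hv
    obtain ⟨u, hu, hco⟩ := h.co_surj ![h.co v 0 / (t - 1), h.co v 1 / (t⁻¹ - 1)]
    refine ⟨⁅h0, u⁆, ⟨u, hu, rfl⟩, (h.co_eq_zero (mul_mem (inv_mem (h.comm_Vz h0 hu)) hv)).mp ?_⟩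
    rw [h.co_mul (inv_mem (h.comm_Vz h0 hu)) hv, h.co_inv (h.comm_Vz h0 hu), hφ0 u hu, hco]
    ext i
    fin_cases i
    · simp [mul_div_cancel₀ _ htt]
    · simp [mul_div_cancel₀ _ hti]
  have hpure : ∀ l ∈ Rg, ∀ c ∈ Cz P, l * c ∈ C₀ → l ∈ C₀ := by
    intro l hl c hc hlc
    have hfin : Function.Injective (fun y : ↥(C₀ ⊓ Rg) => (⟨⁅h0, (y : G)⁆,
        hCcomm h0 hh0 _ y.2.1, (y : G), hCV _ y.2.1, rfl⟩ : ↥(C₀ ⊓ Rg))) := by
      rintro ⟨a, ha⟩ ⟨b, hb⟩ he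
      have he' : ⁅h0, a⁆ = ⁅h0, b⁆ := congrArg Subtype.val he
      refine Subtype.ext (eq_of_mul_inv_eq_one (hRgC _ (mul_mem ha.2 (inv_mem hb.2)) ?_))
      have h1 := congrArg h.co he'
      rw [hφ0 _ (hCV _ ha.1), hφ0 _ (hCV _ hb.1)] at h1
      have e0 := congrFun h1 0
      have e1 := congrFun h1 1
      simp [htt, hti] at e0 e1
      rw [h.co_mul (hCV _ ha.1) (inv_mem (hCV _ hb.1)), h.co_inv (hCV _ hb.1)]
      ext i; fin_cases i <;> simp [e0, e1]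
    have hl' : ⁅h0, l⁆ ∈ C₀ ⊓ Rg := by
      refine ⟨?_, l, hRgV l hl, rfl⟩
      have h1 := hCcomm h0 hh0 _ hlc
      rwa [comm_right_drop (Subgroup.mem_center_iff.mp hc.2 h0)] at h1
    obtain ⟨⟨m, hm⟩, he⟩ := (Finite.injective_iff_surjective.mp hfin) ⟨_, hl'⟩
    have he' : ⁅h0, m⁆ = ⁅h0, l⁆ := congrArg Subtype.val he
    have h1 := congrArg h.co he'
    rw [hφ0 _ (hCV _ hm.1), hφ0 _ (hRgV l hl)] at h1
    have e0 := congrFun h1 0
    have e1 := congrFun h1 1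
    simp [htt, hti] at e0 e1
    have heq : l = m := eq_of_mul_inv_eq_one (hRgC _ (mul_mem hl (inv_mem hm.2)) (by
      rw [h.co_mul (hRgV l hl) (inv_mem (hCV _ hm.1)), h.co_inv (hCV _ hm.1)]
      ext i; fin_cases i <;> simp [e0, e1]))
    exact heq ▸ hm.1
  -- the decomposition of `g`
  obtain ⟨x, hx⟩ : ∃ x, x = (γ : Matrix (Fin 2) (Fin 2) F) 0 0 / (γ : Matrix (Fin 2) (Fin 2) F) 1 0 := ⟨_, rfl⟩
  obtain ⟨b₂, hb₂⟩ : ∃ b₂, b₂ = ((up x : Matrix.SpecialLinearGroup (Fin 2) F) * SL2Nat.wel)⁻¹ * γ := ⟨_, rfl⟩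
  have hb₂' : b₂ ∈ bor := by
    rw [hb₂, mem_bor]
    simp only [Matrix.SpecialLinearGroup.coe_mul, Matrix.SpecialLinearGroup.coe_inv, Matrix.adjugate_fin_two]
    simp [Matrix.mul_apply, Fin.sum_univ_two, up, SL2Nat.wel]
    rw [hx, div_mul_cancel₀ _ hgb]; ring
  obtain ⟨n₂, hn₂, hρ₂⟩ := h.rho_normalizer hb₂'
  obtain ⟨w, hw⟩ := h.nat.std.surjective SL2Nat.wel
  obtain ⟨r₁, hr₁⟩ : ∃ r₁, r₁ = n₂ * r * n₂⁻¹ := ⟨_, rfl⟩
  have hr₁V : r₁ ∈ Vz P := hr₁ ▸ h.conj_Vz n₂ hrV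
  have hr₁1 : h.co r₁ 1 = 0 := by
    rw [hr₁, h.co_conj n₂ hrV, hρ₂]
    simp [Matrix.mulVec, dotProduct, Fin.sum_univ_two, hr1, mem_bor.mp hb₂']
  suffices hgoal : r₁ ∈ C₀ by
    have h1 := hgoal.2 n₂⁻¹ (Nm.inv hn₂)
    rw [hr₁] at h1
    simpa [mul_assoc] using h1
  have hgr : g * r * g⁻¹ ∈ C₀ := ⟨h.conj_Vz g hrV, hC⟩
  have hy : w * r₁ * w⁻¹ ∈ C₀ := by
    have h1 : g * r * g⁻¹ = fr.σ x * w * n₂ * r * (fr.σ x * w * n₂)⁻¹ := h.rho_eq_act (by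
      rw [map_mul, map_mul, h.nat.std.up', hw, hρ₂, hb₂, ← hγ, mul_inv_cancel_left]) hrV
    have h2 := hCn _ (Nm.inv (Nm.of_mem (fr.σ_mem x))) _ hgr
    rw [h1] at h2
    rw [hr₁]
    convert h2 using 1
    group
  obtain ⟨l, hl, hlc⟩ := hdecomp r₁ hr₁V
  have hwl : w * l * w⁻¹ ∈ Rg := by
    obtain ⟨v, hv, rfl⟩ := hl
    obtain ⟨v', hv'⟩ : ∃ v', v' = w * v * w⁻¹ := ⟨_, rfl⟩
    have hv'V : v' ∈ Vz P := hv' ▸ h.conj_Vz w hv
    refine ⟨h0⁻¹ * v'⁻¹ * h0⁻¹⁻¹, h.conj_Vz _ (inv_mem hv'V), ?_⟩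
    have h1 : w * h0 * w⁻¹ * v' * (w * h0 * w⁻¹)⁻¹ = h0⁻¹ * v' * h0⁻¹⁻¹ := h.rho_eq_act (by
      rw [map_mul, map_mul, map_inv, map_inv, hw, hρ0]
      refine Subtype.ext ?_
      simp only [Matrix.SpecialLinearGroup.coe_mul, Matrix.SpecialLinearGroup.coe_inv, Matrix.adjugate_fin_two]
      ext i j
      fin_cases i <;> fin_cases j <;> simp [dg, SL2Nat.wel, Matrix.mul_apply, Fin.sum_univ_two]) hv'V
    rw [conj_comm w h0 v, ← hv', commutatorElement_def (w * h0 * w⁻¹), h1, commutatorElement_def]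
    calc h0 * (h0⁻¹ * v'⁻¹ * h0⁻¹⁻¹) * h0⁻¹ * (h0⁻¹ * v'⁻¹ * h0⁻¹⁻¹)⁻¹
        = v'⁻¹ * (h0⁻¹ * v' * h0⁻¹⁻¹) := by group
      _ = (h0⁻¹ * v' * h0⁻¹⁻¹) * v'⁻¹ := h.v.comm _ (inv_mem hv'V) _ (h.conj_Vz _ hv'V)
  have hwc : w * (l⁻¹ * r₁) * w⁻¹ = l⁻¹ * r₁ := by rw [Subgroup.mem_center_iff.mp hlc.2 w, mul_inv_cancel_right]
  have hwl₀ : w * l * w⁻¹ ∈ C₀ := hpure _ hwl _ hlc (by
    rw [← hwc, show w * l * w⁻¹ * (w * (l⁻¹ * r₁) * w⁻¹) = w * r₁ * w⁻¹ by group]; exact hy)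
  have hc₀ : l⁻¹ * r₁ ∈ C₀ := by
    have h1 := mul_mem (inv_mem hwl₀) hy
    rw [show (w * l * w⁻¹)⁻¹ * (w * r₁ * w⁻¹) = w * (l⁻¹ * r₁) * w⁻¹ by group, hwc] at h1
    exact h1
  have hl₀ : l ∈ C₀ := by
    have hlV := hRgV l hl
    have hcol : h.co l = h.co r₁ := by
      have h1 := (h.co_eq_zero (hlc.1)).mpr hlc
      rw [h.co_mul (inv_mem hlV) hr₁V, h.co_inv hlV, neg_add_eq_zero] at h1
      exact h1
    have hc := hCcomm _ (Nm.of_mem (fr.σ_mem 1)) _ hwl₀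
    have hwlV := h.conj_Vz w hlV
    refine hpure l hl (l⁻¹ * ⁅fr.σ 1, w * l * w⁻¹⁆) ?_ (by rwa [mul_inv_cancel_left])
    refine (h.co_eq_zero (mul_mem (inv_mem hlV) (h.comm_Vz _ hwlV))).mp ?_
    rw [h.co_mul (inv_mem hlV) (h.comm_Vz _ hwlV), h.co_inv hlV, h.co_comm _ hwlV, h.co_conj w hlV, hw,
      h.nat.std.up', hcol]
    have e1 : ((SL2Nat.wel : Matrix.SpecialLinearGroup (Fin 2) F) : Matrix (Fin 2) (Fin 2) F).mulVec (h.co r₁) = ![0, h.co r₁ 0] := by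
      ext i; fin_cases i <;> simp [SL2Nat.wel, Matrix.mulVec, dotProduct, Fin.sum_univ_two, hr₁1]
    have e2 : ((up 1 : Matrix.SpecialLinearGroup (Fin 2) F) : Matrix (Fin 2) (Fin 2) F).mulVec ![0, h.co r₁ 0] - ![0, h.co r₁ 0] = h.co r₁ := by
      ext i; fin_cases i <;> simp [up, Matrix.mulVec, dotProduct, Fin.sum_univ_two, hr₁1]
    rw [e1, e2, neg_add_cancel]
  simpa using mul_mem hl₀ hc₀

omit h in
/-- Two elements outside a subgroup of index two differ by one of its elements. -/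
theorem index_two {K L : Subgroup G} (hKL : K ≤ L) (hc : Nat.card L = 2 * Nat.card K) {a b : G} (ha : a ∈ L)
    (hb : b ∈ L) (ha' : a ∉ K) (hb' : b ∉ K) : a * b⁻¹ ∈ K ∧ a⁻¹ * b ∈ K := by
  have hidx : (K.subgroupOf L).index = 2 := by
    have h1 := Grp.card_mul_relIndex hKL
    rw [hc, mul_comm 2] at h1
    exact Nat.eq_of_mul_eq_mul_left Nat.card_pos h1
  constructor
  · refine (Subgroup.mul_mem_iff_of_index_two hidx (a := ⟨a, ha⟩) (b := ⟨b, hb⟩⁻¹)).mpr ?_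
    simp [Subgroup.mem_subgroupOf, ha', hb']
  · refine (Subgroup.mul_mem_iff_of_index_two hidx (a := ⟨a, ha⟩⁻¹) (b := ⟨b, hb⟩)).mpr ?_
    simp [Subgroup.mem_subgroupOf, ha', hb']

omit h in
/-- The displacements of `U` by an element centralising a subgroup of index two. -/
theorem value_cases {P U K : Subgroup G} (hKU : K ≤ U) (hcard : Nat.card U = 2 * Nat.card K)
    (hC : Nat.card (cz P K) = 2 * Nat.card (cz P U)) (hUn : NIn P U) {x u : G} (hx : x ∈ cz P K) (hu : u ∈ U)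
    (hne : ⁅x, u⁆ ≠ 1) :
    (∀ y ∈ U, y ∈ K → ⁅x, y⁆ = 1) ∧ (∀ y ∈ U, y ∉ K → ⁅x, y⁆ = ⁅x, u⁆) ∧
      ∀ b ∈ cz P K, b ∈ cz P U ∨ ∀ y ∈ U, ⁅b, y⁆ = ⁅x, y⁆ := by
  have hone : ∀ k ∈ K, ⁅x, k⁆ = 1 := fun k hk => (comm_one_iff _ _).mpr ((mem_cz.mp hx).2 k hk).symm
  have huK : u ∉ K := fun h' => hne (hone u h')
  have hxC : x ∉ cz P U := fun h' => hne ((comm_one_iff _ _).mpr ((mem_cz.mp h').2 u hu).symm)
  have hcomm : ∀ y ∈ U, ⁅x, y⁆ ∈ U := fun y hy => by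
    rw [commutatorElement_def]; exact mul_mem (hUn x hx.1 y hy) (inv_mem hy)
  refine ⟨fun y _ hy => hone y hy, fun y hy hyK => ?_, fun b hb => or_iff_not_imp_left.mpr fun hbC y hy => ?_⟩
  · have h2 := (index_two hKU hcard hu hy huK hyK).2
    rw [show y = u * (u⁻¹ * y) by group, comm_right_drop ((mem_cz.mp hx).2 _ h2).symm]
  · have h2 := (index_two (cz_anti hKU) hC hb hx hbC hxC).1
    obtain ⟨c, hc⟩ : ∃ c, c = b * x⁻¹ := ⟨_, rfl⟩
    rw [← hc] at h2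
    rw [show b = c * x by rw [hc]; group, cmul_left, (comm_one_iff c y).mpr ((mem_cz.mp h2).2 y hy).symm, mul_one,
      ← (mem_cz.mp h2).2 _ (hcomm y hy), mul_inv_cancel_right]

/-- Over two elements a member of index two cannot have a commutator outside the fixed line. -/
theorem Loc.two_kernels (hq : Fintype.card F = 2) {U X : Subgroup G} (hU : Mem (P : Subgroup G) U)
    (hUn : NIn (P : Subgroup G) U) (hX : Mem (P : Subgroup G) X)
    (hidx : Nat.card X = 2 * Nat.card ↥(X ⊓ cz (P : Subgroup G) U)) {x u : G} (hx : x ∈ X) (hu : u ∈ U)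
    (he : ⁅x, u⁆ ∈ Vz P) (heZ : ⁅x, u⁆ ∉ Zs P) : False := by
  classical
  obtain ⟨n, -, hn⟩ := h.card_F
  have hp2 : p = 2 := (Nat.prime_dvd_prime_iff_eq hp.out Nat.prime_two).mp (by
    rw [← hq, hn]; exact dvd_pow_self p (by rintro rfl; rw [pow_zero] at hn; omega))
  obtain ⟨A, hA, hAA, hAQ⟩ := h.s.exists_not_le h.not_le_core
  obtain ⟨t, htA, htQ⟩ := SetLike.not_le_iff_exists.mp hAQ
  have htP : t ∈ (P : Subgroup G) := hA.le htA
  have hAab : ∀ a ∈ A, ∀ b ∈ A, a * b = b * a := fun a ha b hb => (mem_cz.mp (hAA.ge hb)).2 a ha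
  obtain ⟨C, hC⟩ : ∃ C, C = cz (P : Subgroup G) U := ⟨_, rfl⟩
  have hCm : Mem (P : Subgroup G) C := hC ▸ hU.cz
  rw [← hC] at hidx
  obtain ⟨K₁, hK₁⟩ : ∃ K₁, K₁ = U ⊓ cz (P : Subgroup G) X := ⟨_, rfl⟩
  have hK₁m : Mem (P : Subgroup G) K₁ := hK₁ ▸ hU.inf hX.cz
  have hC₁ : cz (P : Subgroup G) K₁ = C ⊔ X := by rw [hK₁, hU.cz_inf hX.cz, hX.cz_cz, hC]
  have hcard₁ : Nat.card (cz (P : Subgroup G) K₁) = 2 * Nat.card C := by
    rw [hC₁]
    have h1 := hCm.card_sup hX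
    rw [inf_comm, hidx] at h1
    refine Nat.eq_of_mul_eq_mul_right (Nat.card_pos (α := ↥(X ⊓ C))) ?_
    rw [h1]; ring
  have hUK₁ : Nat.card U = 2 * Nat.card K₁ := hK₁m.index_eq hU (hC ▸ hcard₁)
  obtain ⟨e, hedef⟩ : ∃ e, e = ⁅x, u⁆ := ⟨_, rfl⟩
  rw [← hedef] at he heZ
  have hne : e ≠ 1 := fun h' => heZ (h' ▸ one_mem _)
  have hx₁ : x ∈ cz (P : Subgroup G) K₁ := hC₁ ▸ mem_sup_right hx
  obtain ⟨v1a, v1b, v1c⟩ := value_cases (hK₁ ▸ inf_le_left) hUK₁ (hC ▸ hcard₁) hUn hx₁ hu (hedef ▸ hne)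
  rw [← hedef] at v1b
  -- the conjugate by `t`
  have hPt : cj t (P : Subgroup G) = (P : Subgroup G) := cj_eq_of_NIn (fun a ha x hx => mul_mem (mul_mem ha hx) (inv_mem ha)) htP
  have hUt : cj t U = U := cj_eq_of_NIn hUn htP
  have hczt : ∀ Y : Subgroup G, cz (P : Subgroup G) (cj t Y) = cj t (cz (P : Subgroup G) Y) := fun Y => by
    conv_lhs => rw [← hPt]
    exact cz_map _ (MulAut.conj t).injective _ _
  obtain ⟨K₂, hK₂⟩ : ∃ K₂, K₂ = cj t K₁ := ⟨_, rfl⟩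
  have hK₂m : Mem (P : Subgroup G) K₂ := hK₂ ▸
    hK₁m.of_card ((cj_mono hK₁m.le).trans hPt.le) (by rw [hczt, card_cj, card_cj])
  have hK₂U : K₂ ≤ U := hK₂ ▸ (cj_mono (hK₁ ▸ inf_le_left : K₁ ≤ U)).trans hUt.le
  have hUK₂ : Nat.card U = 2 * Nat.card K₂ := by rw [hK₂, card_cj, hUK₁]
  have hcard₂ : Nat.card (cz (P : Subgroup G) K₂) = 2 * Nat.card C := by rw [hK₂, hczt, card_cj, hcard₁]
  have hu' : t * u * t⁻¹ ∈ U := hUn t htP u hu
  obtain ⟨x', hx'⟩ : ∃ x', x' = t * x * t⁻¹ := ⟨_, rfl⟩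
  obtain ⟨e', he'⟩ : ∃ e', e' = t * e * t⁻¹ := ⟨_, rfl⟩
  have hx₂ : x' ∈ cz (P : Subgroup G) K₂ := by rw [hK₂, hczt, hx']; exact conj_mem_cj hx₁
  have hval' : ⁅x', t * u * t⁻¹⁆ = e' := by rw [hx', ← conj_comm, he', hedef]
  have he'ne : e' ≠ e := fun h' => heZ (h.fix' htP htQ he (by
    rw [he'] at h'; exact mul_inv_eq_iff_eq_mul.mp h'))
  have he'1 : e' ≠ 1 := fun h' => hne (by
    rw [he', mul_inv_eq_one] at h'
    simpa using h')
  obtain ⟨v2a, v2b, v2c⟩ := value_cases hK₂U hUK₂ (hC ▸ hcard₂) hUn hx₂ hu' (by rw [hval']; exact he'1)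
  rw [hval'] at v2b
  have hx'u : ⁅x, t * u * t⁻¹⁆ = 1 ∨ ⁅x, t * u * t⁻¹⁆ = e := by
    by_cases hk : t * u * t⁻¹ ∈ K₁
    · exact Or.inl (v1a _ hu' hk)
    · exact Or.inr (v1b _ hu' hk)
  have hK₁₂ : K₁ ≠ K₂ := fun hKK => by
    rcases v1c x' (hKK ▸ hx₂) with hc | hc
    · exact he'1 (hval' ▸ (comm_one_iff _ _).mpr ((mem_cz.mp hc).2 _ hu').symm)
    · have h1 := hc _ hu'
      rw [hval'] at h1
      rcases hx'u with h2 | h2 <;> rw [h2] at h1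
      · exact he'1 h1
      · exact he'ne h1
  -- the intersection of the kernels
  obtain ⟨K, hK⟩ : ∃ K, K = K₁ ⊓ K₂ := ⟨_, rfl⟩
  have hKm : Mem (P : Subgroup G) K := hK ▸ hK₁m.inf hK₂m
  have hUK : Nat.card U = 4 * Nat.card K := by
    have hsup : K₁ ⊔ K₂ = U := by
      refine le_antisymm (sup_le (hK₁ ▸ inf_le_left) hK₂U) fun y hy => ?_
      obtain ⟨a, ha, ha'⟩ : ∃ a ∈ K₂, a ∉ K₁ := by
        by_contra hc
        push Not at hc
        exact hK₁₂ (eq_of_le_of_card_ge hc (by omega)).symm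
      by_cases hy' : y ∈ K₁
      · exact mem_sup_left hy'
      · have h1 := (index_two (hK₁ ▸ inf_le_left) hUK₁ hy (hK₂U ha) hy' ha').1
        simpa using mul_mem (mem_sup_left (T := K₂) h1) (mem_sup_right (S := K₁) ha)
    have h1 := hK₁m.card_sup hK₂m
    rw [hsup, ← hK] at h1
    refine Nat.eq_of_mul_eq_mul_right (Nat.card_pos (α := U)) ?_
    rw [mul_comm (4 * _)]
    calc Nat.card U * Nat.card U = (2 * Nat.card K₁) * (2 * Nat.card K₂) := by rw [← hUK₁, ← hUK₂]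
      _ = 4 * (Nat.card U * Nat.card K) := by rw [h1]; ring
      _ = _ := by ring
  have hCK : cz (P : Subgroup G) K = cz (P : Subgroup G) K₁ ⊔ cz (P : Subgroup G) K₂ := hK ▸ hK₁m.cz_inf hK₂m
  have hcardK : Nat.card (cz (P : Subgroup G) K) = 4 * Nat.card C :=
    hCm.index_eq hKm.cz (by rw [hC, hU.cz_cz, hKm.cz_cz, hUK])
  by_cases hAK : A ⊓ U ≤ K
  · have heq : A ⊓ U = A ⊓ K := le_antisymm (le_inf inf_le_left hAK) (inf_le_inf_left _ (hK ▸ inf_le_left.trans (hK₁ ▸ inf_le_left)))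
    have hxm : x ∈ A ⊔ C := by
      have h1 : cz (P : Subgroup G) (A ⊓ U) = cz (P : Subgroup G) (A ⊓ K) := by rw [heq]
      rw [hA.cz_inf hU, hA.cz_inf hKm, hAA, ← hC] at h1
      exact h1.ge (mem_sup_right (hCK.ge (mem_sup_left hx₁)))
    obtain ⟨b, hb, c, hc, hbc⟩ := hA.exists_mul hCm hxm
    have hxy : ∀ y ∈ U, ⁅x, y⁆ = ⁅b, y⁆ := fun y hy => by
      rw [← hbc, comm_left_drop ((mem_cz.mp (hC ▸ hc)).2 y hy).symm]
    have h2 : t * ⁅b, u⁆ * t⁻¹ = ⁅b, t * u * t⁻¹⁆ := by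
      rw [conj_comm, hAab t htA b hb, mul_inv_cancel_right]
    rw [← hxy u hu, ← hxy _ hu', ← hedef, ← he'] at h2
    rcases hx'u with h3 | h3 <;> rw [h3] at h2
    · exact he'1 h2
    · exact he'ne h2
  · obtain ⟨a, ha, haK⟩ := SetLike.not_le_iff_exists.mp hAK
    have hta : t * a * t⁻¹ = a := by rw [hAab t htA a ha.1, mul_inv_cancel_right]
    have hiff : ∀ a' ∈ A, (a' ∈ K₁ ↔ a' ∈ K₂) := fun a' ha' => by
      rw [hK₂, mem_cj, show t⁻¹ * a' * t = a' by rw [mul_assoc, ← hAab t htA a' ha', inv_mul_cancel_left]]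
    have haK₁ : a ∉ K₁ := fun h' => haK (hK ▸ ⟨h', (hiff a ha.1).mp h'⟩)
    have haK₂ : a ∉ K₂ := fun h' => haK₁ ((hiff a ha.1).mpr h')
    have hxa : ⁅x, a⁆ = e := v1b a ha.2 haK₁
    have hx'a : ⁅x', a⁆ = e' := v2b a ha.2 haK₂
    have heU : e ∈ U := by rw [hedef, commutatorElement_def]; exact mul_mem (hUn x (hX.le hx) u hu) (inv_mem hu)
    have hxe' : ⁅x, e'⁆ = 1 := by
      have heV' : e' ∈ Vz P := he' ▸ h.conj_Vz t he
      have he'U : e' ∈ U := he' ▸ hUn t htP e heU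
      by_cases hk : e' ∈ K₁
      · exact v1a _ he'U hk
      · exact absurd (v1b _ he'U hk ▸ h.v.move x (hX.le hx) e' heV') heZ
    have hin : A ⊓ cz (P : Subgroup G) K ≤ C := by
      intro b hb
      obtain ⟨b₁, hb₁, b₂, hb₂, rfl⟩ := hK₁m.cz.exists_mul hK₂m.cz (hCK.le hb.2)
      have hz : ⁅b₁ * b₂, a⁆ = 1 := (comm_one_iff _ _).mpr (hAab _ hb.1 a ha.1)
      rw [cmul_left] at hz
      rcases v1c b₁ hb₁ with h1 | h1 <;> rcases v2c b₂ hb₂ with h2 | h2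
      · exact mul_mem (hC ▸ h1) (hC ▸ h2)
      · exfalso
        rw [h2 a ha.2, hx'a, (comm_one_iff b₁ a).mpr ((mem_cz.mp h1).2 a ha.2).symm, mul_one, mul_inv_eq_one] at hz
        exact he'1 (by simpa using hz)
      · exfalso
        rw [h1 a ha.2, hxa, (comm_one_iff b₂ a).mpr ((mem_cz.mp h2).2 a ha.2).symm, mul_one, mul_inv_cancel, one_mul] at hz
        exact hne hz
      · exfalso
        have hb₁e : b₁ * e' * b₁⁻¹ = e' := by
          have h3 := h1 e' (he' ▸ hUn t htP e heU)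
          rw [hxe'] at h3
          rw [(comm_one_iff _ _).mp h3, mul_inv_cancel_right]
        rw [h1 a ha.2, h2 a ha.2, hxa, hx'a, hb₁e] at hz
        refine he'ne ?_
        rw [eq_inv_of_mul_eq_one_left hz]
        refine inv_eq_of_mul_eq_one_left ?_
        have h4 := h.v.exp e he
        rwa [hp2, sq] at h4
    have h4 : Nat.card ↥(A ⊔ cz (P : Subgroup G) K) = 4 * Nat.card ↥(A ⊔ C) := by
      have e1 := hA.card_sup hKm.cz
      have e2 := hA.card_sup hCm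
      have e3 : A ⊓ cz (P : Subgroup G) K = A ⊓ C :=
        le_antisymm (le_inf inf_le_left hin) (inf_le_inf_left _ (hC ▸ cz_anti (hK ▸ inf_le_left.trans (hK₁ ▸ inf_le_left))))
      rw [e3, hcardK] at e1
      refine Nat.eq_of_mul_eq_mul_right (Nat.card_pos (α := ↥(A ⊓ C))) ?_
      rw [e1, mul_assoc 4 (Nat.card ↥(A ⊔ C)), e2]; ring
    have h5 : Nat.card ↥(A ⊓ U) = 4 * Nat.card ↥(A ⊓ K) := (hA.inf hKm).index_eq (hA.inf hU) (by
      rw [hA.cz_inf hKm, hA.cz_inf hU, hAA, ← hC, h4])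
    have h6 := Invol.card_mul_le_card_sup (A ⊓ U) K₁
    have h7 : Nat.card ↥((A ⊓ U) ⊔ K₁) ≤ Nat.card U := card_le_of_le (sup_le inf_le_right (hK₁ ▸ inf_le_left))
    have h8 : (A ⊓ U) ⊓ K₁ = A ⊓ K := by
      ext y
      exact ⟨fun hy => ⟨hy.1.1, hK ▸ ⟨hy.2, (hiff y hy.1.1).mp hy.2⟩⟩,
        fun hy => ⟨⟨hy.1, (hK₂U (hK ▸ hy.2 : y ∈ K₁ ⊓ K₂).2)⟩, (hK ▸ hy.2 : y ∈ K₁ ⊓ K₂).1⟩⟩
    rw [h8] at h6
    have h9 := h6.trans (Nat.mul_le_mul_right _ h7)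
    rw [h5, hUK₁] at h9
    have h10 : 0 < Nat.card ↥(A ⊓ K) := Nat.card_pos
    have h11 : 0 < Nat.card K₁ := Nat.card_pos
    nlinarith

end Cfsg.Agent.Fus.GN
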