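import Mathlib
import Cfsg.Agent.Lib.Fus.GN.DLemma
import Cfsg.Agent.Lib.Fus.GN.Twist

/-!
# Pairs for pushing up: long chains put the commutators into the centraliser of the residual
-/

set_option autoImplicit false
set_option linter.style.haveILetI false
set_option linter.unusedSectionVars false

namespace Cfsg.Agent.Fus.GN

open Subgroup Cfsg.Agent.Invol Cfsg.Agent.Invol.PushUp
open scoped commutatorElement

universe u

variable {G : Type u} [Group G] [Finite G] {p : ℕ} [hp : Fact p.Prime]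
variable {P : Sylow p G} {F : Type} [Field F] [Fintype F] {fr : Frame P F} (h : Loc fr)
include h

/-- A member `X` outside the core and the part of `U` it does not centralise. -/
theorem Loc.split_U {U X : Subgroup G} (hU : Mem (P : Subgroup G) U) (hVU : Vz P ≤ U) (hX : Mem (P : Subgroup G) X)
    (hXQ : ¬ X ≤ Cfsg.pCore p G) (hX' : X ⊓ cz (P : Subgroup G) U = X ⊓ Cfsg.pCore p G) :
    ∀ u ∈ U, ∃ v ∈ Vz P, ∃ c ∈ U, (∀ x ∈ X, x * c = c * x) ∧ v * c = u := by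
  obtain ⟨W, hW⟩ : ∃ W, W = U ⊓ cz (P : Subgroup G) X := ⟨_, rfl⟩
  have hWm : Mem (P : Subgroup G) W := hW ▸ hU.inf hX.cz
  obtain ⟨x, hx, hxQ⟩ := SetLike.not_le_iff_exists.mp hXQ
  have hidx : Nat.card X = Fintype.card F * Nat.card ↥(X ⊓ Cfsg.pCore p G) := by
    have h1 := hX.card_sup h.Q_mem
    rw [h.sup_core hX hXQ, fr.card_S] at h1
    refine Nat.eq_of_mul_eq_mul_right (Nat.card_pos (α := ↥(Cfsg.pCore p G))) ?_
    rw [← h1]; ring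
  have hcW : Nat.card (cz (P : Subgroup G) W) = Fintype.card F * Nat.card (cz (P : Subgroup G) U) := by
    rw [hW, hU.cz_inf hX.cz, hX.cz_cz]
    have h1 := hU.cz.card_sup hX
    rw [inf_comm, hX'] at h1
    refine Nat.eq_of_mul_eq_mul_right (Nat.card_pos (α := ↥(X ⊓ Cfsg.pCore p G))) ?_
    rw [h1, hidx]; ring
  have hUW := hWm.index_eq hU hcW
  have hVW : Vz P ⊓ W = Zs P := by
    refine le_antisymm (fun v hv => ?_) (le_inf h.v.Z_le (h.Z_le_of_mem hWm))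
    exact h.fix' (hX.le hx) hxQ hv.1 ((mem_cz.mp (hW ▸ hv.2 : v ∈ U ⊓ cz (P : Subgroup G) X).2).2 x hx)
  have hsup : Vz P ⊔ W = U := by
    refine eq_of_le_of_card_ge (sup_le hVU (hW ▸ inf_le_left)) (le_of_eq ?_)
    have h1 := h.V_mem.card_sup hWm
    rw [hVW, h.card_V] at h1
    refine Nat.eq_of_mul_eq_mul_right (Nat.card_pos (α := Zs P)) ?_
    rw [h1, hUW]; ring
  intro u hu
  obtain ⟨v, hv, c, hc, rfl⟩ := h.V_mem.exists_mul hWm (hsup.ge hu)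
  rw [hW] at hc
  exact ⟨v, hv, c, hc.1, fun y hy => ((mem_cz.mp hc.2).2 y hy), rfl⟩

/-- The hypotheses of a long chain at the group `G`. -/
structure LongData (fr : Frame P F) (W U X X₀ X₁ : Subgroup G) : Prop where
  W_mem : Mem (P : Subgroup G) W
  W_Q : W ≤ Cfsg.pCore p G
  W_nin : NIn (P : Subgroup G) W
  W_atom : ∀ M, Mem (P : Subgroup G) M → M ≤ W → M = Zs P ∨ M = W
  W_V : W ⊓ Vz P = Zs P
  U_mem : Mem (P : Subgroup G) U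
  U_nin : NIn (P : Subgroup G) U
  U_comm : ∀ a ∈ U, ∀ b ∈ U, a * b = b * a
  V_le : Vz P ≤ U
  W_le : W ≤ U
  U_Q : U ≤ Cfsg.pCore p G
  move : ∀ a ∈ cz (P : Subgroup G) W, ∀ u ∈ U, ⁅a, u⁆ ∈ W
  X_mem : Mem (P : Subgroup G) X
  X_comm : ∀ a ∈ X, ∀ b ∈ X, a * b = b * a
  X_W : X ≤ cz (P : Subgroup G) W
  X_Q : ¬ X ≤ Cfsg.pCore p G
  X_U : X ⊓ Cfsg.pCore p G ≤ cz (P : Subgroup G) U
  X₀_mem : Mem (P : Subgroup G) X₀
  X₀_Q : X₀ ≤ Cfsg.pCore p G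
  X₀_W : X₀ ≤ cz (P : Subgroup G) W
  X₁_mem : Mem (P : Subgroup G) X₁
  X₁_le : X₁ ≤ X₀
  X₁_U : X₁ ≤ cz (P : Subgroup G) U
  atom : ∀ M, Mem (P : Subgroup G) M → X₁ ≤ M → M ≤ X₀ → M = X₁ ∨ M = X₀

/-- In a long chain `[X₀, U]` is centralised by the residual. -/
theorem Loc.long {W U X X₀ X₁ : Subgroup G} (d : LongData fr W U X X₀ X₁) :
    ∀ r ∈ X₀, ∀ u ∈ U, ∀ g ∈ res p G, g * ⁅r, u⁆ = ⁅r, u⁆ * g := by
  classical
  haveI hQn := Frame.Q_normal (G := G) (p := p)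
  have hQP : Cfsg.pCore p G ≤ (P : Subgroup G) := Frame.Q_le_S
  have hXP := d.X_mem.le
  have hPXQ := h.sup_core d.X_mem d.X_Q
  have hXU' : X ⊓ cz (P : Subgroup G) U = X ⊓ Cfsg.pCore p G :=
    le_antisymm (inf_le_inf_left _ (h.cz_le_core d.V_le)) (le_inf inf_le_left d.X_U)
  have hUdec := h.split_U d.U_mem d.V_le d.X_mem d.X_Q hXU'
  have hXUZ : ∀ x ∈ X, ∀ u ∈ U, ⁅x, u⁆ ∈ Zs P := fun x hx u hu => by
    obtain ⟨v, hv, c, -, hcX, rfl⟩ := hUdec u hu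
    rw [comm_right_drop (hcX x hx)]
    exact h.v.move x (hXP hx) v hv
  have hUV : ∀ g : G, Vz P ≤ cj g U := fun g => (cj_normal g h.Vz_normal).ge.trans (cj_mono d.V_le)
  have hUcjm : ∀ g : G, Mem (P : Subgroup G) (cj g U) := fun g => h.cj_mem d.U_mem d.V_le d.U_Q g
  have hcjQ : ∀ (g : G) {S : Subgroup G}, S ≤ Cfsg.pCore p G → cj g S ≤ Cfsg.pCore p G :=
    fun g S hS => (cj_mono hS).trans (cj_normal g hQn).le
  have hcjnin : ∀ (g : G) {S : Subgroup G}, NIn (P : Subgroup G) S → ∀ c ∈ Cfsg.pCore p G,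
      ∀ s ∈ cj g S, c * s * c⁻¹ ∈ cj g S := by
    intro g S hS c hc s hs
    rw [mem_cj] at hs ⊢
    have h1 := hS _ (hQP (hQn.conj_mem c hc g⁻¹)) _ hs
    convert h1 using 1
    group
  -- the intersection of two conjugates
  have hDP : ∀ l : G, NIn (P : Subgroup G) (U ⊓ cj l U) := by
    intro l a ha e he
    obtain ⟨x, hx, c, hc, rfl⟩ := d.X_mem.exists_mul h.Q_mem (hPXQ.ge ha)
    have h1 : c * e * c⁻¹ ∈ U ⊓ cj l U := ⟨d.U_nin c (hQP hc) e he.1, hcjnin l d.U_nin c hc e he.2⟩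
    rw [show x * c * e * (x * c)⁻¹ = ⁅x, c * e * c⁻¹⁆ * (c * e * c⁻¹) by simp only [commutatorElement_def]; group]
    have hz := h.v.Z_le (hXUZ x hx _ h1.1)
    exact mul_mem ⟨d.V_le hz, hUV l hz⟩ h1
  have hDn : ∀ l, l ∉ fr.M → (U ⊓ cj l U).Normal := by
    intro l hl
    refine h.normal_of hl (hDP l) fun s hs e he => ?_
    have e0 : U ⊓ cj l U = cj l (U ⊓ cj l⁻¹ U) := by rw [cj_inf, cj_cj_inv, inf_comm]
    rw [e0, mem_cj] at he ⊢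
    have h1 := hDP l⁻¹ s hs _ he
    convert h1 using 1
    group
  have hwinv : fr.w⁻¹ ∉ fr.M := fun h' => fr.w_not (inv_mem_iff.mp h')
  obtain ⟨D, hD⟩ : ∃ D, D = U ⊓ cj fr.w U := ⟨_, rfl⟩
  haveI hDnorm : D.Normal := hD ▸ hDn fr.w fr.w_not
  have hDeq : ∀ l, l ∉ fr.M → U ⊓ cj l U = D := fun l hl => by
    refine le_antisymm ?_ ?_
    · rw [hD]
      exact le_inf inf_le_left ((cj_normal fr.w (hDn l hl)).ge.trans (cj_mono inf_le_left))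
    · exact le_inf (hD ▸ inf_le_left) ((cj_normal l hDnorm).ge.trans (cj_mono (hD ▸ inf_le_left)))
  have hDm : Mem (P : Subgroup G) D := hD ▸ d.U_mem.inf (hUcjm fr.w)
  have hVD : Vz P ≤ D := hD ▸ le_inf d.V_le (hUV _)
  have hDU : D ≤ U := hD ▸ inf_le_left
  have hDsplit : ∀ e ∈ D, ∃ v ∈ Vz P, ∃ c ∈ D, (∀ g ∈ res p G, g * c = c * g) ∧ v * c = e := by
    refine h.dlemma hDm hVD (hDU.trans d.U_Q) hXP hPXQ.ge (fun x hx e he => h.v.Z_le (hXUZ x hx e (hDU he)))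
      fun e he => ?_
    obtain ⟨v, hv, c, -, hcX, rfl⟩ := hUdec e (hDU he)
    exact ⟨v, hv, c, by simpa using mul_mem (inv_mem (hVD hv)) he, hcX, rfl⟩
  haveI := res_normal (G := G) p
  haveI hCn := PushUnique.centralizer_normal' (res p G)
  have hmemC : ∀ c : G, (∀ g ∈ res p G, g * c = c * g) ↔ c ∈ centralizer (res p G : Set G) :=
    fun c => mem_centralizer_iff.symm
  have hXC : ∀ x ∈ X, ∀ c ∈ D, (∀ g ∈ res p G, g * c = c * g) → x * c = c * x := by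
    intro x hx c hc hcres
    by_cases hxQ : x ∈ Cfsg.pCore p G
    · exact ((mem_cz.mp (d.X_U ⟨hx, hxQ⟩)).2 c (hDU hc)).symm
    have hz := hXUZ x hx c (hDU hc)
    have hzC : ⁅x, c⁆ ∈ centralizer (res p G : Set G) := by
      rw [commutatorElement_def]
      exact mul_mem (hCn.conj_mem _ ((hmemC c).mp hcres) x) (inv_mem ((hmemC c).mp hcres))
    have hcz : ⁅x, c⁆ ∈ Cz P := h.res_V (h.v.Z_le hz) ((hmemC _).mpr hzC)
    obtain ⟨v, hv, c', -, hcX, rfl⟩ := hUdec c (hDU hc)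
    rw [comm_right_drop (hcX x hx)] at hcz
    have hvZ := h.fix (hXP hx) hxQ hv hcz
    calc x * (v * c') = v * (x * c') := by rw [← mul_assoc, h.comm_Z (hXP hx) hvZ, mul_assoc]
      _ = v * (c' * x) := by rw [hcX x hx]
      _ = _ := by rw [mul_assoc]
  -- the translate `l'`
  obtain ⟨l', hl'def⟩ : ∃ l', l' = fr.w⁻¹ := ⟨_, rfl⟩
  have hl' : l' ∉ fr.M := hl'def ▸ hwinv
  obtain ⟨U₁, hU₁⟩ : ∃ U₁, U₁ = cj l' U := ⟨_, rfl⟩
  have hU₁m : Mem (P : Subgroup G) U₁ := hU₁ ▸ hUcjm l'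
  obtain ⟨Y, hY⟩ : ∃ Y, Y = U ⊔ sSup {S | ∃ x ∈ X, S = cj x U₁} := ⟨_, rfl⟩
  have hYm : Mem (P : Subgroup G) Y := hY ▸ d.U_mem.sSup _ (by
    rintro S ⟨x, -, rfl⟩
    rw [hU₁, cj_cj]; exact hUcjm _)
  have hYQ : Y ≤ Cfsg.pCore p G := by
    rw [hY]
    refine sup_le d.U_Q (sSup_le ?_)
    rintro S ⟨x, -, rfl⟩
    rw [hU₁, cj_cj]; exact hcjQ _ d.U_Q
  have hU₁Y : U₁ ≤ Y := hY ▸ le_sup_of_le_right (le_sSup ⟨1, one_mem _, (cj_one _).symm⟩)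
  have hYX : NIn X Y := by
    intro y hy z hz
    refine (?_ : Y ≤ Y.comap (MulAut.conj y).toMonoidHom) hz
    conv_lhs => rw [hY]
    refine sup_le (fun z hz => hY ▸ mem_sup_left (d.U_nin y (hXP hy) z hz)) (sSup_le ?_)
    rintro S ⟨x, hx, rfl⟩ z hz
    have hle : cj (y * x) U₁ ≤ sSup {S | ∃ x ∈ X, S = cj x U₁} := le_sSup ⟨y * x, mul_mem hy hx, rfl⟩
    have hmem : y * z * y⁻¹ ∈ cj (y * x) U₁ := by rw [← cj_cj]; exact conj_mem_cj hz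
    exact hY ▸ mem_sup_right (hle hmem)
  obtain ⟨U', hU'⟩ : ∃ U', U' = U ⊔ (X ⊓ Y) := ⟨_, rfl⟩
  have hU'm : Mem (P : Subgroup G) U' := hU' ▸ d.U_mem.sup (d.X_mem.inf hYm)
  have hUY : U ≤ Y := hY ▸ le_sup_left
  have hU'Y : U' ≤ Y := hU' ▸ sup_le hUY inf_le_right
  have hU'dec : ∀ e ∈ U', ∃ u ∈ U, ∃ x₁ ∈ X ⊓ Y, u * x₁ = e := fun e he =>
    d.U_mem.exists_mul (d.X_mem.inf hYm) (hU' ▸ he)
  have hU'X : ∀ x ∈ X, ∀ e ∈ U', ⁅x, e⁆ ∈ Zs P := fun x hx e he => by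
    obtain ⟨u, hu, x₁, hx₁, rfl⟩ := hU'dec e he
    rw [comm_right_drop (d.X_comm x hx x₁ hx₁.1)]
    exact hXUZ x hx u hu
  have hE : U' ⊓ U₁ = D := by
    refine le_antisymm ?_ ?_
    swap
    · rw [hU₁]
      exact le_inf (hDU.trans (hU' ▸ le_sup_left)) ((cj_normal l' hDnorm).ge.trans (cj_mono hDU))
    intro e he
    obtain ⟨T, hT⟩ : ∃ T, T = h.triv (U' ⊓ U₁) := ⟨_, rfl⟩
    have hTX : X ≤ T := hT ▸ fun x hx y hy => h.v.Z_le (hU'X x hx y hy.1)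
    have htop : T ⊔ Cfsg.pCore p G = ⊤ := by
      refine fr.gen_conj hl' _ (hPXQ.ge.trans (sup_le_sup_right hTX _)) fun s hs => ?_
      obtain ⟨x, hx, c, hc, rfl⟩ := d.X_mem.exists_mul h.Q_mem (hPXQ.ge hs)
      rw [show l' * (x * c) * l'⁻¹ = l' * x * l'⁻¹ * (l' * c * l'⁻¹) by group]
      refine mul_mem (mem_sup_left ?_) (mem_sup_right (hQn.conj_mem c hc l'))
      rw [hT]
      intro y hy
      rw [show ⁅l' * x * l'⁻¹, y⁆ = l' * ⁅x, l'⁻¹ * y * l'⁆ * l'⁻¹ by simp only [commutatorElement_def]; group]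
      exact h.conj_Vz l' (h.v.Z_le (hXUZ x hx _ (mem_cj.mp (hU₁ ▸ hy.2))))
    have hm : l' ∈ ((T ⊔ Cfsg.pCore p G : Subgroup G) : Set G) := htop.symm ▸ mem_top l'
    rw [Subgroup.mul_normal] at hm
    obtain ⟨g, hg, c, hc, hgc⟩ := hm
    have hgc' : g * c = l' := hgc
    have h1 : g⁻¹ * e * g ∈ U := by
      have h2 := mem_cj.mp (hU₁ ▸ he.2 : e ∈ cj l' U)
      rw [← hgc'] at h2
      have h3 := d.U_nin c (hQP hc) _ h2
      convert h3 using 1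
      group
    have h2 : ⁅g⁻¹, e⁆ ∈ U := by
      have hg' : g⁻¹ ∈ T := inv_mem hg
      rw [hT] at hg'
      exact d.V_le (hg' e he)
    have heU : e ∈ U := by
      have h3 := mul_mem (inv_mem h2) h1
      rwa [show ⁅g⁻¹, e⁆⁻¹ * (g⁻¹ * e * g) = e by simp only [commutatorElement_def]; group] at h3
    rw [← hDeq l' hl', ← hU₁]
    exact ⟨heU, he.2⟩
  have hczXY : cz (P : Subgroup G) (X ⊓ Y) = cz (P : Subgroup G) X ⊔ cz (P : Subgroup G) Y := d.X_mem.cz_inf hYm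
  have hYeq : U' ⊔ U₁ = Y := by
    refine le_antisymm (sup_le hU'Y hU₁Y) ?_
    rw [← hYm.cz_cz, ← (hU'm.sup hU₁m).cz_cz]
    refine cz_anti ?_
    intro b hb
    rw [cz_sup] at hb
    obtain ⟨c, hc, y, hy, hcy⟩ := d.X_mem.cz.exists_mul hYm.cz (hczXY.le (cz_anti (hU' ▸ le_sup_right) hb.1))
    refine mem_cz.mpr ⟨hb.1.1, fun z hz => ?_⟩
    refine mem_centralizer_singleton_iff.mp ((?_ : Y ≤ centralizer ({b} : Set G)) hz)
    conv_lhs => rw [hY]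
    refine sup_le (fun z hz => mem_centralizer_singleton_iff.mpr ((mem_cz.mp hb.1).2 z (hU' ▸ mem_sup_left hz))) (sSup_le ?_)
    rintro S ⟨x, hx, rfl⟩ _ ⟨z, hz, rfl⟩
    rw [mem_centralizer_singleton_iff]
    show x * z * x⁻¹ * b = b * (x * z * x⁻¹)
    have hy' : x⁻¹ * y * x ∈ cz (P : Subgroup G) Y := by
      refine mem_cz.mpr ⟨mul_mem (mul_mem (inv_mem (hXP hx)) hy.1) (hXP hx), fun k hk => ?_⟩
      have h1 := (mem_cz.mp hy).2 _ (hYX x hx k hk)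
      calc k * (x⁻¹ * y * x) = x⁻¹ * (x * k * x⁻¹ * y) * x := by group
        _ = x⁻¹ * (y * (x * k * x⁻¹)) * x := by rw [h1]
        _ = _ := by group
    have hc' : x⁻¹ * b * x = c * (x⁻¹ * y * x) := by
      have h1 := (mem_cz.mp hc).2 x hx
      calc x⁻¹ * b * x = x⁻¹ * c * (y * x) := by rw [← hcy]; group
        _ = (x⁻¹ * c * x) * (x⁻¹ * y * x) := by group
        _ = _ := by rw [mul_assoc x⁻¹ c x, ← h1, inv_mul_cancel_left]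
    have hcz1 : c * z = z * c := by
      have h1 := (mem_cz.mp hb.2).2 z hz
      have h2 := (mem_cz.mp (inv_mem hy)).2 z (hU₁Y hz)
      rw [show c = b * y⁻¹ by rw [← hcy, mul_inv_cancel_right], mul_assoc, ← h2, ← mul_assoc, ← h1, mul_assoc]
    have h3 : z * (x⁻¹ * b * x) = x⁻¹ * b * x * z := by
      rw [hc', ← mul_assoc, ← hcz1, mul_assoc, (mem_cz.mp hy').2 z (hU₁Y hz), ← mul_assoc]
    calc x * z * x⁻¹ * b = x * (z * (x⁻¹ * b * x)) * x⁻¹ := by group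
      _ = x * (x⁻¹ * b * x * z) * x⁻¹ := by rw [h3]
      _ = _ := by group
  -- the two cases
  intro r hr u hu
  rw [show (∀ g ∈ res p G, g * ⁅r, u⁆ = ⁅r, u⁆ * g) ↔ _ from hmemC _]
  have hrQ := d.X₀_Q hr
  by_cases hcase : X₀ ≤ cz (P : Subgroup G) D
  swap
  · -- `U` is covered by `D`
    have hU₀ : X₀ ⊓ cz (P : Subgroup G) U = X₁ := (d.atom _ (d.X₀_mem.inf d.U_mem.cz) (le_inf d.X₁_le d.X₁_U)
      inf_le_left).resolve_right fun he => hcase ((he.ge.trans inf_le_right).trans (cz_anti hDU))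
    have hD₀ : X₀ ⊓ cz (P : Subgroup G) D = X₁ := (d.atom _ (d.X₀_mem.inf hDm.cz)
      (le_inf d.X₁_le (d.X₁_U.trans (cz_anti hDU))) inf_le_left).resolve_right fun he => hcase (he.ge.trans inf_le_right)
    obtain ⟨k, hk⟩ : ∃ k, Nat.card X₀ = k * Nat.card X₁ :=
      ⟨_, (Grp.card_mul_relIndex d.X₁_le).symm.trans (mul_comm _ _)⟩
    have hstep : ∀ E : Subgroup G, Mem (P : Subgroup G) E → X₀ ⊓ cz (P : Subgroup G) E = X₁ →
        Nat.card E = k * Nat.card ↥(E ⊓ cz (P : Subgroup G) X₀) := by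
      intro E hEm hE₀
      refine (hEm.inf d.X₀_mem.cz).index_eq hEm ?_
      rw [hEm.cz_inf d.X₀_mem.cz, d.X₀_mem.cz_cz]
      have h1 := hEm.cz.card_sup d.X₀_mem
      rw [inf_comm, hE₀, hk] at h1
      refine Nat.eq_of_mul_eq_mul_right (Nat.card_pos (α := X₁)) ?_
      rw [h1]; ring
    have hU1 := hstep U d.U_mem hU₀
    have hD1 := hstep D hDm hD₀
    have hsup : D ⊔ (U ⊓ cz (P : Subgroup G) X₀) = U := by
      refine eq_of_le_of_card_ge (sup_le hDU inf_le_left) (le_of_eq ?_)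
      have h1 := hDm.card_sup (d.U_mem.inf d.X₀_mem.cz)
      rw [← inf_assoc, inf_eq_left.mpr hDU, hD1] at h1
      refine Nat.eq_of_mul_eq_mul_right (Nat.card_pos (α := ↥(D ⊓ cz (P : Subgroup G) X₀))) ?_
      rw [h1, hU1]; ring
    obtain ⟨e, he, c, hc, rfl⟩ := hDm.exists_mul (d.U_mem.inf d.X₀_mem.cz) (hsup.ge hu)
    rw [comm_right_drop ((mem_cz.mp hc.2).2 r hr)]
    obtain ⟨v, hv, c₀, hc₀, hc₀res, rfl⟩ := hDsplit e he
    have hrv : ⁅r, v⁆ = 1 := (comm_one_iff _ _).mpr (h.v.cent_core r hrQ v hv)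
    have hrc : r * c₀ * r⁻¹ ∈ D := hDnorm.conj_mem c₀ hc₀ r
    rw [cmul_right, hrv, one_mul, d.U_comm v (d.V_le hv) ⁅r, c₀⁆ (hDU (by
      rw [commutatorElement_def]; exact mul_mem hrc (inv_mem hc₀))), mul_inv_cancel_right, commutatorElement_def]
    exact mul_mem (hCn.conj_mem _ ((hmemC c₀).mp hc₀res) r) (inv_mem ((hmemC c₀).mp hc₀res))
  -- `r` centralises `D`
  have hDw : U ⊓ cj fr.w U' = D := by
    have h1 : cj fr.w (U' ⊓ U₁) = cj fr.w D := by rw [hE]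
    rw [cj_inf, hU₁, hl'def, cj_cj_inv, cj_normal fr.w hDnorm, inf_comm] at h1
    exact h1
  have hU'Q : U' ≤ Cfsg.pCore p G := hU'Y.trans hYQ
  have hVU' : Vz P ≤ U' := d.V_le.trans (hU' ▸ le_sup_left)
  have hcjU' := h.cj_mem hU'm hVU' hU'Q fr.w
  obtain ⟨a₀, ha₀, b₀, hb₀, hab⟩ := d.U_mem.cz.exists_mul hcjU'.cz
    ((d.U_mem.cz_inf hcjU').le (by rw [hDw]; exact hcase hr))
  have ha₀W : a₀ ∈ cz (P : Subgroup G) W := cz_anti d.W_le ha₀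
  have hb₀W : b₀ ∈ cz (P : Subgroup G) W := by
    rw [show b₀ = a₀⁻¹ * r by rw [← hab, inv_mul_cancel_left]]
    exact mul_mem (inv_mem ha₀W) (d.X₀_W hr)
  have hzW : ⁅r, u⁆ = ⁅b₀, u⁆ ∧ ⁅b₀, u⁆ ∈ W := by
    refine ⟨?_, d.move b₀ hb₀W u hu⟩
    rw [← hab, cmul_left, (comm_one_iff a₀ u).mpr ((mem_cz.mp ha₀).2 u hu).symm, mul_one,
      ← (mem_cz.mp ha₀).2 _ (d.W_le (d.move b₀ hb₀W u hu)), mul_inv_cancel_right]
  rw [h.cz_cj hVU', mem_cj] at hb₀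
  obtain ⟨a, hadef⟩ : ∃ a, a = fr.w⁻¹ * b₀ * fr.w := ⟨_, rfl⟩
  rw [← hadef] at hb₀
  have hW₁Y : cj l' W ≤ U₁ := hU₁ ▸ cj_mono d.W_le
  obtain ⟨c, hc, y, hy, hcy⟩ := d.X_mem.cz.exists_mul hYm.cz (hczXY.le (cz_anti (hU' ▸ le_sup_right) hb₀))
  have hcU' : c ∈ cz (P : Subgroup G) U' := by
    rw [show c = a * y⁻¹ by rw [← hcy, mul_inv_cancel_right]]
    exact mul_mem hb₀ (inv_mem (cz_anti hU'Y hy))
  have hcval : ∀ u₂ ∈ U₁, ⁅c, u₂⁆ ∈ cj l' W ∧ (∀ u₃ ∈ U, u₂ = l' * u₃ * l'⁻¹ → ⁅c, u₂⁆ = l' * ⁅b₀, u₃⁆ * l'⁻¹) := by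
    intro u₂ hu₂
    have h1 : ⁅c, u₂⁆ = ⁅a, u₂⁆ := by
      rw [← hcy, comm_left_drop ((mem_cz.mp hy).2 u₂ (hU₁Y hu₂)).symm]
    obtain ⟨u₃, hu₃, rfl⟩ := (hU₁ ▸ hu₂ : u₂ ∈ cj l' U)
    have h2 : ⁅a, l' * u₃ * l'⁻¹⁆ = l' * ⁅b₀, u₃⁆ * l'⁻¹ := by
      rw [hadef, hl'def, conj_comm fr.w⁻¹ b₀ u₃]; simp only [inv_inv]
    refine ⟨?_, fun u₄ _ he => ?_⟩
    · show ⁅c, l' * u₃ * l'⁻¹⁆ ∈ _
      rw [show ⁅c, l' * u₃ * l'⁻¹⁆ = ⁅a, l' * u₃ * l'⁻¹⁆ from h1, h2]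
      exact conj_mem_cj (d.move b₀ hb₀W u₃ hu₃)
    · have he' : u₃ = u₄ := mul_left_cancel (mul_right_cancel (show l' * u₃ * l'⁻¹ = l' * u₄ * l'⁻¹ from he))
      subst he'
      exact h1.trans h2
  obtain ⟨x, hx, hxQ⟩ := SetLike.not_le_iff_exists.mp d.X_Q
  obtain ⟨u₁, hu₁def⟩ : ∃ u₁, u₁ = l' * u * l'⁻¹ := ⟨_, rfl⟩
  have hu₁ : u₁ ∈ U₁ := hu₁def ▸ hU₁ ▸ conj_mem_cj hu
  obtain ⟨z₀, hz₀⟩ : ∃ z₀, z₀ = ⁅c, u₁⁆ := ⟨_, rfl⟩
  have hz₀W : z₀ ∈ cj l' W := hz₀ ▸ (hcval u₁ hu₁).1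
  have hz₀eq : z₀ = l' * ⁅r, u⁆ * l'⁻¹ := by rw [hz₀, (hcval u₁ hu₁).2 u hu hu₁def, hzW.1]
  have hz₁W : x * z₀ * x⁻¹ ∈ cj l' W := by
    have hxu : x * u₁ * x⁻¹ ∈ Y := hYX x hx u₁ (hU₁Y hu₁)
    obtain ⟨e, he, u₂, hu₂, heu⟩ := hU'm.exists_mul hU₁m (hYeq.ge hxu)
    rw [hz₀, conj_comm, show x * c * x⁻¹ = c by rw [(mem_cz.mp hc).2 x hx, mul_inv_cancel_right], ← heu, cmul_right,
      (comm_one_iff c e).mpr ((mem_cz.mp hcU').2 e he).symm, one_mul]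
    exact hcjnin l' d.W_nin e (hU'Q he) _ (hcval u₂ hu₂).1
  have hz₀D : z₀ ∈ D := by
    have h1 : fr.w * x⁻¹ * fr.w⁻¹ ∉ fr.M := h.conj_not_M (inv_mem (hXP hx)) (fun h' => hxQ (inv_mem_iff.mp h')) fr.w_not
    have h2 := hDeq _ h1
    rw [← cj_normal l' hDnorm, ← h2, cj_inf, cj_cj]
    refine ⟨hU₁ ▸ hW₁Y hz₀W, ?_⟩
    show z₀ ∈ cj (l' * (fr.w * x⁻¹ * fr.w⁻¹)) U
    rw [hl'def, show fr.w⁻¹ * (fr.w * x⁻¹ * fr.w⁻¹) = x⁻¹ * fr.w⁻¹ by group, ← cj_cj, mem_cj, inv_inv, ← hl'def, ← hU₁]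
    exact hW₁Y hz₁W
  obtain ⟨v, hv, c₀, hc₀, hc₀res, hvc⟩ := hDsplit z₀ hz₀D
  have hvZ : v ∈ Zs P := by
    refine h.fix (hXP hx) hxQ hv ?_
    have h1 : ⁅x, v⁆ = ⁅x, z₀⁆ := by rw [← hvc, comm_right_drop (hXC x hx c₀ hc₀ hc₀res)]
    have h2 : ⁅x, v⁆ ∈ cj l' W := by rw [h1, commutatorElement_def]; exact mul_mem hz₁W (inv_mem hz₀W)
    have h3 : ⁅x, v⁆ ∈ cj l' W ⊓ Vz P := ⟨h2, h.comm_Vz x hv⟩
    rw [← cj_normal l' h.Vz_normal, ← cj_inf, d.W_V] at h3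
    exact h.Z_inf_cj hl' ⟨h.v.move x (hXP hx) v hv, h3⟩
  have hzeq : ⁅r, u⁆ = fr.w * v * fr.w⁻¹ * (fr.w * c₀ * fr.w⁻¹) := by
    rw [show fr.w * v * fr.w⁻¹ * (fr.w * c₀ * fr.w⁻¹) = fr.w * (v * c₀) * fr.w⁻¹ by group, hvc, hz₀eq, hl'def]
    group
  have hcw : fr.w * c₀ * fr.w⁻¹ ∈ centralizer (res p G : Set G) := hCn.conj_mem _ ((hmemC c₀).mp hc₀res) _
  have hzD : ⁅r, u⁆ ∈ D := by
    rw [hzeq]
    exact mul_mem (hDnorm.conj_mem _ (hVD hv) _) (hDnorm.conj_mem _ hc₀ _)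
  have hzW' : ⁅r, u⁆ ∈ W := hzW.1 ▸ hzW.2
  obtain ⟨v', hv', c', hc', hvc'⟩ : ∃ v' ∈ Zs P, ∃ c' ∈ centralizer (res p G : Set G), v' * c' = ⁅r, u⁆ := by
    rcases d.W_atom _ (d.W_mem.inf hDm) inf_le_left with he | he
    · exact ⟨_, he.le ⟨hzW', hzD⟩, 1, one_mem _, mul_one _⟩
    · obtain ⟨v', hv', c', hc', hc'res, hvc'⟩ := hDsplit _ hzD
      refine ⟨v', h.fix' (hXP hx) hxQ hv' ?_, c', (hmemC c').mp hc'res, hvc'⟩
      have h1 := ((mem_cz.mp (d.X_W hx)).2 _ hzW').symm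
      rw [← hvc', ← mul_assoc] at h1
      refine mul_right_cancel (b := c') ?_
      rw [h1, mul_assoc v' c' x, ← hXC x hx c' hc' hc'res, ← mul_assoc]
  have hvw : fr.w * v * fr.w⁻¹ ∈ cj fr.w (Zs P) := conj_mem_cj hvZ
  have hdiff : (fr.w * v * fr.w⁻¹)⁻¹ * v' ∈ Cz P := by
    refine h.res_V (mul_mem (inv_mem (h.conj_Vz _ hv)) (h.v.Z_le hv')) ((hmemC _).mpr ?_)
    have h1 : (fr.w * v * fr.w⁻¹)⁻¹ * v' = fr.w * c₀ * fr.w⁻¹ * c'⁻¹ := by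
      rw [show v' = ⁅r, u⁆ * c'⁻¹ by rw [← hvc', mul_inv_cancel_right], hzeq]
      group
    rw [h1]; exact mul_mem hcw (inv_mem hc')
  have hv'C : v' ∈ Cz P := by
    refine h.Z_inf_cj fr.w_not ⟨hv', ?_⟩
    have h2 := mul_mem hvw ((cj_normal fr.w (instNormalCz P)).ge.trans (cj_mono h.Cz_le_Zs) hdiff)
    rwa [mul_inv_cancel_left] at h2
  rw [← hvc']
  exact mul_mem (mem_centralizer_iff.mpr fun g _ => Subgroup.mem_center_iff.mp hv'C.2 g) hc'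

end Cfsg.Agent.Fus.GN
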