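import Mathlib
import Cfsg.Agent.Lib.Fus.GN.DLemma
import Cfsg.Agent.Lib.Fus.GN.Long
import Cfsg.Agent.Lib.Fus.GN.Bounds

/-!
# Pairs for pushing up: chains of length one, split case
-/

set_option autoImplicit false
set_option linter.style.haveILetI false
set_option linter.unusedSectionVars false

namespace Cfsg.Agent.Fus.GN

open Subgroup Cfsg.Agent.Invol Cfsg.Agent.Invol.PushUp
open scoped commutatorElement

universe u

variable {G : Type u} [Group G] [Finite G] {p : ℕ} [hp : Fact p.Prime]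
variable {P : Sylow p G} {F : Type} [Field F] [Fintype F] {fr : Frame P F}

/-- The hypotheses of a chain of length one at the group `G`. -/
structure ShortData (fr : Frame P F) (W X : Subgroup G) : Prop where
  W_mem : Mem (P : Subgroup G) W
  W_nin : NIn (P : Subgroup G) W
  W_comm : ∀ a ∈ W, ∀ b ∈ W, a * b = b * a
  W_exp : ∀ w ∈ W, w ^ p = 1
  W_Q : W ≤ Cfsg.pCore p G
  W_move : ∀ s ∈ (P : Subgroup G), ∀ w ∈ W, ⁅s, w⁆ ∈ Zs P
  W_atom : ∀ M, Mem (P : Subgroup G) M → M ≤ W → M = Zs P ∨ M = W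
  W_V : W ⊓ Vz P = Zs P
  X_mem : Mem (P : Subgroup G) X
  X_comm : ∀ a ∈ X, ∀ b ∈ X, a * b = b * a
  X_exp : ∀ x ∈ X, x ^ p = 1
  X_W : X ≤ cz (P : Subgroup G) W
  X_Q : ¬ X ≤ Cfsg.pCore p G
  X_inf : X ⊓ Cfsg.pCore p G = W

/-- The facts derived from a chain of length one. -/
structure ShortFacts (fr : Frame P F) (W X R : Subgroup G) : Prop where
  R_eq : R = cz (P : Subgroup G) (Vz P ⊔ W)
  R_mem : Mem (P : Subgroup G) R
  R_Q : R ≤ Cfsg.pCore p G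
  R_nin : NIn (P : Subgroup G) R
  R_V : Vz P ≤ R
  R_W : W ≤ R
  R_inf : R = Cfsg.pCore p G ⊓ cz (P : Subgroup G) W
  XR : ∀ x ∈ X, ∀ r ∈ R, ⁅x, r⁆ ∈ Zs P
  split : ∀ r ∈ R, ∃ v ∈ Vz P, ∃ c ∈ R, (∀ x ∈ X, x * c = c * x) ∧ v * c = r
  Qj : ∀ a ∈ cz (P : Subgroup G) W, ∃ x ∈ X, ∃ r ∈ R, x * r = a

variable (h : Loc fr)
include h

theorem Loc.short_facts {W X : Subgroup G} (d : ShortData fr W X) : ∃ R, ShortFacts fr W X R := by
  haveI hQn := Frame.Q_normal (G := G) (p := p)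
  obtain ⟨R, hR⟩ : ∃ R, R = cz (P : Subgroup G) (Vz P ⊔ W) := ⟨_, rfl⟩
  have hMm : Mem (P : Subgroup G) (Vz P ⊔ W) := h.V_mem.sup d.W_mem
  have hRm : Mem (P : Subgroup G) R := hR ▸ hMm.cz
  have hRi : R = Cfsg.pCore p G ⊓ cz (P : Subgroup G) W := by rw [hR, cz_sup, h.cz_V]
  have hRQ : R ≤ Cfsg.pCore p G := hRi ▸ inf_le_left
  have hVR : Vz P ≤ R := by
    rw [hR, cz_sup]
    exact le_inf (by rw [h.cz_V]; exact h.v.le_core) (le_cz_comm h.V_le (by rw [h.cz_V]; exact d.W_Q))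
  have hWR : W ≤ R := hRi ▸ le_inf d.W_Q (fun w hw => mem_cz.mpr ⟨d.W_mem.le hw, fun a ha => d.W_comm a ha w hw⟩)
  have hX' : X ⊓ cz (P : Subgroup G) R = X ⊓ Cfsg.pCore p G := by
    rw [hR, hMm.cz_cz]
    refine le_antisymm (inf_le_inf_left _ (sup_le h.v.le_core d.W_Q)) ?_
    rw [d.X_inf]
    exact le_inf (d.X_inf ▸ inf_le_left) le_sup_right
  have hsplit := h.split_U hRm hVR d.X_mem d.X_Q hX'
  refine ⟨R, hR, hRm, hRQ, hRi ▸ (NIn.of_normal hQn).inf d.W_nin.cz, hVR, hWR, hRi, fun x hx r hr => ?_, hsplit,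
    fun a ha => ?_⟩
  · obtain ⟨v, hv, c, -, hcX, rfl⟩ := hsplit r hr
    rw [comm_right_drop (hcX x hx)]
    exact h.v.move x (d.X_mem.le hx) v hv
  · obtain ⟨x, hx, c, hc, rfl⟩ := d.X_mem.exists_mul h.Q_mem ((h.sup_core d.X_mem d.X_Q).ge ha.1)
    exact ⟨x, hx, c, hRi ▸ ⟨hc, by simpa using mul_mem (inv_mem (d.X_W hx)) ha⟩, rfl⟩

/-- In the split case `R` decomposes over the centraliser of the residual. -/
theorem Loc.dead_split {W X R : Subgroup G} (d : ShortData fr W X) (f : ShortFacts fr W X R)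
    (hn : (Vz P ⊔ W).Normal) :
    R.Normal ∧ (∀ r ∈ R, ∃ v ∈ Vz P, ∃ c ∈ R, (∀ g ∈ res p G, g * c = c * g) ∧ v * c = r) ∧
      ∀ x ∈ X, ∀ c ∈ R, (∀ g ∈ res p G, g * c = c * g) → x * c = c * x := by
  haveI hQn := Frame.Q_normal (G := G) (p := p)
  have hR : R = Cfsg.pCore p G ⊓ centralizer ((Vz P ⊔ W : Subgroup G) : Set G) := by
    refine le_antisymm (le_inf f.R_Q (f.R_eq ▸ inf_le_right)) ?_
    rw [f.R_eq, cz]
    exact le_inf (inf_le_left.trans Frame.Q_le_S) inf_le_right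
  haveI := PushUnique.centralizer_normal' (Vz P ⊔ W)
  haveI hRn : R.Normal := hR ▸ inferInstance
  have hPXQ := h.sup_core d.X_mem d.X_Q
  have hsplit := h.dlemma f.R_mem f.R_V f.R_Q d.X_mem.le hPXQ.ge (fun x hx r hr => h.v.Z_le (f.XR x hx r hr)) f.split
  haveI := res_normal (G := G) p
  haveI hCn := PushUnique.centralizer_normal' (res p G)
  refine ⟨hRn, hsplit, fun x hx c hc hcres => ?_⟩
  by_cases hxQ : x ∈ Cfsg.pCore p G
  · have hxW : x ∈ W := d.X_inf ▸ ⟨hx, hxQ⟩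
    exact (mem_cz.mp (f.R_eq ▸ hc)).2 x (mem_sup_right hxW)
  have hz := f.XR x hx c hc
  have hcC : c ∈ centralizer (res p G : Set G) := mem_centralizer_iff.mpr hcres
  have hzC : ⁅x, c⁆ ∈ centralizer (res p G : Set G) := by
    rw [commutatorElement_def]; exact mul_mem (hCn.conj_mem _ hcC x) (inv_mem hcC)
  have hcz : ⁅x, c⁆ ∈ Cz P := h.res_V (h.v.Z_le hz) (mem_centralizer_iff.mp hzC)
  obtain ⟨v, hv, c', -, hcX, rfl⟩ := f.split c hc
  rw [comm_right_drop (hcX x hx)] at hcz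
  have hvZ := h.fix (d.X_mem.le hx) hxQ hv hcz
  calc x * (v * c') = v * (x * c') := by rw [← mul_assoc, h.comm_Z (d.X_mem.le hx) hvZ, mul_assoc]
    _ = v * (c' * x) := by rw [hcX x hx]
    _ = _ := by rw [mul_assoc]

/-- In the split case the commutators of `R` lie in a normal subgroup meeting the fixed line centrally. -/
theorem Loc.dead_RR {W X R : Subgroup G} (d : ShortData fr W X) (f : ShortFacts fr W X R)
    (hn : (Vz P ⊔ W).Normal) :
    ∃ N : Subgroup G, N.Normal ∧ (∀ z ∈ Zs P, z ∈ N → z ∈ center G) ∧ ∀ a ∈ R, ∀ b ∈ R, ⁅a, b⁆ ∈ N := by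
  obtain ⟨hRn, hsplit, -⟩ := h.dead_split d f hn
  haveI := hRn
  haveI := res_normal (G := G) p
  haveI := PushUnique.centralizer_normal' (res p G)
  refine ⟨centralizer (res p G : Set G), inferInstance,
    fun z hz hzN => (h.res_V (h.v.Z_le hz) (mem_centralizer_iff.mp hzN)).2, fun a ha b hb => ?_⟩
  obtain ⟨v, hv, c, hc, hcres, rfl⟩ := hsplit a ha
  obtain ⟨v', hv', c', hc', hc'res, rfl⟩ := hsplit b hb
  have hVc : ∀ {x w}, x ∈ R → w ∈ Vz P → x * w = w * x := fun hx hw => h.v.cent_core _ (f.R_Q hx) _ hw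
  rw [← hVc hc hv, comm_left_drop (hVc (mul_mem (f.R_V hv') hc') hv).symm, ← hVc hc' hv',
    comm_right_drop (hVc hc hv'), commutatorElement_def]
  exact mul_mem (mul_mem (mul_mem (mem_centralizer_iff.mpr hcres) (mem_centralizer_iff.mpr hc'res))
    (inv_mem (mem_centralizer_iff.mpr hcres))) (inv_mem (mem_centralizer_iff.mpr hc'res))

/-- In the split case `X` is normalised by `P`. -/
theorem Loc.dead_nin {W X R : Subgroup G} (d : ShortData fr W X) (f : ShortFacts fr W X R)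
    (hn : (Vz P ⊔ W).Normal) : NIn (P : Subgroup G) X := by
  classical
  obtain ⟨hRn, hsplit, hXC⟩ := h.dead_split d f hn
  haveI := hRn
  haveI hQn := Frame.Q_normal (G := G) (p := p)
  haveI := res_normal (G := G) p
  obtain ⟨C₀, hC₀⟩ : ∃ C₀, C₀ = R ⊓ centralizer (res p G : Set G) := ⟨_, rfl⟩
  haveI hC₀n : C₀.Normal := by
    haveI := PushUnique.centralizer_normal' (res p G)
    exact hC₀ ▸ inferInstance
  have hC₀mem : ∀ c, c ∈ C₀ ↔ c ∈ R ∧ ∀ g ∈ res p G, g * c = c * g := fun c => by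
    rw [hC₀]; exact and_congr_right fun _ => mem_centralizer_iff
  have hC₀R : ∀ c ∈ C₀, c ∈ R := fun c hc => ((hC₀mem c).mp hc).1
  have hXc₀ : ∀ x ∈ X, ∀ c ∈ C₀, x * c = c * x := fun x hx c hc => hXC x hx c (hC₀R c hc) ((hC₀mem c).mp hc).2
  have hdec : ∀ r ∈ R, ∃ v ∈ Vz P, ∃ c ∈ C₀, v * c = r := fun r hr => by
    obtain ⟨v, hv, c, hc, hcres, rfl⟩ := hsplit r hr
    exact ⟨v, hv, c, (hC₀mem c).mpr ⟨hc, hcres⟩, rfl⟩
  have hC₀Cz : ∀ v ∈ Vz P, v ∈ C₀ → v ∈ Cz P := fun v hv hvC => h.res_V hv ((hC₀mem v).mp hvC).2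
  have hC₀P : ∀ c ∈ C₀, c ∈ (P : Subgroup G) := fun c hc => Frame.Q_le_S (f.R_Q (hC₀R c hc))
  have hCzC₀ : ∀ z ∈ Cz P, z ∈ C₀ := fun z hz =>
    (hC₀mem z).mpr ⟨f.R_V (h.v.Z_le (h.Cz_le_Zs hz)), fun g _ => Subgroup.mem_center_iff.mp hz.2 g⟩
  obtain ⟨x₀, hx₀, hx₀Q⟩ := SetLike.not_le_iff_exists.mp d.X_Q
  -- the key fact
  have key : ∀ x ∈ X, ∀ t ∈ Cfsg.pCore p G, ⁅x, t⁆ ∈ cz (P : Subgroup G) X := by
    intro x hx t ht
    by_cases hxQ : x ∈ Cfsg.pCore p G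
    · have hxW : x ∈ W := d.X_inf ▸ ⟨hx, hxQ⟩
      have hz : ⁅x, t⁆ ∈ Zs P := by
        rw [← commutatorElement_inv]; exact inv_mem (d.W_move t (Frame.Q_le_S ht) x hxW)
      exact mem_cz.mpr ⟨hz.1, fun a ha => h.comm_Z (d.X_mem.le ha) hz⟩
    have hxP := d.X_mem.le hx
    have hxtR : ∀ t ∈ Cfsg.pCore p G, ⁅x, t⁆ ∈ R := fun t ht => by
      rw [f.R_inf, commutatorElement_def]
      refine Subgroup.mem_inf.mpr ⟨mul_mem (hQn.conj_mem t ht x) (inv_mem ht), ?_⟩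
      rw [mul_assoc, mul_assoc]
      refine mul_mem (d.X_W hx) ?_
      rw [← mul_assoc]
      exact d.W_nin.cz t (Frame.Q_le_S ht) _ ((cz (P : Subgroup G) W).inv_mem (d.X_W hx))
    obtain ⟨v, hv, c, hc, hvc⟩ := hdec _ (hxtR t ht)
    suffices hvZ : v ∈ Zs P by
      rw [← hvc]
      refine mem_cz.mpr ⟨mul_mem hvZ.1 (hC₀P c hc), fun a ha => ?_⟩
      calc a * (v * c) = v * (a * c) := by rw [← mul_assoc, h.comm_Z (d.X_mem.le ha) hvZ, mul_assoc]
        _ = v * (c * a) := by rw [hXc₀ a ha c hc]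
        _ = _ := by rw [mul_assoc]
    have hcv : c * v = v * c := h.v.cent_core c (f.R_Q (hC₀R c hc)) v hv
    rcases hp.out.eq_two_or_odd' with hp2 | hodd
    · -- an involution inverts its commutators
      have hx2 : x⁻¹ = x := inv_eq_of_mul_eq_one_left (by have := d.X_exp x hx; rwa [hp2, sq] at this)
      have hv2 : v⁻¹ = v := inv_eq_of_mul_eq_one_left (by have := h.v.exp v hv; rwa [hp2, sq] at this)
      have h1 : x * ⁅x, t⁆ * x⁻¹ = ⁅x, t⁆⁻¹ := by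
        simp only [commutatorElement_def, mul_inv_rev, inv_inv, hx2]
        have hxx : x * x = 1 := by have := d.X_exp x hx; rwa [hp2, sq] at this
        calc x * (x * t * x * t⁻¹) * x = x * x * (t * x * t⁻¹ * x) := by group
          _ = t * x * t⁻¹ * x := by rw [hxx, one_mul]
          _ = _ := by group
      rw [← hvc, mul_inv_rev, show x * (v * c) * x⁻¹ = x * v * x⁻¹ * (x * c * x⁻¹) by group, hXc₀ x hx c hc,
        mul_inv_cancel_right, hv2] at h1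
      have h2 : ⁅x, v⁆ = (c⁻¹) ^ 2 := by
        rw [commutatorElement_def, eq_mul_inv_of_mul_eq h1, hv2, sq]
        have hc' : Commute c⁻¹ v := Commute.inv_left hcv
        have hvv : v * v = 1 := by have := h.v.exp v hv; rwa [hp2, sq] at this
        calc c⁻¹ * v * c⁻¹ * v = c⁻¹ * (c⁻¹ * v) * v := by rw [mul_assoc c⁻¹ v c⁻¹, hc'.eq.symm]
          _ = c⁻¹ * c⁻¹ * (v * v) := by group
          _ = _ := by rw [hvv, mul_one]
      exact h.fix hxP hxQ hv (hC₀Cz _ (h.comm_Vz x hv) (h2 ▸ pow_mem (inv_mem hc) 2))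
    -- odd primes: the central involution of the linear group
    obtain ⟨H, hHdef⟩ : ∃ H : Subgroup G, ∀ g, g ∈ H ↔ ((∀ t ∈ Cfsg.pCore p G, ⁅g, t⁆ ∈ R) ∧
        ∀ c ∈ C₀, g * c = c * g) := by
      refine ⟨{ carrier := {g | (∀ t ∈ Cfsg.pCore p G, ⁅g, t⁆ ∈ R) ∧ ∀ c ∈ C₀, g * c = c * g}
                one_mem' := ⟨fun t _ => by simp [one_mem], fun c _ => by simp⟩
                mul_mem' := ?_
                inv_mem' := ?_ }, fun g => Iff.rfl⟩
      · rintro a b ⟨ha, ha'⟩ ⟨hb, hb'⟩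
        refine ⟨fun t ht => ?_, fun c hc => ?_⟩
        · rw [cmul_left]; exact mul_mem (hRn.conj_mem _ (hb t ht) a) (ha t ht)
        · rw [mul_assoc, hb' c hc, ← mul_assoc, ha' c hc, mul_assoc]
      · rintro a ⟨ha, ha'⟩
        refine ⟨fun t ht => ?_, fun c hc => ?_⟩
        · rw [show ⁅a⁻¹, t⁆ = a⁻¹ * ⁅a, t⁆⁻¹ * a⁻¹⁻¹ by simp only [commutatorElement_def]; group]
          exact hRn.conj_mem _ (inv_mem (ha t ht)) _
        · exact (Commute.inv_left (ha' c hc)).eq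
    haveI hHn : H.Normal := ⟨fun a ha g => (hHdef _).mpr ⟨fun t ht => by
        rw [show ⁅g * a * g⁻¹, t⁆ = g * ⁅a, g⁻¹ * t * g⁆ * g⁻¹ by simp only [commutatorElement_def]; group]
        exact hRn.conj_mem _ (((hHdef a).mp ha).1 _ (by simpa using hQn.conj_mem t ht g⁻¹)) g, fun c hc => by
        have h1 := ((hHdef a).mp ha).2 (g⁻¹ * c * g) (by simpa using hC₀n.conj_mem c hc g⁻¹)
        calc g * a * g⁻¹ * c = g * (a * (g⁻¹ * c * g)) * g⁻¹ := by group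
          _ = g * (g⁻¹ * c * g * a) * g⁻¹ := by rw [h1]
          _ = _ := by group⟩⟩
    have hXH : X ≤ H := fun y hy => (hHdef y).mpr ⟨fun t ht => by
      rw [f.R_inf, commutatorElement_def]
      refine Subgroup.mem_inf.mpr ⟨mul_mem (hQn.conj_mem t ht y) (inv_mem ht), ?_⟩
      rw [mul_assoc, mul_assoc]
      refine mul_mem (d.X_W hy) ?_
      rw [← mul_assoc]
      exact d.W_nin.cz t (Frame.Q_le_S ht) _ ((cz (P : Subgroup G) W).inv_mem (d.X_W hy)), fun c hc => hXc₀ y hy c hc⟩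
    have htop : H ⊔ (P : Subgroup G) = ⊤ := h.sup_top hxP (hXH hx) hxQ
    have hHQ : ∀ k ∈ H, k ∈ Cfsg.pCore p G → ∀ t ∈ Cfsg.pCore p G, ⁅k, t⁆ ∈ Cz P := by
      have hkM : ∀ k ∈ H, k ∈ Cfsg.pCore p G → k ∈ Vz P ⊔ W := by
        intro k hk hkQ
        rw [← (h.V_mem.sup d.W_mem).cz_cz, ← f.R_eq]
        refine mem_cz.mpr ⟨Frame.Q_le_S hkQ, fun r hr => ?_⟩
        obtain ⟨v, hv, c, hc, rfl⟩ := hdec r hr
        have h1 := ((hHdef k).mp hk).2 c hc
        rw [mul_assoc, ← h1, ← mul_assoc, ← h.v.cent_core k hkQ v hv, mul_assoc]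
      have hkZ : ∀ k ∈ H, k ∈ Cfsg.pCore p G → ∀ t ∈ Cfsg.pCore p G, ⁅k, t⁆ ∈ Zs P := by
        intro k hk hkQ t ht
        obtain ⟨v, hv, w, hw, rfl⟩ := h.V_mem.exists_mul d.W_mem (hkM k hk hkQ)
        have hz : ⁅w, t⁆ ∈ Zs P := by
          rw [← commutatorElement_inv]; exact inv_mem (d.W_move t (Frame.Q_le_S ht) w hw)
        rw [cmul_left, (comm_one_iff v t).mpr (h.v.cent_core t ht v hv).symm, mul_one, h.comm_Z (h.V_le hv) hz,
          mul_inv_cancel_right]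
        exact hz
      intro k hk hkQ t ht
      obtain ⟨g, hg, hgM⟩ : ∃ g ∈ H, g ∉ fr.M := by
        by_contra hc
        push Not at hc
        exact fr.M_ne_top (top_le_iff.mp (htop ▸ sup_le hc fr.S_le))
      refine h.moved hgM (hkZ k hk hkQ t ht) ?_
      rw [conj_comm]
      have hgt : g * t * g⁻¹ = ⁅g, t⁆ * t := by simp only [commutatorElement_def]; group
      have hr := ((hHdef g).mp hg).1 t ht
      have hk' := hHn.conj_mem k hk g
      have hk'Q := hQn.conj_mem k hkQ g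
      have hrk : g * k * g⁻¹ * ⁅g, t⁆ = ⁅g, t⁆ * (g * k * g⁻¹) :=
        ((mem_cz.mp (f.R_eq ▸ hr)).2 _ (hkM _ hk' hk'Q))
      rw [hgt, cmul_right, (comm_one_iff _ _).mpr hrk, one_mul]
      have hz := hkZ _ hk' hk'Q t ht
      rwa [h.comm_Z (Frame.Q_le_S (f.R_Q hr)) hz, mul_inv_cancel_right]
    have hN : ∀ n ∈ H, h.rho n = 1 → ⁅n, t⁆ ∈ C₀ := by
      intro n hn hρn
      obtain ⟨N, hNdef⟩ : ∃ N, N = H ⊓ h.rho.ker := ⟨_, rfl⟩
      haveI : N.Normal := hNdef ▸ inferInstance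
      have hPN : (P : Subgroup G) ⊓ N ≤ Cfsg.pCore p G := fun y hy =>
        (h.mem_core_iff hy.1).mpr (MonoidHom.mem_ker.mp (hNdef ▸ hy.2 : y ∈ H ⊓ h.rho.ker).2)
      obtain ⟨k, r, hr, hkr⟩ := Nat.exists_eq_pow_mul_and_not_dvd (orderOf_pos n).ne' p hp.out.ne_one
      have hnN : n ∈ N := hNdef ▸ ⟨hn, hρn⟩
      have hnr : n ^ r ∈ Cfsg.pCore p G := pElement_mem_core P hPN (pow_mem hnN r) (k := k) (by
        rw [← pow_mul, mul_comm, ← hkr]; exact pow_orderOf_eq_one n)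
      obtain ⟨e, hedef⟩ : ∃ e, e = ⁅n, t⁆ := ⟨_, rfl⟩
      have heR : e ∈ R := hedef ▸ ((hHdef n).mp hn).1 t ht
      obtain ⟨v', hv', c', hc', hvc'⟩ := hdec e heR
      have hne : n * e = e * n := by
        rw [← hvc', ← mul_assoc, ← mem_centralizer_iff.mp (h.ker.mp hρn) v' hv', mul_assoc,
          ((hHdef n).mp hn).2 c' hc', mul_assoc]
      have hpow : ∀ m : ℕ, ⁅n ^ m, t⁆ = e ^ m := by
        intro m
        induction m with
        | zero => simp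
        | succ m ih => rw [pow_succ n, cmul_left, ← hedef, (Commute.pow_left hne m).eq, mul_inv_cancel_right, ih, ← pow_succ']
      have h1 : e ^ r ∈ C₀ := by rw [← hpow]; exact hCzC₀ _ (hHQ _ (pow_mem hn r) hnr t ht)
      have h2 : e ^ p ∈ C₀ := by
        rw [← hvc', Commute.mul_pow (h.v.cent_core c' (f.R_Q (hC₀R c' hc')) v' hv').symm, h.v.exp v' hv', one_mul]
        exact pow_mem hc' p
      have hcop : Int.gcd (p : ℤ) (r : ℤ) = 1 := by
        rw [Int.gcd_natCast_natCast]; exact (Nat.Prime.coprime_iff_not_dvd hp.out).mpr hr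
      have e1 : e = (e ^ p) ^ Int.gcdA p r * (e ^ r) ^ Int.gcdB p r := by
        rw [← zpow_natCast e p, ← zpow_natCast e r, ← _root_.zpow_mul, ← _root_.zpow_mul, ← zpow_add,
          ← Int.gcd_eq_gcd_ab, hcop, Nat.cast_one, zpow_one]
      rw [← hedef, e1]
      exact mul_mem (zpow_mem h2 _) (zpow_mem h1 _)
    obtain ⟨g, hgH, hg⟩ := h.rho_normal (N := H) ((h.sup_core d.X_mem d.X_Q).ge.trans (sup_le_sup_right hXH _))
      (-1 : Matrix.SpecialLinearGroup (Fin 2) F)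
    have hinvV : ∀ u ∈ Vz P, g * u * g⁻¹ * u ∈ Cz P := fun u hu => by
      refine (h.co_eq_zero (mul_mem (h.conj_Vz g hu) hu)).mp ?_
      rw [h.co_mul (h.conj_Vz g hu) hu, h.co_conj g hu, hg]
      simp [Matrix.neg_mulVec]
    obtain ⟨n, hndef⟩ : ∃ n, n = x⁻¹ * g⁻¹ * x * g := ⟨_, rfl⟩
    have hnH : n ∈ H := hndef ▸ mul_mem (mul_mem (mul_mem (inv_mem (hXH hx)) (inv_mem hgH)) (hXH hx)) hgH
    have hρn : h.rho n = 1 := by
      rw [hndef, map_mul, map_mul, map_mul, map_inv, map_inv, hg]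
      simp
    obtain ⟨π, hπ⟩ : ∃ π, π = QuotientGroup.mk' C₀ := ⟨_, rfl⟩
    have hπ1 : ∀ y, π y = 1 ↔ y ∈ C₀ := fun y => hπ ▸ QuotientGroup.eq_one_iff y
    obtain ⟨va, hva, ca, hca, hvca⟩ := hdec _ (((hHdef g).mp hgH).1 t ht)
    have e1 : π (x * va * x⁻¹) * π v = π (g * v * g⁻¹) * π va := by
      have hL : ⁅x * g, t⁆ = x * (va * ca) * x⁻¹ * (v * c) := by rw [cmul_left, hvca, hvc]
      have hR' : ⁅x * g, t⁆ = g * x * ⁅n, t⁆ * (g * x)⁻¹ * (g * (v * c) * g⁻¹ * (va * ca)) := by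
        rw [show x * g = g * x * n by rw [hndef]; group, cmul_left, cmul_left g x t, hvc, hvca]
      have h1 := congrArg π (hL.symm.trans hR')
      simp only [map_mul, map_inv, (hπ1 _).mpr hca, (hπ1 _).mpr hc, (hπ1 _).mpr (hN n hnH hρn), mul_one,
        mul_inv_cancel, one_mul] at h1 ⊢
      exact h1
    have e2 : π (g * v * g⁻¹) = (π v)⁻¹ := by
      rw [eq_inv_iff_mul_eq_one, ← map_mul, hπ1]
      exact hCzC₀ _ (hinvV v hv)
    rw [e2] at e1
    have hzz : ⁅x, va⁆ ∈ Zs P := h.v.move x hxP va hva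
    have hv2 : ⁅x, va⁆ * (v * v) ∈ Cz P := by
      refine hC₀Cz _ (mul_mem (h.comm_Vz x hva) (mul_mem hv hv)) ((hπ1 _).mp ?_)
      have h3 : π (x * va * x⁻¹) = (π v)⁻¹ * π va * (π v)⁻¹ := eq_mul_inv_of_mul_eq e1
      have h4 : π v * π va = π va * π v := by rw [← map_mul, ← map_mul, h.v.comm v hv va hva]
      rw [commutatorElement_def, map_mul, map_mul _ (x * va * x⁻¹), h3, map_mul π v v, map_inv]
      calc (π v)⁻¹ * π va * (π v)⁻¹ * (π va)⁻¹ * (π v * π v)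
          = (π v)⁻¹ * π va * (π v)⁻¹ * ((π va)⁻¹ * π v) * π v := by group
        _ = (π v)⁻¹ * π va * (π v)⁻¹ * (π v * (π va)⁻¹) * π v := by rw [(Commute.inv_left (Commute.symm h4)).eq]
        _ = 1 := by group
    have hvv : v * v ∈ Zs P := by
      have h5 := mul_mem (inv_mem hzz) (h.Cz_le_Zs hv2)
      rwa [inv_mul_cancel_left] at h5
    obtain ⟨j, hj⟩ := hodd
    have : v = (v * v) ^ (j + 1) := by
      rw [← sq, ← pow_mul, show 2 * (j + 1) = p + 1 by omega, pow_succ, h.v.exp v hv, one_mul]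
    exact this ▸ pow_mem hvv _
  -- conclusion
  have hCX : NIn (Cfsg.pCore p G) (cz (P : Subgroup G) X) := by
    intro t ht y hy
    have hyW : y ∈ cz (P : Subgroup G) W :=
      mem_cz.mpr ⟨hy.1, fun w hw => (mem_cz.mp hy).2 w ((d.X_inf ▸ hw : w ∈ X ⊓ Cfsg.pCore p G)).1⟩
    obtain ⟨x, hx, r, hr, rfl⟩ := f.Qj y hyW
    have hxX : x ∈ cz (P : Subgroup G) X := mem_cz.mpr ⟨d.X_mem.le hx, fun a ha => d.X_comm a ha x hx⟩
    have hrX : r ∈ cz (P : Subgroup G) X := by simpa using mul_mem (inv_mem hxX) hy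
    have h1 : t * x * t⁻¹ ∈ cz (P : Subgroup G) X := by
      have h2 := mul_mem (inv_mem (key x hx t ht)) hxX
      rwa [show ⁅x, t⁆⁻¹ * x = t * x * t⁻¹ by simp only [commutatorElement_def]; group] at h2
    have h2 : t * r * t⁻¹ ∈ cz (P : Subgroup G) X := by
      obtain ⟨v, hv, c, hc, rfl⟩ := hdec r hr
      have hvZ : v ∈ Zs P := h.fix' (d.X_mem.le hx₀) hx₀Q hv (by
        have h3 := (mem_cz.mp hrX).2 x₀ hx₀
        rw [← mul_assoc, mul_assoc v c x₀, ← hXc₀ x₀ hx₀ c hc, ← mul_assoc] at h3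
        exact mul_right_cancel h3)
      have hc' := hC₀n.conj_mem c hc t
      rw [show t * (v * c) * t⁻¹ = t * v * t⁻¹ * (t * c * t⁻¹) by group, h.comm_Z (Frame.Q_le_S ht) hvZ,
        mul_inv_cancel_right]
      exact mul_mem (mem_cz.mpr ⟨hvZ.1, fun a ha => h.comm_Z (d.X_mem.le ha) hvZ⟩)
        (mem_cz.mpr ⟨hC₀P _ hc', fun a ha => hXc₀ a ha _ hc'⟩)
    rw [show t * (x * r) * t⁻¹ = t * x * t⁻¹ * (t * r * t⁻¹) by group]
    exact mul_mem h1 h2
  intro a ha y hy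
  obtain ⟨x, hx, t, ht, rfl⟩ := d.X_mem.exists_mul h.Q_mem ((h.sup_core d.X_mem d.X_Q).ge ha)
  have h1 : t * y * t⁻¹ ∈ X := by
    rw [← d.X_mem.cz_cz]
    refine mem_cz.mpr ⟨mul_mem (mul_mem (Frame.Q_le_S ht) (d.X_mem.le hy)) (inv_mem (Frame.Q_le_S ht)), fun b hb => ?_⟩
    have h2 := (mem_cz.mp (hCX t⁻¹ (inv_mem ht) b hb)).2 y hy
    calc b * (t * y * t⁻¹) = t * (t⁻¹ * b * t⁻¹⁻¹ * y) * t⁻¹ := by group
      _ = t * (y * (t⁻¹ * b * t⁻¹⁻¹)) * t⁻¹ := by rw [← h2]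
      _ = _ := by group
  rw [show x * t * y * (x * t)⁻¹ = x * (t * y * t⁻¹) * x⁻¹ by group, d.X_comm x hx _ h1, mul_inv_cancel_right]
  exact h1

end Cfsg.Agent.Fus.GN
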