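import Mathlib
import Cfsg.Agent.Lib.Fus.GN.Short

/-!
# Pairs for pushing up: chains of length one, the wide case
-/

set_option autoImplicit false
set_option linter.style.haveILetI false
set_option linter.unusedSectionVars false

namespace Cfsg.Agent.Fus.GN

open Subgroup Cfsg.Agent.Invol Cfsg.Agent.Invol.PushUp
open scoped commutatorElement

universe u

variable {G : Type u} [Group G] [Finite G] {p : ℕ} [hp : Fact p.Prime]
variable {P : Sylow p G} {F : Type} [Field F] [Fintype F] {fr : Frame P F}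

/-- The facts of the wide case. -/
structure WideFacts (fr : Frame P F) (W X R Y D : Subgroup G) : Prop where
  M_nin : NIn (P : Subgroup G) (Vz P ⊔ W)
  M_R : Vz P ⊔ W ≤ R
  M_comm : ∀ a ∈ Vz P ⊔ W, ∀ b ∈ R, a * b = b * a
  M_exp : ∀ a ∈ Vz P ⊔ W, a ^ p = 1
  M_move : ∀ s ∈ (P : Subgroup G), ∀ a ∈ Vz P ⊔ W, ⁅s, a⁆ ∈ Zs P
  Y_normal : Y.Normal
  Y_Q : Y ≤ Cfsg.pCore p G
  M_Y : Vz P ⊔ W ≤ Y
  M'_Y : cj fr.w (Vz P ⊔ W) ≤ Y
  Y_dec : ∀ y ∈ Y, ∃ m ∈ Vz P ⊔ W, ∃ m' ∈ cj fr.w (Vz P ⊔ W), m * m' = y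
  Y_R : Y ⊓ R = Vz P ⊔ W
  M'_R : cj fr.w (Vz P ⊔ W) ⊓ R = Vz P
  D_normal : D.Normal
  D_R : D ≤ R
  D_Y : ∀ d ∈ D, ∀ y ∈ Y, y * d = d * y
  Q_dec : ∀ q ∈ Cfsg.pCore p G, ∃ y ∈ Y, ∃ d ∈ D, y * d = q
  R_dec : ∀ r ∈ R, ∃ m ∈ Vz P ⊔ W, ∃ d ∈ D, m * d = r
  XY : ∀ x ∈ X, ∀ y ∈ Y, ⁅x, y⁆ ∈ Vz P ⊔ W
  cross : ∀ a ∈ Vz P ⊔ W, ∀ b ∈ cj fr.w (Vz P ⊔ W), ⁅a, b⁆ ∈ Cz P
  QY : ∀ q ∈ Cfsg.pCore p G, ∀ y ∈ Y, ⁅q, y⁆ ∈ Cz P

variable (h : Loc fr)
include h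

theorem Loc.wide_facts {W X R : Subgroup G} (d : ShortData fr W X) (f : ShortFacts fr W X R)
    (hn : ¬ (Vz P ⊔ W).Normal) : ∃ Y D, WideFacts fr W X R Y D := by
  classical
  haveI hQn := Frame.Q_normal (G := G) (p := p)
  have hQP : Cfsg.pCore p G ≤ (P : Subgroup G) := Frame.Q_le_S
  obtain ⟨M, hM⟩ : ∃ M, M = Vz P ⊔ W := ⟨_, rfl⟩
  rw [← hM] at hn
  have hMm : Mem (P : Subgroup G) M := hM ▸ h.V_mem.sup d.W_mem
  have hMQ : M ≤ Cfsg.pCore p G := hM ▸ sup_le h.v.le_core d.W_Q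
  have hVM : Vz P ≤ M := hM ▸ le_sup_left
  have hWM : W ≤ M := hM ▸ le_sup_right
  have hMn : NIn (P : Subgroup G) M := hM ▸ (NIn.of_normal h.Vz_normal).sup d.W_nin
  have hRM : R = cz (P : Subgroup G) M := hM ▸ f.R_eq
  have hMR : M ≤ R := hM ▸ sup_le f.R_V f.R_W
  have hMdec : ∀ m ∈ M, ∃ v ∈ Vz P, ∃ w ∈ W, v * w = m := fun m hm => h.V_mem.exists_mul d.W_mem (hM ▸ hm)
  have hMove : ∀ s ∈ (P : Subgroup G), ∀ a ∈ M, ⁅s, a⁆ ∈ Zs P := by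
    intro s hs a ha
    obtain ⟨v, hv, w, hw, rfl⟩ := hMdec a ha
    have hz := d.W_move s hs w hw
    rw [cmul_right, h.comm_Z (h.V_le hv) hz, mul_inv_cancel_right]
    exact mul_mem (h.v.move s hs v hv) hz
  have hMexp : ∀ a ∈ M, a ^ p = 1 := by
    intro a ha
    obtain ⟨v, hv, w, hw, rfl⟩ := hMdec a ha
    rw [Commute.mul_pow (h.v.cent_core w (d.W_Q hw) v hv).symm, h.v.exp v hv, d.W_exp w hw, one_mul]
  have hMcomm : ∀ a ∈ M, ∀ b ∈ R, a * b = b * a := fun a ha b hb => (mem_cz.mp (hRM ▸ hb)).2 a ha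
  have hcjQ : ∀ (g : G) {S : Subgroup G}, S ≤ Cfsg.pCore p G → cj g S ≤ Cfsg.pCore p G :=
    fun g S hS => (cj_mono hS).trans (cj_normal g hQn).le
  have hcjnin : ∀ (g : G) {S : Subgroup G}, NIn (P : Subgroup G) S → ∀ c ∈ Cfsg.pCore p G,
      ∀ s ∈ cj g S, c * s * c⁻¹ ∈ cj g S := by
    intro g S hS c hc s hs
    rw [mem_cj] at hs ⊢
    have h1 := hS _ (hQP (hQn.conj_mem c hc g⁻¹)) _ hs
    convert h1 using 1
    group
  have hVcj : ∀ g : G, Vz P ≤ cj g M := fun g => (cj_normal g h.Vz_normal).ge.trans (cj_mono hVM)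
  have hMcjm : ∀ g : G, Mem (P : Subgroup G) (cj g M) := fun g => h.cj_mem hMm hVM hMQ g
  have hPXQ := h.sup_core d.X_mem d.X_Q
  -- the join with a conjugate is normalised by `P`
  have hYP : ∀ l : G, NIn (P : Subgroup G) (M ⊔ cj l M) := by
    intro l
    obtain ⟨Y₂, hY₂⟩ : ∃ Y₂, Y₂ = M ⊔ sSup {S | ∃ x ∈ X, S = cj x (cj l M)} := ⟨_, rfl⟩
    have hY₂m : Mem (P : Subgroup G) Y₂ := hY₂ ▸ hMm.sSup _ (by
      rintro S ⟨x, -, rfl⟩; rw [cj_cj]; exact hMcjm _)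
    have hY₂Q : Y₂ ≤ Cfsg.pCore p G := by
      rw [hY₂]; refine sup_le hMQ (sSup_le ?_)
      rintro S ⟨x, -, rfl⟩; rw [cj_cj]; exact hcjQ _ hMQ
    have hl₂ : cj l M ≤ Y₂ := hY₂ ▸ le_sup_of_le_right (le_sSup ⟨1, one_mem _, (cj_one _).symm⟩)
    have hY₂X : NIn X Y₂ := by
      intro y hy z hz
      refine (?_ : Y₂ ≤ Y₂.comap (MulAut.conj y).toMonoidHom) hz
      conv_lhs => rw [hY₂]
      refine sup_le (fun z hz => hY₂ ▸ mem_sup_left (hMn y (d.X_mem.le hy) z hz)) (sSup_le ?_)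
      rintro S ⟨x, hx, rfl⟩ z hz
      have hle : cj (y * x) (cj l M) ≤ sSup {S | ∃ x ∈ X, S = cj x (cj l M)} := le_sSup ⟨y * x, mul_mem hy hx, rfl⟩
      have hmem : y * z * y⁻¹ ∈ cj (y * x) (cj l M) := by rw [← cj_cj y x]; exact conj_mem_cj hz
      exact hY₂ ▸ mem_sup_right (hle hmem)
    have hinf : X ⊓ Y₂ = W :=
      le_antisymm ((inf_le_inf_left _ hY₂Q).trans d.X_inf.le)
        (le_inf (d.X_inf.ge.trans inf_le_left) (hWM.trans (hY₂ ▸ le_sup_left)))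
    have hczW : cz (P : Subgroup G) W = cz (P : Subgroup G) X ⊔ cz (P : Subgroup G) Y₂ := by
      rw [← d.X_mem.cz_inf hY₂m, hinf]
    obtain ⟨B, hB⟩ : ∃ B, B = cz (P : Subgroup G) (M ⊔ cj l M) := ⟨_, rfl⟩
    have hBX : ∀ x ∈ X, ∀ b ∈ B, x * b * x⁻¹ ∈ B := by
      intro x hx b hb
      have hxP := d.X_mem.le hx
      rw [hB, cz_sup] at hb
      obtain ⟨c, hc, y, hy, hcy⟩ := d.X_mem.cz.exists_mul hY₂m.cz (hczW.le (cz_anti hWM hb.1))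
      rw [hB, cz_sup]
      refine Subgroup.mem_inf.mpr ⟨hMn.cz x hxP b hb.1, mem_cz.mpr ⟨mul_mem (mul_mem hxP hb.1.1) (inv_mem hxP), fun z hz => ?_⟩⟩
      have hy' : x * y * x⁻¹ ∈ cz (P : Subgroup G) Y₂ := by
        refine mem_cz.mpr ⟨mul_mem (mul_mem hxP hy.1) (inv_mem hxP), fun k hk => ?_⟩
        have h1 := (mem_cz.mp hy).2 _ (hY₂X x⁻¹ (inv_mem hx) k hk)
        calc k * (x * y * x⁻¹) = x * (x⁻¹ * k * x⁻¹⁻¹ * y) * x⁻¹ := by group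
          _ = x * (y * (x⁻¹ * k * x⁻¹⁻¹)) * x⁻¹ := by rw [h1]
          _ = _ := by group
      have hxb : x * b * x⁻¹ = c * (x * y * x⁻¹) := by
        rw [← hcy, show x * (c * y) * x⁻¹ = x * c * (y * x⁻¹) by group, (mem_cz.mp hc).2 x hx]
        group
      have hcz : c * z = z * c := by
        have h1 := (mem_cz.mp hb.2).2 z hz
        have h2 := (mem_cz.mp (inv_mem hy)).2 z (hl₂ hz)
        rw [show c = b * y⁻¹ by rw [← hcy, mul_inv_cancel_right], mul_assoc, ← h2, ← mul_assoc, ← h1, mul_assoc]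
      rw [hxb, ← mul_assoc, ← hcz, mul_assoc, (mem_cz.mp hy').2 z (hl₂ hz), ← mul_assoc]
    intro a ha y hy
    obtain ⟨x, hx, q, hq, rfl⟩ := d.X_mem.exists_mul h.Q_mem (hPXQ.ge ha)
    have h1 : q * y * q⁻¹ ∈ M ⊔ cj l M := by
      refine (sup_le (c := (M ⊔ cj l M).comap (MulAut.conj q).toMonoidHom)
        (fun z hz => mem_sup_left (hMn q (hQP hq) z hz))
        (fun z hz => mem_sup_right (hcjnin l hMn q hq z hz)) : M ⊔ cj l M ≤ _) hy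
    obtain ⟨y', hy'⟩ : ∃ y', y' = q * y * q⁻¹ := ⟨_, rfl⟩
    rw [← hy', ← (hMm.sup (hMcjm l)).cz_cz, ← hB] at h1
    rw [show x * q * y * (x * q)⁻¹ = x * y' * x⁻¹ by rw [hy']; group, ← (hMm.sup (hMcjm l)).cz_cz, ← hB]
    have hxP := d.X_mem.le hx
    refine mem_cz.mpr ⟨mul_mem (mul_mem hxP h1.1) (inv_mem hxP), fun b hb => ?_⟩
    have h2 := (mem_cz.mp h1).2 _ (hBX x⁻¹ (inv_mem hx) b hb)
    calc b * (x * y' * x⁻¹) = x * (x⁻¹ * b * x⁻¹⁻¹ * y') * x⁻¹ := by group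
      _ = x * (y' * (x⁻¹ * b * x⁻¹⁻¹)) * x⁻¹ := by rw [h2]
      _ = _ := by group
  obtain ⟨M', hM'⟩ : ∃ M', M' = cj fr.w M := ⟨_, rfl⟩
  have hM'm : Mem (P : Subgroup G) M' := hM' ▸ hMcjm _
  obtain ⟨Y, hY⟩ : ∃ Y, Y = M ⊔ M' := ⟨_, rfl⟩
  haveI hYn : Y.Normal := by
    refine h.normal_of fr.w_not (by rw [hY, hM']; exact hYP fr.w) fun s hs y hy => ?_
    have e0 : Y = cj fr.w (M ⊔ cj fr.w⁻¹ M) := by rw [cj_sup, cj_cj_inv, hY, hM', sup_comm]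
    rw [e0, mem_cj] at hy ⊢
    have h1 := hYP fr.w⁻¹ s hs _ hy
    convert h1 using 1
    group
  have hYm : Mem (P : Subgroup G) Y := hY ▸ hMm.sup hM'm
  have hYQ : Y ≤ Cfsg.pCore p G := hY ▸ sup_le hMQ (hM' ▸ hcjQ _ hMQ)
  have hM'R : M' ⊓ R = Vz P := by
    obtain ⟨E, hE⟩ : ∃ E, E = cj fr.w⁻¹ (M' ⊓ R) := ⟨_, rfl⟩
    have hEM : E ≤ M := by rw [hE]; exact (cj_mono inf_le_left).trans (hM' ▸ cj_inv_cj fr.w M).le
    have hVE : Vz P ≤ E := by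
      rw [hE, ← cj_normal fr.w⁻¹ h.Vz_normal]
      exact cj_mono (le_inf (hM' ▸ hVcj _) f.R_V)
    have hEm : Mem (P : Subgroup G) E := hE ▸ h.cj_mem (hM'm.inf f.R_mem) (le_inf (hM' ▸ hVcj _) f.R_V)
      (inf_le_right.trans f.R_Q) _
    rcases d.W_atom _ (hEm.inf d.W_mem) inf_le_right with he | he
    · refine le_antisymm ?_ (le_inf (hM' ▸ hVcj _) f.R_V)
      rw [← cj_cj_inv fr.w (M' ⊓ R), ← hE, ← cj_normal fr.w h.Vz_normal]
      refine cj_mono fun m hm => ?_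
      obtain ⟨v, hv, w, hw, rfl⟩ := hMdec m (hEM hm)
      exact mul_mem hv (h.v.Z_le (he.le ⟨by simpa using mul_mem (inv_mem (hVE hv)) hm, hw⟩))
    · exfalso
      have hME : E = M := le_antisymm hEM (hM ▸ sup_le hVE (he.ge.trans inf_le_left))
      have hle : M' ≤ R := by
        rw [hM', ← hME, hE, cj_cj_inv]; exact inf_le_right
      refine hn ?_
      have hM'n : M'.Normal := by
        refine h.normal_of fr.w_not (fun a ha m hm => ?_) fun s hs m hm => ?_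
        · obtain ⟨x, hx, q, hq, rfl⟩ := d.X_mem.exists_mul h.Q_mem (hPXQ.ge ha)
          have h1 : q * m * q⁻¹ ∈ M' := by rw [hM'] at hm ⊢; exact hcjnin _ hMn q hq m hm
          rw [show x * q * m * (x * q)⁻¹ = ⁅x, q * m * q⁻¹⁆ * (q * m * q⁻¹) by simp only [commutatorElement_def]; group]
          exact mul_mem (hM' ▸ hVcj _ (h.v.Z_le (f.XR x hx _ (hle h1)))) h1
        · rw [hM', mem_cj] at hm ⊢
          have h1 := hMn s hs _ hm
          convert h1 using 1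
          group
      rw [show M = cj fr.w⁻¹ M' by rw [hM', cj_inv_cj], cj_normal _ hM'n]
      exact hM'n
  have hYdec : ∀ y ∈ Y, ∃ m ∈ M, ∃ m' ∈ M', m * m' = y := fun y hy => hMm.exists_mul hM'm (hY ▸ hy)
  have hYR : Y ⊓ R = M := by
    refine le_antisymm (fun y hy => ?_) (le_inf (hY ▸ le_sup_left) hMR)
    obtain ⟨m, hm, m', hm', rfl⟩ := hYdec y hy.1
    have h1 : m' ∈ M' ⊓ R := ⟨hm', by simpa using mul_mem (inv_mem (hMR hm)) hy.2⟩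
    exact mul_mem hm (hVM (hM'R ▸ h1))
  obtain ⟨D, hD⟩ : ∃ D, D = cz (P : Subgroup G) Y := ⟨_, rfl⟩
  have hDR : D ≤ R := hD ▸ hRM ▸ cz_anti (hY ▸ le_sup_left)
  haveI hDn : D.Normal := by
    have e : D = Cfsg.pCore p G ⊓ centralizer (Y : Set G) := by
      rw [hD]
      refine le_antisymm (le_inf (h.cz_le_core (hVM.trans (hY ▸ le_sup_left))) inf_le_right) ?_
      exact le_inf (inf_le_left.trans hQP) inf_le_right
    haveI := PushUnique.centralizer_normal' Y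
    exact e ▸ inferInstance
  have hDm : Mem (P : Subgroup G) D := hD ▸ hYm.cz
  have hYD : Y ⊔ D = Cfsg.pCore p G := by
    rw [← (hYm.sup hDm).cz_cz, cz_sup, ← hD, show cz (P : Subgroup G) D = Y by rw [hD]; exact hYm.cz_cz, inf_comm]
    suffices he : Y ⊓ D = Vz P by rw [he, h.cz_V]
    refine le_antisymm (fun y hy => ?_) (le_inf (hVM.trans (hY ▸ le_sup_left)) ?_)
    · have h1 : y ∈ M := hYR ▸ ⟨hy.1, hDR hy.2⟩
      obtain ⟨v, hv, w, hw, rfl⟩ := hMdec y h1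
      have hwD : w ∈ cz (P : Subgroup G) M' := by
        have h2 : v * w ∈ cz (P : Subgroup G) M' := cz_anti (hY ▸ le_sup_right) (hD ▸ hy.2)
        have h3 : v ∈ cz (P : Subgroup G) M' := mem_cz.mpr ⟨h.V_le hv, fun m hm =>
          h.v.cent_core m ((hM' ▸ hcjQ _ hMQ) hm) v hv⟩
        simpa using mul_mem (inv_mem h3) h2
      rcases d.W_atom _ (d.W_mem.inf hM'm.cz) inf_le_left with he | he
      · exact mul_mem hv (h.v.Z_le (he.le ⟨hw, hwD⟩))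
      · exfalso
        have hM'R' : M' ≤ M' ⊓ R := le_inf le_rfl fun m hm => by
          rw [f.R_inf]
          refine Subgroup.mem_inf.mpr ⟨(hM' ▸ hcjQ _ hMQ) hm, mem_cz.mpr ⟨hM'm.le hm, fun a ha => ?_⟩⟩
          exact ((mem_cz.mp (he.ge ha).2).2 m hm).symm
        rw [hM'R] at hM'R'
        refine hn ?_
        have hMV : M = Vz P := le_antisymm (by
          have h4 := cj_mono (g := fr.w⁻¹) hM'R'
          rwa [hM', cj_inv_cj, cj_normal _ h.Vz_normal] at h4) hVM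
        rw [hMV]; exact h.Vz_normal
    · rw [hD]
      exact le_cz_comm h.V_le (fun y hy => by rw [h.cz_V]; exact hYQ hy)
  have hcross : ∀ a ∈ M, ∀ b ∈ M', ⁅a, b⁆ ∈ Cz P := by
    intro a ha b hb
    have hbQ : b ∈ Cfsg.pCore p G := (hM' ▸ hcjQ _ hMQ) hb
    have hz : ⁅a, b⁆ ∈ Zs P := by rw [← commutatorElement_inv]; exact inv_mem (hMove b (hQP hbQ) a ha)
    refine h.Z_inf_cj fr.w_not ⟨hz, ?_⟩
    show ⁅a, b⁆ ∈ cj fr.w (Zs P)
    rw [mem_cj]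
    have h1 := hMove (fr.w⁻¹ * a * fr.w) (hQP (by simpa using hQn.conj_mem a (hMQ ha) fr.w⁻¹)) _ (mem_cj.mp (hM' ▸ hb))
    convert h1 using 1
    simp only [commutatorElement_def]; group
  have hQY : ∀ q ∈ Cfsg.pCore p G, ∀ y ∈ Y, ⁅q, y⁆ ∈ Cz P := by
    intro q hq y hy
    obtain ⟨y₁, hy₁, e, he, rfl⟩ := hYm.exists_mul hDm (hYD.ge hq)
    rw [comm_left_drop ((mem_cz.mp (hD ▸ he)).2 y hy).symm]
    obtain ⟨m, hm, m', hm', rfl⟩ := hYdec y₁ hy₁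
    obtain ⟨n, hn', n', hn'', rfl⟩ := hYdec y hy
    have hMM : ∀ {a b}, a ∈ M → b ∈ M → a * b = b * a := fun ha hb => hMcomm _ ha _ (hMR hb)
    have hM'M' : ∀ {a b}, a ∈ M' → b ∈ M' → a * b = b * a := by
      intro a b ha hb
      have h1 := hMM (mem_cj.mp (hM' ▸ ha)) (mem_cj.mp (hM' ▸ hb))
      calc a * b = fr.w * (fr.w⁻¹ * a * fr.w * (fr.w⁻¹ * b * fr.w)) * fr.w⁻¹ := by group
        _ = fr.w * (fr.w⁻¹ * b * fr.w * (fr.w⁻¹ * a * fr.w)) * fr.w⁻¹ := by rw [h1]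
        _ = _ := by group
    have hCn : (Cz P).Normal := inferInstance
    rw [cmul_left, comm_right_drop (hM'M' hm' hn''), cmul_right m n n', (comm_one_iff m n).mpr (hMM hm hn'), one_mul]
    refine mul_mem (hCn.conj_mem _ ?_ _) (hCn.conj_mem _ (hcross m hm n' hn'') _)
    rw [← commutatorElement_inv]; exact inv_mem (hcross n hn' m' hm')
  refine ⟨Y, D, ?_⟩
  rw [hM'] at hY hYdec hM'R hcross
  refine ⟨hM ▸ hMn, hM ▸ hMR, hM ▸ hMcomm, hM ▸ hMexp, hM ▸ hMove, hYn, hYQ, hM ▸ hY ▸ le_sup_left,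
    hM ▸ hY ▸ le_sup_right, hM ▸ hYdec, hM ▸ hYR, hM ▸ hM'R, hDn, hDR,
    fun e he y hy => (mem_cz.mp (hD ▸ he)).2 y hy, fun q hq => hYm.exists_mul hDm (hYD.ge hq), ?_, ?_, hM ▸ hcross, hQY⟩
  · intro r hr
    obtain ⟨y, hy, e, he, rfl⟩ := hYm.exists_mul hDm (hYD.ge (f.R_Q hr))
    exact ⟨y, hM ▸ hYR ▸ ⟨hy, by simpa using mul_mem hr (inv_mem (hDR he))⟩, e, he, rfl⟩
  · intro x hx y hy
    rw [← hM, ← hYR]
    have h1 : ⁅x, y⁆ ∈ Y := by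
      rw [commutatorElement_def]; exact mul_mem (hYn.conj_mem y hy x) (inv_mem hy)
    refine ⟨h1, ?_⟩
    rw [f.R_inf]
    refine Subgroup.mem_inf.mpr ⟨hYQ h1, ?_⟩
    rw [commutatorElement_def, mul_assoc, mul_assoc]
    refine mul_mem (d.X_W hx) ?_
    rw [← mul_assoc]
    exact d.W_nin.cz y (hQP (hYQ hy)) _ ((cz (P : Subgroup G) W).inv_mem (d.X_W hx))

theorem Loc.wide_central {W X R Y D : Subgroup G} (d : ShortData fr W X) (f : ShortFacts fr W X R)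
    (e : WideFacts fr W X R Y D) : ∀ z ∈ Zs P, z ∈ fr' D → z ∈ center G := by
  intro z hz hzN
  haveI := e.D_normal
  haveI := PushUnique.centralizer_normal' (fr' D)
  obtain ⟨x, hx, hxQ⟩ := SetLike.not_le_iff_exists.mp d.X_Q
  refine h.central_of (h.sup_top (N := centralizer (fr' D : Set G)) (d.X_mem.le hx) ?_ hxQ) hz
    fun n hn => (mem_centralizer_iff.mp hn z hzN).symm
  refine mem_centralizer_iff.mpr fun n hn => ?_
  let ψ : D →* G :=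
    { toFun := fun a => ⁅x, (a : G)⁆
      map_one' := commutatorElement_one_right x
      map_mul' := fun a b => by
        rw [Subgroup.coe_mul, cmul_right, h.comm_Z (Frame.Q_le_S (f.R_Q (e.D_R a.2))) (f.XR x hx _ (e.D_R b.2)),
          mul_inv_cancel_right] }
  have hle : frattini D ≤ ψ.ker := by
    refine Grp.frattini_le_of_elementary hp.out ?_ fun a => ?_
    · rw [commutator_def, commutator_le]
      intro a _ b _
      rw [MonoidHom.mem_ker, map_commutatorElement, comm_one_iff]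
      exact (h.comm_Z (f.XR x hx _ (e.D_R a.2)).1 (f.XR x hx _ (e.D_R b.2)))
    · rw [MonoidHom.mem_ker, map_pow]
      exact (f.XR x hx _ (e.D_R a.2)).2.2
  obtain ⟨a, ha, rfl⟩ := hn
  exact ((comm_one_iff _ _).mp (MonoidHom.mem_ker.mp (hle ha) : ⁅x, (a : G)⁆ = 1)).symm

/-- In the wide case the commutators of `R` lie in a normal subgroup meeting the fixed line centrally. -/
theorem Loc.wide_RR {W X R Y D : Subgroup G} (d : ShortData fr W X) (f : ShortFacts fr W X R)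
    (e : WideFacts fr W X R Y D) :
    ∃ N : Subgroup G, N.Normal ∧ (∀ z ∈ Zs P, z ∈ N → z ∈ center G) ∧ ∀ a ∈ R, ∀ b ∈ R, ⁅a, b⁆ ∈ N := by
  haveI := e.D_normal
  refine ⟨fr' D, inferInstance, h.wide_central d f e, fun a ha b hb => ?_⟩
  obtain ⟨m, hm, c, hc, rfl⟩ := e.R_dec a ha
  obtain ⟨m', hm', c', hc', rfl⟩ := e.R_dec b hb
  have hDp : IsPGroup p D := P.isPGroup'.to_le ((e.D_R.trans f.R_Q).trans Frame.Q_le_S)
  rw [e.M_comm m hm c (e.D_R hc), comm_left_drop (e.M_comm m hm _ (mul_mem (e.M_R hm') (e.D_R hc'))),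
    e.M_comm m' hm' c' (e.D_R hc'), comm_right_drop (e.M_comm m' hm' c (e.D_R hc)).symm]
  exact comm_mem_fr' hDp hc hc'

/-- In the wide case the Frattini part of `P` is bounded. -/
theorem Loc.wide_bounds {W X R Y D : Subgroup G} (d : ShortData fr W X) (f : ShortFacts fr W X R)
    (e : WideFacts fr W X R Y D) : Bounds P (fr' D) ((Vz P ⊔ W) ⊔ fr' D) := by
  haveI := e.D_normal
  haveI hQn := Frame.Q_normal (G := G) (p := p)
  have hQP : Cfsg.pCore p G ≤ (P : Subgroup G) := Frame.Q_le_S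
  obtain ⟨M, hM⟩ : ∃ M, M = Vz P ⊔ W := ⟨_, rfl⟩
  obtain ⟨N, hN⟩ : ∃ N, N = fr' D := ⟨_, rfl⟩
  haveI hNn : N.Normal := hN ▸ fr'_normal D
  have hND : N ≤ D := hN ▸ fr'_le D
  have hDp : IsPGroup p D := P.isPGroup'.to_le ((e.D_R.trans f.R_Q).trans hQP)
  have hNP : N ≤ (P : Subgroup G) := hND.trans ((e.D_R.trans f.R_Q).trans hQP)
  rw [← hM, ← hN]
  have hMP : M ≤ (P : Subgroup G) := hM ▸ (e.M_R.trans f.R_Q).trans hQP
  obtain ⟨W₁, hW₁⟩ : ∃ W₁, W₁ = M ⊔ N := ⟨_, rfl⟩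
  rw [← hW₁]
  have hW₁dec : ∀ w ∈ W₁, ∃ m ∈ M, ∃ n ∈ N, m * n = w := fun w hw => by
    rw [hW₁, ← SetLike.mem_coe, Subgroup.mul_normal] at hw
    exact hw
  have hW₁n : NIn (P : Subgroup G) W₁ := hW₁ ▸ (hM ▸ e.M_nin).sup (NIn.of_normal hNn)
  have hmW : ∀ {m}, m ∈ M → m ∈ W₁ := fun hm => hW₁ ▸ mem_sup_left hm
  have hnW : ∀ {n}, n ∈ N → n ∈ W₁ := fun hn => hW₁ ▸ mem_sup_right hn
  have hzM : ∀ {z}, z ∈ Zs P → z ∈ M := fun hz => hM ▸ mem_sup_left (h.v.Z_le hz)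
  have hone : ∀ {a b : G}, a * b = b * a → ⁅a, b⁆ ∈ W₁ := fun hab => by rw [(comm_one_iff _ _).mpr hab]; exact one_mem _
  have hinv : ∀ {a b : G}, ⁅a, b⁆ ∈ W₁ → ⁅b, a⁆ ∈ W₁ := fun hh => by rw [← commutatorElement_inv]; exact inv_mem hh
  have hM'M' : ∀ a ∈ cj fr.w M, ∀ b ∈ cj fr.w M, a * b = b * a := by
    rintro _ ⟨a, ha, rfl⟩ _ ⟨b, hb, rfl⟩
    rw [← map_mul, ← map_mul, e.M_comm a (hM ▸ ha) b (e.M_R (hM ▸ hb))]
  have hgen : closure (((X : Set G) ∪ (M : Set G)) ∪ ((cj fr.w M : Set G) ∪ (D : Set G))) = (P : Subgroup G) := by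
    refine le_antisymm ((closure_le _).mpr ?_) ?_
    · rintro x ((hx | hx) | (hx | hx))
      · exact d.X_mem.le hx
      · exact hMP hx
      · exact hQP (e.Y_Q (e.M'_Y (hM ▸ hx)))
      · exact hQP (f.R_Q (e.D_R hx))
    · rw [← h.sup_core d.X_mem d.X_Q]
      refine sup_le (fun x hx => subset_closure (Or.inl (Or.inl hx))) fun q hq => ?_
      obtain ⟨y, hy, c, hc, rfl⟩ := e.Q_dec q hq
      obtain ⟨m, hm, m', hm', rfl⟩ := e.Y_dec y hy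
      exact mul_mem (mul_mem (subset_closure (Or.inl (Or.inr (hM ▸ hm))))
        (subset_closure (Or.inr (Or.inl (hM ▸ hm'))))) (subset_closure (Or.inr (Or.inr hc)))
  have hXM : ∀ x ∈ X, ∀ m ∈ M, ⁅x, m⁆ ∈ W₁ := fun x hx m hm => hmW (hzM (e.M_move x (d.X_mem.le hx) m (hM ▸ hm)))
  have hXM' : ∀ x ∈ X, ∀ m ∈ cj fr.w M, ⁅x, m⁆ ∈ W₁ := fun x hx m hm => hmW (hM ▸ e.XY x hx m (e.M'_Y (hM ▸ hm)))
  have hXD : ∀ x ∈ X, ∀ c ∈ D, ⁅x, c⁆ ∈ W₁ := fun x hx c hc => hmW (hzM (f.XR x hx c (e.D_R hc)))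
  have hMM' : ∀ m ∈ M, ∀ m' ∈ cj fr.w M, ⁅m, m'⁆ ∈ W₁ := fun m hm m' hm' =>
    hmW (hzM (h.Cz_le_Zs (e.cross m (hM ▸ hm) m' (hM ▸ hm'))))
  have hel := elementary_of_gens (p := p) hW₁n _ hgen (by
    rintro a ((ha | ha) | (ha | ha)) b ((hb | hb) | (hb | hb))
    · exact hone (d.X_comm a ha b hb)
    · exact hXM a ha b hb
    · exact hXM' a ha b hb
    · exact hXD a ha b hb
    · exact hinv (hXM b hb a ha)
    · exact hone (e.M_comm a (hM ▸ ha) b (e.M_R (hM ▸ hb)))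
    · exact hMM' a ha b hb
    · exact hone (e.M_comm a (hM ▸ ha) b (e.D_R hb))
    · exact hinv (hXM' b hb a ha)
    · exact hinv (hMM' b hb a ha)
    · exact hone (hM'M' a ha b hb)
    · exact hone (e.D_Y b hb a (e.M'_Y (hM ▸ ha)))
    · exact hinv (hXD b hb a ha)
    · exact hinv (hone (e.M_comm b (hM ▸ hb) a (e.D_R ha)))
    · exact hone (e.D_Y a ha b (e.M'_Y (hM ▸ hb))).symm
    · exact hnW (hN ▸ comm_mem_fr' hDp ha hb)) (by
    rintro a ((ha | ha) | (ha | ha))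
    · rw [d.X_exp a ha]; exact one_mem _
    · rw [e.M_exp a (hM ▸ ha)]; exact one_mem _
    · obtain ⟨m, hm, rfl⟩ := ha
      rw [← map_pow, e.M_exp m (hM ▸ hm), map_one]; exact one_mem _
    · exact hnW (hN ▸ pow_mem_fr' hDp ha))
  have hNcomm : ∀ n ∈ N, ∀ a ∈ (P : Subgroup G), ⁅n, a⁆ ∈ N := fun n hn a _ => by
    rw [commutatorElement_def, mul_assoc, mul_assoc]
    refine mul_mem hn ?_
    rw [← mul_assoc]; exact hNn.conj_mem _ (inv_mem hn) a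
  refine ⟨hNn, hN ▸ h.wide_central d f e, hW₁ ▸ sup_le hMP hNP, hel.1, hel.2, fun w hw a ha b hb => ?_,
    fun w hw w' hw' => ?_, fun w hw => ?_⟩
  · obtain ⟨m, hm, n, hn, rfl⟩ := hW₁dec w hw
    have hz : ⁅m, a⁆ ∈ Zs P := by rw [← commutatorElement_inv]; exact inv_mem (e.M_move a ha m (hM ▸ hm))
    obtain ⟨n', hn', hn'def⟩ : ∃ n' ∈ N, n' = m * ⁅n, a⁆ * m⁻¹ := ⟨_, hNn.conj_mem _ (hNcomm n hn a ha) m, rfl⟩
    rw [cmul_left, ← hn'def, comm_left_drop (h.comm_Z hb hz).symm]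
    exact hNcomm n' hn' b hb
  · obtain ⟨m, hm, n, hn, rfl⟩ := hW₁dec w hw
    obtain ⟨m', hm', n', hn', rfl⟩ := hW₁dec w' hw'
    rw [e.M_comm m (hM ▸ hm) n (e.D_R (hND hn)),
      comm_left_drop (e.M_comm m (hM ▸ hm) _ (mul_mem (e.M_R (hM ▸ hm')) (e.D_R (hND hn')))),
      e.M_comm m' (hM ▸ hm') n' (e.D_R (hND hn')), comm_right_drop (e.M_comm m' (hM ▸ hm') n (e.D_R (hND hn))).symm]
    exact hNcomm n hn n' (hNP hn')
  · obtain ⟨m, hm, n, hn, rfl⟩ := hW₁dec w hw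
    rw [Commute.mul_pow (e.M_comm m (hM ▸ hm) n (e.D_R (hND hn))), e.M_exp m (hM ▸ hm), one_mul]
    exact pow_mem hn p

end Cfsg.Agent.Fus.GN
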