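import Mathlib
import Cfsg.Agent.Lib.Fus.GN.Local

/-!
# Pairs for pushing up: one group over `S`, seen from `S`
-/

set_option autoImplicit false
set_option linter.style.haveILetI false
set_option linter.unusedSectionVars false

namespace Cfsg.Agent.Fus.GN

open Subgroup Cfsg.Agent.Invol Cfsg.Agent.Invol.PushUp
open scoped commutatorElement

universe u

variable {S : Type u} [Group S] [Finite S] {p : ℕ} [hp : Fact p.Prime]

theorem cz_top (X : Subgroup S) : cz ⊤ X = centralizer (X : Set S) := top_inf_eq _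

theorem cz_top_top : cz (⊤ : Subgroup S) ⊤ = center S := by
  rw [cz_top, Subgroup.coe_top, Subgroup.centralizer_univ]

/-- Members in the interval between a pair are at the ends only. -/
def Atom (P A B : Subgroup S) : Prop := ∀ M, Mem P M → A ≤ M → M ≤ B → M = A ∨ M = B

/-- `x` acts quadratically on every chief factor below `Q`. -/
def QuadOn {G : Type*} [Group G] (Q : Subgroup G) (x : G) : Prop :=
  ∀ U V : Subgroup G, Cfsg.IsChiefFactor U V → U ≤ Q → ∀ u ∈ U, ⁅x, ⁅x, u⁆⁆ ∈ V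

/-- No element of the Sylow subgroup outside the core acts quadratically on every chief factor below it. -/
def NoQuad {G : Type*} [Group G] [Finite G] {p : ℕ} [Fact p.Prime] (P : Sylow p G) : Prop :=
  ∀ x ∈ (P : Subgroup G), x ∉ Cfsg.pCore p G → ¬ QuadOn (Cfsg.pCore p G) x

/-- A group over `S` in which the image of `S₁` is not normal, with its frame; when `q` holds it has no
quadratic element. -/
structure Sit (p : ℕ) [Fact p.Prime] {S : Type u} [Group S] (S₁ : Subgroup S) (q : Prop) : Type (u + 1) where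
  G : Type u
  [grp : Group G]
  [fin : Finite G]
  P : Sylow p G
  F : Type
  [field : Field F]
  [fintype : Fintype F]
  fr : Frame P F
  e : S ≃* ↥(P : Subgroup G)
  hv : IsVertex fr
  bad : ¬ (S₁.map ((P : Subgroup G).subtype.comp e.toMonoidHom)).Normal
  hard : q → NoQuad P

attribute [instance] Sit.grp Sit.fin Sit.field Sit.fintype

namespace Sit

variable {S₁ : Subgroup S} {q : Prop} (T : Sit p S₁ q)

/-- The embedding. -/
def ι : S →* T.G := (T.P : Subgroup T.G).subtype.comp T.e.toMonoidHom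

theorem ι_inj : Function.Injective T.ι := (T.P : Subgroup T.G).subtype_injective.comp T.e.injective

theorem ι_mem (s : S) : T.ι s ∈ (T.P : Subgroup T.G) := (T.e s).2

theorem exists_ι {g : T.G} (hg : g ∈ (T.P : Subgroup T.G)) : ∃ s, T.ι s = g :=
  ⟨T.e.symm ⟨g, hg⟩, congrArg Subtype.val (T.e.apply_symm_apply ⟨g, hg⟩)⟩

theorem map_top : (⊤ : Subgroup S).map T.ι = (T.P : Subgroup T.G) :=
  le_antisymm (by rintro _ ⟨s, -, rfl⟩; exact T.ι_mem s)
    fun g hg => by obtain ⟨s, rfl⟩ := T.exists_ι hg; exact mem_map_of_mem _ (mem_top s)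

theorem map_le (X : Subgroup S) : X.map T.ι ≤ (T.P : Subgroup T.G) := (map_mono le_top).trans T.map_top.le

theorem map_comap {X : Subgroup T.G} (hX : X ≤ (T.P : Subgroup T.G)) : (X.comap T.ι).map T.ι = X :=
  le_antisymm (map_comap_le _ _) fun x hx => by
    obtain ⟨s, rfl⟩ := T.exists_ι (hX hx)
    exact mem_map_of_mem _ hx

theorem comap_map (X : Subgroup S) : (X.map T.ι).comap T.ι = X := comap_map_eq_self_of_injective T.ι_inj X

theorem mem_map {X : Subgroup S} {s : S} : T.ι s ∈ X.map T.ι ↔ s ∈ X :=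
  Subgroup.mem_map_iff_mem T.ι_inj

theorem map_le_map {X Y : Subgroup S} : X.map T.ι ≤ Y.map T.ι ↔ X ≤ Y :=
  map_le_map_iff_of_injective T.ι_inj

theorem map_inj {X Y : Subgroup S} (h : X.map T.ι = Y.map T.ι) : X = Y :=
  le_antisymm (T.map_le_map.mp h.le) (T.map_le_map.mp h.ge)

theorem map_cz (X : Subgroup S) : (cz ⊤ X).map T.ι = cz (T.P : Subgroup T.G) (X.map T.ι) := by
  rw [← T.map_top, cz_map T.ι T.ι_inj]

theorem map_mem {X : Subgroup S} (hX : Mem ⊤ X) : Mem (T.P : Subgroup T.G) (X.map T.ι) :=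
  T.map_top ▸ hX.map T.ι_inj

theorem mem_of_map {X : Subgroup S} (hX : Mem (T.P : Subgroup T.G) (X.map T.ι)) : Mem ⊤ X :=
  Mem.of_map T.ι_inj le_top (T.map_top.symm ▸ hX)

theorem loc (hs : Std p (⊤ : Subgroup S)) : Loc T.fr := ⟨T.hv, T.map_top ▸ hs.map T.ι_inj⟩

/-- The core, seen in `S`. -/
def Q : Subgroup S := (Cfsg.pCore p T.G).comap T.ι

/-- The module, seen in `S`. -/
def V : Subgroup S := (Vz T.P).comap T.ι

theorem map_Q : T.Q.map T.ι = Cfsg.pCore p T.G := T.map_comap Frame.Q_le_S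

theorem map_V : T.V.map T.ι = Vz T.P := T.map_comap (T.hv.le_core.trans Frame.Q_le_S)

theorem le_Q {X : Subgroup S} : X.map T.ι ≤ Cfsg.pCore p T.G ↔ X ≤ T.Q := map_le_iff_le_comap

theorem V_le_Q : T.V ≤ T.Q := comap_mono T.hv.le_core

theorem V_comm {a b : S} (ha : a ∈ T.V) (hb : b ∈ T.V) : a * b = b * a :=
  T.ι_inj (by rw [map_mul, map_mul]; exact T.hv.comm _ ha _ hb)

theorem V_exp {a : S} (ha : a ∈ T.V) : a ^ p = 1 :=
  T.ι_inj (by rw [map_pow, map_one]; exact T.hv.exp _ ha)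

theorem Q_nin : NIn ⊤ T.Q := fun a _ x hx => by
  show T.ι _ ∈ Cfsg.pCore p T.G
  rw [map_mul, map_mul, map_inv]
  exact Frame.Q_normal.conj_mem _ hx _

theorem V_nin : NIn ⊤ T.V := fun a _ x hx => by
  show T.ι _ ∈ Vz T.P
  rw [map_mul, map_mul, map_inv]
  exact (normalClosure_normal : (Vz T.P).Normal).conj_mem _ hx _

variable (hs : Std p (⊤ : Subgroup S))
include hs

theorem map_Z : (cz (⊤ : Subgroup S) ⊤).map T.ι = Zs T.P := by
  rw [T.map_cz, T.map_top, (T.loc hs).cz_P]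

theorem mem_Z {s : S} : T.ι s ∈ Zs T.P ↔ s ∈ cz (⊤ : Subgroup S) ⊤ := by
  rw [← T.map_Z hs, T.mem_map]

theorem V_mem : Mem ⊤ T.V := T.mem_of_map (T.map_V ▸ (T.loc hs).V_mem)

theorem Q_mem : Mem ⊤ T.Q := T.mem_of_map (T.map_Q ▸ (T.loc hs).Q_mem)

theorem cz_V : cz ⊤ T.V = T.Q := T.map_inj (by rw [T.map_cz, T.map_V, T.map_Q, (T.loc hs).cz_V])

theorem cz_Q : cz ⊤ T.Q = T.V := by rw [← T.cz_V hs, (T.V_mem hs).cz_cz]

theorem move (s : S) {v : S} (hv : v ∈ T.V) : ⁅s, v⁆ ∈ cz (⊤ : Subgroup S) ⊤ := by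
  rw [← T.mem_Z hs, map_commutatorElement]
  exact T.hv.move _ (T.ι_mem s) _ hv

theorem atom : Atom ⊤ (cz ⊤ ⊤) T.V := fun M hM _ hMV => by
  rcases (T.loc hs).atom (T.map_mem hM) (T.map_V ▸ map_mono hMV) with he | he
  · exact Or.inl (T.map_inj (he.trans (T.map_Z hs).symm))
  · exact Or.inr (T.map_inj (he.trans T.map_V.symm))

theorem card_V : Nat.card T.V = Fintype.card T.F * Nat.card (cz (⊤ : Subgroup S) ⊤) := by
  rw [← card_map_of_injective T.ι_inj (K := T.V), ← card_map_of_injective T.ι_inj (K := cz (⊤ : Subgroup S) ⊤),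
    T.map_V, T.map_Z hs, (T.loc hs).card_V]

theorem card_inf {X : Subgroup S} (hX : Mem ⊤ X) (hXQ : ¬ X ≤ T.Q) :
    Nat.card X = Fintype.card T.F * Nat.card ↥(X ⊓ T.Q) := by
  have h1 := hX.card_sup (T.Q_mem hs)
  have h2 : X ⊔ T.Q = ⊤ := T.map_inj (by
    rw [Subgroup.map_sup, T.map_Q, (T.loc hs).sup_core (T.map_mem hX) (fun h => hXQ (T.le_Q.mp h)), T.map_top])
  rw [h2, Subgroup.card_top, ← Nat.card_congr (T.e.toEquiv.symm), T.fr.card_S,
    ← T.map_Q, card_map_of_injective T.ι_inj] at h1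
  refine Nat.eq_of_mul_eq_mul_right (Nat.card_pos (α := T.Q)) ?_
  rw [← h1]; ring

omit hs

/-- The conjugate by `g` of a subgroup below the core. -/
def cj (g : T.G) (X : Subgroup S) : Subgroup S := (GN.cj g (X.map T.ι)).comap T.ι

theorem mem_cj {g : T.G} {X : Subgroup S} {s : S} : s ∈ T.cj g X ↔ g⁻¹ * T.ι s * g ∈ X.map T.ι := GN.mem_cj

theorem map_cj_core {g : T.G} {X : Subgroup S} (hX : X ≤ T.Q) : GN.cj g (X.map T.ι) ≤ Cfsg.pCore p T.G :=
  (cj_mono (T.le_Q.mpr hX)).trans (cj_normal g Frame.Q_normal).le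

theorem map_cj {g : T.G} {X : Subgroup S} (hX : X ≤ T.Q) : (T.cj g X).map T.ι = GN.cj g (X.map T.ι) :=
  T.map_comap ((T.map_cj_core hX).trans Frame.Q_le_S)

theorem cj_le_Q {g : T.G} {X : Subgroup S} (hX : X ≤ T.Q) : T.cj g X ≤ T.Q :=
  T.le_Q.mp (T.map_cj hX ▸ T.map_cj_core hX)

theorem cj_cj {g k : T.G} {X : Subgroup S} (hX : X ≤ T.Q) : T.cj g (T.cj k X) = T.cj (g * k) X := by
  rw [cj, T.map_cj hX, GN.cj_cj]; rfl

theorem cj_one (X : Subgroup S) : T.cj 1 X = X := by rw [cj, GN.cj_one, T.comap_map]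

theorem cj_inv_cj {g : T.G} {X : Subgroup S} (hX : X ≤ T.Q) : T.cj g⁻¹ (T.cj g X) = X := by
  rw [T.cj_cj hX, inv_mul_cancel, T.cj_one]

theorem cj_cj_inv {g : T.G} {X : Subgroup S} (hX : X ≤ T.Q) : T.cj g (T.cj g⁻¹ X) = X := by
  rw [T.cj_cj hX, mul_inv_cancel, T.cj_one]

theorem cj_mono {g : T.G} {X Y : Subgroup S} (h : X ≤ Y) : T.cj g X ≤ T.cj g Y := comap_mono (GN.cj_mono (map_mono h))

theorem cj_V (g : T.G) : T.cj g T.V = T.V := by
  rw [cj, T.map_V, cj_normal g (X := Vz T.P) normalClosure_normal]; rfl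

theorem V_le_cj {g : T.G} {X : Subgroup S} (hX : T.V ≤ X) : T.V ≤ T.cj g X := (T.cj_V g).ge.trans (T.cj_mono hX)

theorem card_cj {g : T.G} {X : Subgroup S} (hX : X ≤ T.Q) : Nat.card (T.cj g X) = Nat.card X := by
  rw [← card_map_of_injective T.ι_inj (K := T.cj g X), T.map_cj hX, GN.card_cj, card_map_of_injective T.ι_inj]

theorem cj_sup {g : T.G} {X Y : Subgroup S} (hX : X ≤ T.Q) (hY : Y ≤ T.Q) :
    T.cj g (X ⊔ Y) = T.cj g X ⊔ T.cj g Y :=
  T.map_inj (by rw [T.map_cj (sup_le hX hY), Subgroup.map_sup, Subgroup.map_sup, T.map_cj hX, T.map_cj hY, GN.cj_sup])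

theorem cj_comm {g : T.G} {X Y : Subgroup S} (h : ∀ a ∈ X, ∀ b ∈ Y, a * b = b * a) :
    ∀ a ∈ T.cj g X, ∀ b ∈ T.cj g Y, a * b = b * a := by
  intro a ha b hb
  obtain ⟨x, hx, hxe⟩ := T.mem_cj.mp ha
  obtain ⟨y, hy, hye⟩ := T.mem_cj.mp hb
  refine T.ι_inj ?_
  rw [map_mul, map_mul, show T.ι a = g * T.ι x * g⁻¹ by rw [hxe]; group,
    show T.ι b = g * T.ι y * g⁻¹ by rw [hye]; group]
  calc g * T.ι x * g⁻¹ * (g * T.ι y * g⁻¹) = g * (T.ι (x * y)) * g⁻¹ := by rw [map_mul]; group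
    _ = g * (T.ι (y * x)) * g⁻¹ := by rw [h x hx y hy]
    _ = _ := by rw [map_mul]; group

theorem cj_exp {g : T.G} {X : Subgroup S} (h : ∀ a ∈ X, a ^ p = 1) : ∀ a ∈ T.cj g X, a ^ p = 1 := by
  intro a ha
  obtain ⟨x, hx, hxe⟩ := T.mem_cj.mp ha
  refine T.ι_inj ?_
  rw [map_pow, map_one, show T.ι a = g * T.ι x * g⁻¹ by rw [hxe]; group, _root_.conj_pow, ← map_pow, h x hx,
    map_one, mul_one, mul_inv_cancel]

theorem cj_ι {s : S} {X : Subgroup S} (hX : NIn ⊤ X) : T.cj (T.ι s) X = X := by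
  ext y
  rw [T.mem_cj, ← map_inv, ← map_mul, ← map_mul, T.mem_map]
  refine ⟨fun h => ?_, fun h => by simpa using hX s⁻¹ (mem_top _) y h⟩
  simpa [mul_assoc] using hX s (mem_top _) _ h

include hs

theorem cj_mem {g : T.G} {X : Subgroup S} (hX : Mem ⊤ X) (hV : T.V ≤ X) (hQ : X ≤ T.Q) : Mem ⊤ (T.cj g X) :=
  T.mem_of_map (T.map_cj hQ ▸ (T.loc hs).cj_mem (T.map_mem hX) (T.map_V ▸ map_mono hV) (T.le_Q.mpr hQ) g)

end Sit

end Cfsg.Agent.Fus.GN
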