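import Mathlib
import Cfsg.Agent.Lib.Fus.GN.ShortWide
import Cfsg.Agent.Lib.Fus.GN.Sit

/-!
# Pairs for pushing up: quadratic elements
-/

set_option autoImplicit false
set_option linter.style.haveILetI false
set_option linter.unusedSectionVars false

namespace Cfsg.Agent.Fus.GN

open Subgroup Cfsg.Agent.Invol Cfsg.Agent.Invol.PushUp
open scoped commutatorElement

universe u

variable {G : Type u} [Group G] [Finite G] {p : ℕ} [hp : Fact p.Prime] {P : Sylow p G}

/-- An element of an abelian subgroup normalised by `P` acts quadratically below the core. -/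
theorem quadOn_of_abelian {W : Subgroup G} (hW : NIn (P : Subgroup G) W) (hc : ∀ a ∈ W, ∀ b ∈ W, a * b = b * a)
    {x : G} (hx : x ∈ W) : QuadOn (Cfsg.pCore p G) x := by
  intro U V _ hUQ u hu
  have h1 : ⁅x, u⁆ ∈ W := by
    rw [commutatorElement_def, show x * u * x⁻¹ * u⁻¹ = x * (u * x⁻¹ * u⁻¹) by group]
    exact mul_mem hx (hW u (Grp.pCore_le_sylow P (hUQ hu)) _ (inv_mem hx))
  rw [(comm_one_iff x _).mpr (hc x hx _ h1)]
  exact one_mem _

variable {F : Type} [Field F] [Fintype F] {fr : Frame P F}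

/-- In the wide case every element of `X` acts quadratically below the core. -/
theorem Loc.quadOn_wide (h : Loc fr) {W X R Y D : Subgroup G} (d : ShortData fr W X) (f : ShortFacts fr W X R)
    (e : WideFacts fr W X R Y D) {x : G} (hx : x ∈ X) : QuadOn (Cfsg.pCore p G) x := by
  intro U V hUV hUQ u hu
  haveI : U.Normal := hUV.2.1
  haveI hVn : V.Normal := hUV.2.2.1
  haveI := e.D_normal
  haveI : (Vz P).Normal := h.Vz_normal
  have hxP : x ∈ (P : Subgroup G) := d.X_mem.le hx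
  obtain ⟨L, hL⟩ : ∃ L, L = Vz P ⊔ D := ⟨_, rfl⟩
  haveI : L.Normal := hL ▸ inferInstance
  have hZ : ∀ l ∈ L, ⁅x, l⁆ ∈ Zs P := fun l hl => by
    rw [hL, ← SetLike.mem_coe, Subgroup.mul_normal] at hl
    obtain ⟨v, hv, c, hc, rfl⟩ := hl
    have h1 := f.XR x hx c (e.D_R hc)
    rw [cmul_right, ← h.comm_Z (h.V_le hv) h1 |>.symm, mul_inv_cancel_right]
    exact mul_mem (h.v.move x hxP v hv) h1
  have h2 : ∀ z ∈ Zs P, ⁅x, z⁆ = 1 := fun z hz => (comm_one_iff x z).mpr (h.comm_Z hxP hz)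
  have hle : V ⊔ U ⊓ L = V ∨ V ⊔ U ⊓ L = U :=
    hUV.2.2.2 _ inferInstance le_sup_left (sup_le hUV.1.le inf_le_left)
  rcases hle with hV | hU
  · -- the layer above `L`
    have hUL : U ⊓ L ≤ V := hV ▸ le_sup_right
    refine hUL ⟨?_, ?_⟩
    · exact commutator_le_right (H₁ := ⊤) U (commutator_mem_commutator (mem_top x)
        (commutator_le_right (H₁ := ⊤) U (commutator_mem_commutator (mem_top x) hu)))
    · obtain ⟨y, hy, c, hc, rfl⟩ := e.Q_dec u (hUQ hu)
      have hzM : ∀ {z}, z ∈ Zs P → z ∈ Vz P ⊔ W := fun hz => mem_sup_left (h.v.Z_le hz)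
      have h3 : ⁅x, y * c⁆ ∈ Vz P ⊔ W := by
        rw [cmul_right]
        have h4 := f.XR x hx c (e.D_R hc)
        refine mul_mem (e.XY x hx y hy) ?_
        rw [h.comm_Z (Frame.Q_le_S (e.Y_Q hy)) h4, mul_inv_cancel_right]
        exact hzM h4
      exact hL ▸ mem_sup_left (h.v.Z_le (e.M_move x hxP _ h3))
  · -- the layer inside `L`
    have hu' : u ∈ V ⊔ U ⊓ L := hU.ge hu
    rw [← SetLike.mem_coe, Subgroup.normal_mul] at hu'
    obtain ⟨v, hv, l, hl, rfl⟩ := hu'
    have h3 : ⁅x, v⁆ ∈ V := commutator_le_right (H₁ := ⊤) V (commutator_mem_commutator (mem_top x) hv)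
    rw [cmul_right x v l]
    have h5 : ⁅x, ⁅x, v⁆⁆ ∈ V := commutator_le_right (H₁ := ⊤) V (commutator_mem_commutator (mem_top x) h3)
    rw [cmul_right x ⁅x, v⁆ _]
    refine mul_mem h5 (hVn.conj_mem _ ?_ _)
    have h6 : ⁅x, v * ⁅x, l⁆ * v⁻¹⁆ ∈ V := by
      rw [cmul_right, cmul_right, h2 _ (hZ l hl.2), mul_one, mul_inv_cancel, mul_one]
      exact mul_mem (h3) (hVn.conj_mem _ (commutator_le_right (H₁ := ⊤) V
        (commutator_mem_commutator (mem_top x) (inv_mem hv))) _)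
    exact h6

end Cfsg.Agent.Fus.GN
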