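import Mathlib
import Cfsg.Agent.Lib.Fus.GN.Sit
import Cfsg.Agent.Lib.Fus.GN.Twist

/-!
# Pairs for pushing up: the members reached from the modules
-/

set_option autoImplicit false
set_option linter.style.haveILetI false
set_option linter.unusedSectionVars false

namespace Cfsg.Agent.Fus.GN

open Subgroup Cfsg.Agent.Invol Cfsg.Agent.Invol.PushUp
open scoped commutatorElement

universe u

variable {S : Type u} [Group S] [Finite S] {p : ℕ} [hp : Fact p.Prime] {S₁ : Subgroup S} {q : Prop}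

/-- `X` is below every core. -/
def AllQ (p : ℕ) [Fact p.Prime] (S₁ : Subgroup S) (q : Prop) (X : Subgroup S) : Prop := ∀ T : Sit p S₁ q, X ≤ T.Q

/-- The members reached in `n` steps. -/
inductive Reach (p : ℕ) [Fact p.Prime] {S : Type u} [Group S] (S₁ : Subgroup S) (q : Prop) :
    ℕ → Subgroup S → Prop
  | base (T : Sit p S₁ q) : Reach p S₁ q 0 T.V
  | step (T : Sit p S₁ q) (g : T.G) {n : ℕ} {A : Subgroup S} : Reach p S₁ q n A → (∀ T' : Sit p S₁ q, A ≤ T'.Q) →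
      Reach p S₁ q (n + 1) (T.cj g (A ⊔ T.V))

theorem Atom.sup {A₁ A V : Subgroup S} (hA : Atom ⊤ A₁ A) (hA₁ : A₁ ≤ A) (hAm : Mem ⊤ A) (hV : Mem ⊤ V) :
    Atom ⊤ (A₁ ⊔ V) (A ⊔ V) := by
  intro M hM h1 h2
  rcases hA _ (hM.inf hAm) (le_inf (le_sup_left.trans h1) hA₁) inf_le_right with he | he
  · refine Or.inl (le_antisymm (fun z hz => ?_) h1)
    obtain ⟨a, ha, v, hv, hav⟩ := hAm.exists_mul hV (h2 hz)
    have hvM : v ∈ M := h1 (mem_sup_right hv)
    have haM : a ∈ M ⊓ A := ⟨(mul_mem_cancel_right hvM).mp (hav ▸ hz), ha⟩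
    rw [← hav]
    exact mul_mem (mem_sup_left (he.le haM)) (mem_sup_right hv)
  · exact Or.inr (le_antisymm h2 (sup_le (he.ge.trans inf_le_left) (le_sup_right.trans h1)))

theorem Atom.cj (hs : Std p (⊤ : Subgroup S)) (T : Sit p S₁ q) (g : T.G) {A B : Subgroup S} (h : Atom ⊤ A B)
    (hVA : T.V ≤ A) (hAB : A ≤ B) (hBQ : B ≤ T.Q) : Atom ⊤ (T.cj g A) (T.cj g B) := by
  intro M hM h1 h2
  have hMQ : M ≤ T.Q := h2.trans (T.cj_le_Q hBQ)
  have hm := T.cj_mem hs (g := g⁻¹) hM ((T.V_le_cj hVA).trans h1) hMQ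
  have e1 : A ≤ T.cj g⁻¹ M := (T.cj_inv_cj (hAB.trans hBQ)).ge.trans (T.cj_mono h1)
  have e2 : T.cj g⁻¹ M ≤ B := (T.cj_mono h2).trans (T.cj_inv_cj hBQ).le
  rcases h _ hm e1 e2 with he | he
  · exact Or.inl (by rw [← he, T.cj_cj_inv hMQ])
  · exact Or.inr (by rw [← he, T.cj_cj_inv hMQ])

namespace Sit

/-- The situation seen through an automorphism of `S`. -/
def twist (T : Sit p S₁ q) [hc : S₁.Characteristic] (σ : S ≃* S) : Sit p S₁ q where
  G := T.G
  P := T.P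
  F := T.F
  fr := T.fr
  e := σ.symm.trans T.e
  hv := T.hv
  hard := T.hard
  bad h := T.bad (by
    have e1 : S₁.map σ.symm.toMonoidHom = S₁ := characteristic_iff_map_eq.mp hc σ.symm
    have h' : ((S₁.map σ.symm.toMonoidHom).map ((T.P : Subgroup T.G).subtype.comp T.e.toMonoidHom)).Normal := by
      rw [Subgroup.map_map]
      exact h
    exact (congrArg (fun X : Subgroup S => (X.map ((T.P : Subgroup T.G).subtype.comp T.e.toMonoidHom)).Normal) e1).mp h')

variable (T : Sit p S₁ q) [hc : S₁.Characteristic] (σ : S ≃* S)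

theorem twist_ι (s : S) : (T.twist σ).ι s = T.ι (σ.symm s) := rfl

theorem twist_V : (T.twist σ).V = T.V.map σ.toMonoidHom :=
  Eq.trans (b := T.V.comap σ.symm.toMonoidHom) rfl (map_equiv_eq_comap_symm' σ T.V).symm

theorem twist_Q : (T.twist σ).Q = T.Q.map σ.toMonoidHom :=
  Eq.trans (b := T.Q.comap σ.symm.toMonoidHom) rfl (map_equiv_eq_comap_symm' σ T.Q).symm

theorem twist_cj (g : T.G) (X : Subgroup S) :
    (T.twist σ).cj g (X.map σ.toMonoidHom) = (T.cj g X).map σ.toMonoidHom := by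
  have e : (X.map σ.toMonoidHom).map (T.ι.comp σ.symm.toMonoidHom) = X.map T.ι := by
    rw [Subgroup.map_map]
    congr 1
    ext s
    show T.ι (σ.symm (σ s)) = T.ι s
    rw [σ.symm_apply_apply]
  refine Eq.trans ?_ (map_equiv_eq_comap_symm' σ _).symm
  show comap (T.ι.comp σ.symm.toMonoidHom) (GN.cj g ((X.map σ.toMonoidHom).map (T.ι.comp σ.symm.toMonoidHom))) = _
  rw [e]
  rfl

omit hc in
/-- A normalising element induces an automorphism of `S`. -/
theorem exists_aut {h : T.G} (hh : Nm (T.P : Subgroup T.G) h) :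
    ∃ τ : S ≃* S, ∀ X : Subgroup S, T.cj h X = X.map τ.toMonoidHom := by
  let f : S →* S :=
    { toFun := fun s => T.e.symm ⟨h * T.ι s * h⁻¹, hh _ (T.ι_mem s)⟩
      map_one' := T.ι_inj (by simp [Sit.ι])
      map_mul' := fun a b => T.ι_inj (by simp [Sit.ι, mul_assoc]) }
  have hf : ∀ s, T.ι (f s) = h * T.ι s * h⁻¹ := fun s =>
    congrArg Subtype.val (T.e.apply_symm_apply ⟨h * T.ι s * h⁻¹, hh _ (T.ι_mem s)⟩)
  have hinj : Function.Injective f := fun a b hab => T.ι_inj (by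
    have := congrArg T.ι hab
    rwa [hf, hf, mul_left_inj, mul_right_inj] at this)
  refine ⟨MulEquiv.ofBijective f (Finite.injective_iff_bijective.mp hinj), fun X => T.map_inj ?_⟩
  have e1 : GN.cj h (X.map T.ι) ≤ (T.P : Subgroup T.G) := by
    rintro _ ⟨_, ⟨s, -, rfl⟩, rfl⟩
    exact hh _ (T.ι_mem s)
  rw [Sit.cj, T.map_comap e1, Subgroup.map_map, GN.cj, Subgroup.map_map]
  congr 1
  ext s
  exact (hf s).symm

end Sit

namespace Reach

variable {n : ℕ} {X : Subgroup S}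

theorem facts (hs : Std p (⊤ : Subgroup S)) (h : Reach p S₁ q n X) :
    Mem ⊤ X ∧ (∀ a ∈ X, ∀ b ∈ X, a * b = b * a) ∧ ∀ a ∈ X, a ^ p = 1 := by
  induction h with
  | base T => exact ⟨T.V_mem hs, fun a ha b hb => T.V_comm ha hb, fun a ha => T.V_exp ha⟩
  | @step T g n A _ hQ ih =>
    obtain ⟨hm, hc, he⟩ := ih
    have hcross : ∀ a ∈ A, ∀ v ∈ T.V, a * v = v * a := fun a ha v hv =>
      ((mem_cz.mp ((T.cz_V hs).ge (hQ T ha))).2 v hv).symm
    have hdec : ∀ z ∈ A ⊔ T.V, ∃ a ∈ A, ∃ v ∈ T.V, a * v = z := fun z hz => hm.exists_mul (T.V_mem hs) hz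
    refine ⟨T.cj_mem hs (hm.sup (T.V_mem hs)) le_sup_right (sup_le (hQ T) T.V_le_Q), T.cj_comm ?_, T.cj_exp ?_⟩
    · intro z hz z' hz'
      obtain ⟨a, ha, v, hv, rfl⟩ := hdec z hz
      obtain ⟨a', ha', v', hv', rfl⟩ := hdec z' hz'
      calc a * v * (a' * v') = a * (v * a') * v' := by group
        _ = (a * a') * (v * v') := by rw [← hcross a' ha' v hv]; group
        _ = (a' * a) * (v' * v) := by rw [hc a ha a' ha', T.V_comm hv hv']
        _ = a' * (a * v') * v := by group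
        _ = _ := by rw [hcross a ha v' hv']; group
    · intro z hz
      obtain ⟨a, ha, v, hv, rfl⟩ := hdec z hz
      rw [Commute.mul_pow (hcross a ha v hv), he a ha, T.V_exp hv, one_mul]

theorem map_aut [hc : S₁.Characteristic] (h : Reach p S₁ q n X) (σ : S ≃* S) :
    Reach p S₁ q n (X.map σ.toMonoidHom) := by
  induction h with
  | base T => exact T.twist_V σ ▸ Reach.base (T.twist σ)
  | @step T g n A _ hQ ih =>
    have hQ' : ∀ T' : Sit p S₁ q, A.map σ.toMonoidHom ≤ T'.Q := fun T' => by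
      rintro _ ⟨a, ha, rfl⟩
      obtain ⟨b, hb, hba⟩ := ((T'.twist_Q σ.symm).le (hQ (T'.twist σ.symm) ha))
      rw [← hba]
      exact (σ.apply_symm_apply b).symm ▸ hb
    have h1 := Reach.step (T.twist σ) g ih hQ'
    rwa [T.twist_V σ, ← Subgroup.map_sup, T.twist_cj σ] at h1

theorem lower (hs : Std p (⊤ : Subgroup S)) (h : Reach p S₁ q n X)
    (hN : ∀ m ≤ n, ∀ Y, Reach p S₁ q m Y → AllQ p S₁ q Y) :
    ∃ A₁, A₁ ≤ X ∧ Mem ⊤ A₁ ∧ Atom ⊤ A₁ X ∧ ∀ (T : Sit p S₁ q) (g : T.G), Reach p S₁ q n (T.cj g (A₁ ⊔ T.V)) := by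
  induction h with
  | base T =>
    refine ⟨cz ⊤ ⊤, (T.V_mem hs).Z_le, hs.mem, T.atom hs, fun T' g => ?_⟩
    rw [sup_eq_right.mpr (T'.V_mem hs).Z_le, T'.cj_V]
    exact Reach.base T'
  | @step T g n A hA hQ ih =>
    obtain ⟨A₁, hle, hm, hat, hr⟩ := ih fun m hm => hN m (Nat.le_succ_of_le hm)
    have hB : A ⊔ T.V ≤ T.Q := sup_le (hQ T) T.V_le_Q
    refine ⟨T.cj g (A₁ ⊔ T.V), T.cj_mono (sup_le_sup_right hle _),
      T.cj_mem hs (hm.sup (T.V_mem hs)) le_sup_right ((sup_le_sup_right hle _).trans hB),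
      (hat.sup hle (hA.facts hs).1 (T.V_mem hs)).cj hs T g le_sup_right (sup_le_sup_right hle _) hB,
      fun T' g' => Reach.step T' g' (hr T g) (hN n (Nat.le_succ n) _ (hr T g))⟩

end Reach

end Cfsg.Agent.Fus.GN
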