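import Mathlib
import Cfsg.Agent.Lib.Fus.GN.Reach
import Cfsg.Agent.Lib.Fus.GN.Bounds
import Cfsg.Agent.Lib.Fus.GN.Quad

/-!
# Pairs for pushing up: small facts about several groups over `S`
-/

set_option autoImplicit false
set_option linter.style.haveILetI false
set_option linter.unusedSectionVars false

namespace Cfsg.Agent.Fus.GN

open Subgroup Cfsg.Agent.Invol Cfsg.Agent.Invol.PushUp
open scoped commutatorElement

universe u

/-- The bound of the exceptional class. -/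
def szero (p : ℕ) (S : Type u) [Group S] : Subgroup S :=
  if p = 2 then ⁅frattini S, (⊤ : Subgroup S)⁆ ⊔ (frattini ↥(frattini S)).map (frattini S).subtype
  else if p = 3 then ⁅⁅frattini S, (⊤ : Subgroup S)⁆, (⊤ : Subgroup S)⁆ ⊔ (frattini ↥(frattini S)).map (frattini S).subtype
  else ⁅frattini S, (⊤ : Subgroup S)⁆ ⊔ Cfsg.powerClosure p 1 (⊤ : Subgroup S)

variable {S : Type u} [Group S] [Finite S] {p : ℕ} [hp : Fact p.Prime]

/-- The commutator bound of a subgroup modulo a normal one. -/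
theorem comm_Z_right {s a b : S} (h : ⁅s, b⁆ ∈ cz (⊤ : Subgroup S) ⊤) : ⁅s, a * b⁆ = ⁅s, a⁆ * ⁅s, b⁆ := by
  rw [cmul_right, (mem_cz.mp h).2 a (mem_top _), mul_inv_cancel_right]

variable {S₁ : Subgroup S} {q : Prop}

namespace Sit

variable (T : Sit p S₁ q)

theorem map_nin {X : Subgroup S} (h : NIn ⊤ X) : NIn (T.P : Subgroup T.G) (X.map T.ι) := by
  rintro a ha _ ⟨x, hx, rfl⟩
  obtain ⟨s, rfl⟩ := T.exists_ι ha
  exact ⟨s * x * s⁻¹, h s (mem_top _) x hx, by simp⟩

theorem of_map_nin {X : Subgroup S} (h : NIn (T.P : Subgroup T.G) (X.map T.ι)) : NIn ⊤ X := fun a _ x hx => by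
  rw [← T.mem_map, map_mul, map_mul, map_inv]
  exact h _ (T.ι_mem a) _ (mem_map_of_mem _ hx)

theorem map_atom {A B : Subgroup S} (h : Atom ⊤ A B) : Atom (T.P : Subgroup T.G) (A.map T.ι) (B.map T.ι) := by
  intro M hM h1 h2
  have hMP := hM.le
  have e : (M.comap T.ι).map T.ι = M := T.map_comap hMP
  rcases h (M.comap T.ι) (T.mem_of_map (e.symm ▸ hM)) (map_le_iff_le_comap.mp h1)
    (T.map_le_map.mp (by rw [e]; exact h2)) with he | he
  · exact Or.inl (by rw [← e, he])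
  · exact Or.inr (by rw [← e, he])

theorem conj_cj {g : T.G} {X : Subgroup S} {y : S} (hy : y ∈ T.cj g X) (s : S) :
    s * y * s⁻¹ ∈ T.cj (T.ι s * g) X := by
  rw [T.mem_cj] at hy ⊢
  convert hy using 1
  rw [map_mul, map_mul, map_inv]
  group

theorem conj_cj_inv {g : T.G} {X : Subgroup S} {y : S} (hy : y ∈ T.cj g X) :
    ∃ x ∈ X, T.ι x = g⁻¹ * T.ι y * g := T.mem_cj.mp hy

theorem cj_elem {g : T.G} {X : Subgroup S} {x : S} (hXQ : X ≤ T.Q) (hx : x ∈ X) :
    ∃ y ∈ T.cj g X, T.ι y = g * T.ι x * g⁻¹ :=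
  (T.map_cj (g := g) hXQ).ge (GN.conj_mem_cj (mem_map_of_mem _ hx))

theorem bad_of_bounds (hs : Std p (⊤ : Subgroup S)) (hS₁ : S₁ ≤ szero p S) (hS₁' : S₁ ≤ center S)
    {N W₁ : Subgroup T.G} (hb : Bounds T.P N W₁)
    (hc : p = 3 ∨ ((∀ w ∈ W₁, ∀ a ∈ (T.P : Subgroup T.G), ⁅w, a⁆ ∈ N) ∧
      (p ≠ 2 → ∀ a ∈ (T.P : Subgroup T.G), a ^ p ∈ N))) : False := by
  haveI := hb.nor
  haveI hW₁n : (W₁.comap T.ι).Normal := ⟨fun w hw a => by
    show T.ι _ ∈ W₁
    rw [show a * w * a⁻¹ = ⁅a, w⁆ * w by simp only [commutatorElement_def]; group, map_mul, map_commutatorElement]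
    exact mul_mem (hb.comm _ (T.ι_mem a) _ (T.ι_mem w)) hw⟩
  have hPhi : frattini S ≤ W₁.comap T.ι := by
    refine Grp.frattini_le_of_elementary hp.out ?_ fun x => ?_
    · rw [commutator_def, commutator_le]
      exact fun a _ b _ => (map_commutatorElement T.ι a b ▸ hb.comm _ (T.ι_mem a) _ (T.ι_mem b) :)
    · show T.ι _ ∈ W₁
      rw [map_pow]; exact hb.pow _ (T.ι_mem x)
  have hw : ∀ {x : S}, x ∈ frattini S → T.ι x ∈ W₁ := fun hx => hPhi hx
  obtain ⟨M, hM⟩ : ∃ M, M = N.comap T.ι := ⟨_, rfl⟩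
  haveI hMn : M.Normal := hM ▸ inferInstance
  have hmem : ∀ x, x ∈ M ↔ T.ι x ∈ N := fun x => hM ▸ Iff.rfl
  have hPhi2 : (frattini ↥(frattini S)).map (frattini S).subtype ≤ M := by
    rw [map_le_iff_le_comap]
    refine Grp.frattini_le_of_elementary hp.out ?_ fun x => ?_
    · rw [commutator_def, commutator_le]
      intro a _ b _
      show (frattini S).subtype _ ∈ M
      rw [hmem, map_commutatorElement, map_commutatorElement]
      exact hb.wcomm _ (hw a.2) _ (hw b.2)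
    · show (frattini S).subtype _ ∈ M
      rw [hmem, map_pow, map_pow]
      exact hb.wpow _ (hw x.2)
  have hflat : p ≠ 3 → ⁅frattini S, (⊤ : Subgroup S)⁆ ≤ M := fun h3 => by
    rw [commutator_le]
    intro w hw' a _
    rw [hmem, map_commutatorElement]
    exact (hc.resolve_left h3).1 _ (hw hw') _ (T.ι_mem a)
  have hS₀ : szero p S ≤ M := by
    unfold szero
    split_ifs with h2 h3
    · exact sup_le (hflat (by omega)) hPhi2
    · refine sup_le ?_ hPhi2
      rw [commutator_le]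
      intro c hc' b _
      let D : Subgroup S :=
        { carrier := {c | ∀ b, ⁅c, b⁆ ∈ M}
          one_mem' := fun b => by simp [one_mem]
          mul_mem' := fun {x y} hx hy b => by
            rw [cmul_left]; exact mul_mem (hMn.conj_mem _ (hy b) x) (hx b)
          inv_mem' := fun {x} hx b => by
            rw [show ⁅x⁻¹, b⁆ = x⁻¹ * ⁅x, b⁆⁻¹ * x⁻¹⁻¹ by simp only [commutatorElement_def]; group]
            exact hMn.conj_mem _ (inv_mem (hx b)) _ }
      refine (commutator_le (H₃ := D)).mpr (fun w hw' a _ b => ?_) hc' b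
      rw [hmem, map_commutatorElement, map_commutatorElement]
      exact hb.deep _ (hw hw') _ (T.ι_mem a) _ (T.ι_mem b)
    · refine sup_le (hflat h3) ?_
      rw [Cfsg.powerClosure, closure_le]
      rintro _ ⟨x, -, rfl⟩
      rw [SetLike.mem_coe, hmem, pow_one, map_pow]
      exact (hc.resolve_left h3).2 h2 _ (T.ι_mem x)
  refine T.bad (PushUnique.normal_of_le_center ?_)
  show S₁.map T.ι ≤ center T.G
  rintro _ ⟨x, hx, rfl⟩
  exact hb.central _ ((T.mem_Z hs).mpr (cz_top_top (S := S) ▸ hS₁' hx)) ((hmem x).mp (hS₀ (hS₁ hx)))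

end Sit

/-- What a chain which cannot be continued gives in a situation. -/
def Sit.Escape (T : Sit p S₁ q) : Prop :=
  (∃ N W₁ : Subgroup T.G, Bounds T.P N W₁ ∧
    (p = 3 ∨ ((∀ w ∈ W₁, ∀ a ∈ (T.P : Subgroup T.G), ⁅w, a⁆ ∈ N) ∧
      (p ≠ 2 → ∀ a ∈ (T.P : Subgroup T.G), a ^ p ∈ N)))) ∧
  ∃ x ∈ (T.P : Subgroup T.G), x ∉ Cfsg.pCore p T.G ∧ QuadOn (Cfsg.pCore p T.G) x

/-- The chains always continue. -/
def Excl (p : ℕ) [Fact p.Prime] (S₁ : Subgroup S) (q : Prop) : Prop := ∀ T : Sit p S₁ q, T.Escape → False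

/-- A subgroup of the bound of the exceptional class lets the chains continue. -/
theorem excl_of_szero (hs : Std p (⊤ : Subgroup S)) (hS₁ : S₁ ≤ szero p S) (hS₁' : S₁ ≤ center S) :
    Excl p S₁ q := fun T h => by
  obtain ⟨⟨N, W₁, hb, hc⟩, -⟩ := h
  exact T.bad_of_bounds hs hS₁ hS₁' hb hc

/-- Without quadratic elements the chains continue. -/
theorem excl_of_hard (hq : q) : Excl p S₁ q := fun T h => by
  obtain ⟨-, x, hx, hxQ, hquad⟩ := h
  exact T.hard hq x hx hxQ hquad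

/-- Below every core, a member commutes with the join of two modules. -/
theorem AllQ.le_cz (hs : Std p (⊤ : Subgroup S)) {X : Subgroup S} (h : AllQ p S₁ q X) (Ti Tj : Sit p S₁ q) :
    X ≤ cz ⊤ (Ti.V ⊔ Tj.V) := by
  rw [cz_sup, Ti.cz_V hs, Tj.cz_V hs]
  exact le_inf (h Ti) (h Tj)

end Cfsg.Agent.Fus.GN
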