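import Mathlib
import Cfsg.Agent.Lib.Fus.GN.Basic

/-!
# Pairs for pushing up: the two fields of two elements
-/

set_option autoImplicit false
set_option linter.style.haveILetI false
set_option linter.unusedSectionVars false

namespace Cfsg.Agent.Fus.GN

open Subgroup Cfsg.Agent.Invol Cfsg.Agent.Invol.PushUp
open scoped commutatorElement

universe u

variable {S : Type u} [Group S] [Finite S] {p : ℕ} [hp : Fact p.Prime] {S₁ : Subgroup S} {q : Prop}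

theorem Sit.card_Z_Cz (hs : Std p (⊤ : Subgroup S)) (T : Sit p S₁ q) :
    Nat.card (Zs T.P) = Fintype.card T.F * Nat.card (Cz T.P) := (T.loc hs).nat.card_L

/-- Commutators of a member with a module whose conjugates stay in `C` are impossible. -/
theorem Sit.final (hs : Std p (⊤ : Subgroup S)) (Ti Tj : Sit p S₁ q) {C : Subgroup S}
    (hC : ∀ c ∈ C, c ∈ cz (⊤ : Subgroup S) ⊤ → Ti.ι c ∈ Cz Ti.P)
    {X : Subgroup S} (hXQj : X ≤ Tj.Q) (hXi : ¬ X ≤ Ti.Q) (hVij : Ti.V ≤ Tj.Q) (g : Tj.G)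
    (hg : ∀ h, Nm (Tj.P : Subgroup Tj.G) h → ∀ x ∈ X, ∀ v ∈ Ti.V,
      ∃ c ∈ C, Tj.ι c = (h * g) * Tj.ι ⁅x, v⁆ * (h * g)⁻¹)
    {U X₁ : Subgroup S} (hU : Mem ⊤ U) (hUn : NIn ⊤ U) (hUV : Tj.cj g Ti.V ≤ U)
    (hXm : Mem ⊤ X) (hVX : Tj.V ≤ X) (hX₁ : Mem ⊤ X₁) (hat : Atom ⊤ X₁ (Tj.cj g X))
    (hle : X₁ ≤ Tj.cj g X) (hU₁ : X₁ ≤ cz ⊤ U) (hcard : Nat.card X = Fintype.card Ti.F * Nat.card X₁) :
    False := by
  have hi := Ti.loc hs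
  have hj := Tj.loc hs
  obtain ⟨x, hx, hxQ⟩ := SetLike.not_le_iff_exists.mp hXi
  have hmove : ∀ v ∈ Ti.V, ⁅x, v⁆ ∈ cz (⊤ : Subgroup S) ⊤ := fun v hv => Ti.move hs x hv
  have hval : ∀ v ∈ Ti.V, v ∉ cz (⊤ : Subgroup S) ⊤ → Fintype.card Tj.F = 2 ∧ Tj.ι ⁅x, v⁆ ∉ Cz Tj.P ∧
      g * Tj.ι ⁅x, v⁆ * g⁻¹ ∈ Vz Tj.P ∧ g * Tj.ι ⁅x, v⁆ * g⁻¹ ∉ Zs Tj.P := by
    intro v hv hvZ
    refine (hj.twist (C.map Tj.ι) g ((Tj.mem_Z hs).mpr (hmove v hv)) fun n hn => ?_).resolve_left fun hc => ?_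
    · obtain ⟨c, hc, he⟩ := hg n hn x hx v hv
      exact ⟨c, hc, by rw [he]; group⟩
    · refine hvZ ((Ti.mem_Z hs).mp (hi.fix (Ti.ι_mem x) hxQ hv ?_))
      rw [← map_commutatorElement]
      exact hC _ (Tj.mem_map.mp hc) (hmove v hv)
  obtain ⟨v₀, hv₀, hv₀Z⟩ : ∃ v ∈ Ti.V, v ∉ cz (⊤ : Subgroup S) ⊤ := by
    by_contra hc
    push Not at hc
    have h1 := card_le_of_le (H := Ti.V) hc
    rw [Ti.card_V hs] at h1
    have := Nat.le_of_mul_le_mul_right (h1.trans (one_mul _).ge) Nat.card_pos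
    exact absurd this (not_le.mpr Fintype.one_lt_card)
  obtain ⟨hqj, hr₀, hgV, hgZ⟩ := hval v₀ hv₀ hv₀Z
  -- one coset only
  have hone : ∀ v ∈ Ti.V, v ∉ cz (⊤ : Subgroup S) ⊤ → v * v₀⁻¹ ∈ cz (⊤ : Subgroup S) ⊤ := by
    intro v hv hvZ
    by_contra hd
    obtain ⟨-, h1, -, -⟩ := hval _ (mul_mem hv (inv_mem hv₀)) hd
    obtain ⟨-, h2, -, -⟩ := hval v hv hvZ
    refine h1 ?_
    have he : ⁅x, v⁆ = ⁅x, v * v₀⁻¹⁆ * ⁅x, v₀⁆ := by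
      rw [← comm_Z_right (hmove v₀ hv₀), inv_mul_cancel_right]
    rw [show ⁅x, v * v₀⁻¹⁆ = ⁅x, v⁆ * ⁅x, v₀⁆⁻¹ by rw [he, mul_inv_cancel_right], map_mul, map_inv]
    exact (index_two hj.Cz_le_Zs (hqj ▸ Tj.card_Z_Cz hs) ((Tj.mem_Z hs).mpr (hmove v hv))
      ((Tj.mem_Z hs).mpr (hmove v₀ hv₀)) h2 hr₀).1
  have hqi : Fintype.card Ti.F = 2 := by
    classical
    refine le_antisymm ?_ Fintype.one_lt_card
    have h1 : Nat.card Ti.V ≤ Nat.card ((cz (⊤ : Subgroup S) ⊤ : Subgroup S) × Bool) := by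
      refine Nat.card_le_card_of_injective (fun v : Ti.V => if hv : (v : S) ∈ cz (⊤ : Subgroup S) ⊤
        then (⟨v, hv⟩, false) else (⟨(v : S) * v₀⁻¹, hone v v.2 hv⟩, true)) fun a b hab => ?_
      dsimp only at hab
      split_ifs at hab with ha hb hb <;> simp only [Prod.mk.injEq, Subtype.mk.injEq, mul_left_inj,
        reduceCtorEq, and_true, and_false] at hab
      · exact Subtype.ext hab
      · exact Subtype.ext hab
    rw [Ti.card_V hs, Nat.card_prod, mul_comm (Nat.card (cz (⊤ : Subgroup S) ⊤ : Subgroup S))] at h1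
    have := Nat.le_of_mul_le_mul_right h1 Nat.card_pos
    simpa using this
  -- the two kernels
  have hX'Q : Tj.cj g X ≤ Tj.Q := Tj.cj_le_Q hXQj
  have hX'm : Mem ⊤ (Tj.cj g X) := Tj.cj_mem hs hXm hVX hXQj
  have hinf : Tj.cj g X ⊓ cz ⊤ U = X₁ := by
    refine (hat _ (hX'm.inf hU.cz) (le_inf hle hU₁) inf_le_left).resolve_right fun he => hxQ ?_
    show x ∈ Ti.Q
    rw [← Ti.cz_V hs]
    refine mem_cz.mpr ⟨mem_top _, fun v hv => ?_⟩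
    have h1 : ∀ a ∈ Tj.cj g X, ∀ b ∈ Tj.cj g Ti.V, a * b = b * a := fun a ha b hb =>
      ((mem_cz.mp (he.ge.trans inf_le_right ha)).2 b (hUV hb)).symm
    have h2 := Tj.cj_comm (g := g⁻¹) h1
    rw [Tj.cj_inv_cj hXQj, Tj.cj_inv_cj hVij] at h2
    exact (h2 x hx v hv).symm
  obtain ⟨x', hx', hxe⟩ := Tj.cj_elem (g := g) hXQj hx
  obtain ⟨v', hv', hve⟩ := Tj.cj_elem (g := g) hVij hv₀
  have hcomm : ⁅Tj.ι x', Tj.ι v'⁆ = g * Tj.ι ⁅x, v₀⁆ * g⁻¹ := by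
    rw [hxe, hve, map_commutatorElement, GN.conj_comm]
  refine hj.two_kernels hqj (Tj.map_mem hU) (Tj.map_nin hUn) (Tj.map_mem hX'm) ?_
    (mem_map_of_mem _ hx') (mem_map_of_mem _ (hUV hv')) (hcomm ▸ hgV) (hcomm ▸ hgZ)
  rw [← Tj.map_cz, ← Subgroup.map_inf _ _ _ Tj.ι_inj, card_map_of_injective Tj.ι_inj,
    card_map_of_injective Tj.ι_inj, Tj.card_cj hXQj, hinf, hcard, hqi]

end Cfsg.Agent.Fus.GN
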