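import Mathlib
import Cfsg.Agent.Lib.Fus.GN.ShortWide
import Cfsg.Agent.Lib.Fus.GN.Quad

/-!
# Pairs for pushing up: forced chains of length one need three
-/

set_option autoImplicit false
set_option linter.style.haveILetI false
set_option linter.unusedSectionVars false

namespace Cfsg.Agent.Fus.GN

open Subgroup Cfsg.Agent.Invol Cfsg.Agent.Invol.PushUp
open Cfsg.Agent.Grp.SL2 (up low)
open Cfsg.Agent.Invol.Nat2 (dg)
open scoped commutatorElement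

universe u

variable {G : Type u} [Group G] [Finite G] {p : ℕ} [hp : Fact p.Prime]
variable {P : Sylow p G} {F : Type} [Field F] [Fintype F] {fr : Frame P F} (h : Loc fr)
include h

/-- If every element of `P` outside `C_P(W)` moves `X` modulo `W`, then `p = 3`. -/
theorem Loc.forced_three {W X R Y D : Subgroup G} (d : ShortData fr W X) (f : ShortFacts fr W X R)
    (e : WideFacts fr W X R Y D) (hn : ¬ (Vz P ⊔ W).Normal)
    (hF : ∀ a ∈ (P : Subgroup G), a ∉ cz (P : Subgroup G) W → ∀ x ∈ X, x ∉ Cfsg.pCore p G → ⁅a, x⁆ ∉ W) :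
    p = 3 := by
  classical
  haveI hQn := Frame.Q_normal (G := G) (p := p)
  haveI hVn := h.Vz_normal
  haveI := e.Y_normal
  have hQP : Cfsg.pCore p G ≤ (P : Subgroup G) := Frame.Q_le_S
  obtain ⟨M, hM⟩ : ∃ M, M = Vz P ⊔ W := ⟨_, rfl⟩
  obtain ⟨M', hM'⟩ : ∃ M', M' = cj fr.w M := ⟨_, rfl⟩
  have hVM : Vz P ≤ M := hM ▸ le_sup_left
  have hMY : M ≤ Y := hM ▸ e.M_Y
  have hM'Y : M' ≤ Y := hM' ▸ hM ▸ e.M'_Y
  have hM'R : M' ⊓ R = Vz P := hM' ▸ hM ▸ e.M'_R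
  have hMove : ∀ s ∈ (P : Subgroup G), ∀ a ∈ M, ⁅s, a⁆ ∈ Zs P := fun s hs a ha => e.M_move s hs a (hM ▸ ha)
  have hVM' : Vz P ≤ M' := hM' ▸ (cj_normal fr.w hVn).ge.trans (cj_mono hVM)
  have hM'P : M' ≤ (P : Subgroup G) := hM'Y.trans (e.Y_Q.trans hQP)
  obtain ⟨y₀, hy₀, hy₀V⟩ : ∃ y ∈ M', y ∉ Vz P := by
    by_contra hc
    push Not at hc
    refine hn ?_
    rw [← hM]
    have h1 : M ≤ Vz P := by
      have h2 := cj_mono (g := fr.w⁻¹) (show M' ≤ Vz P from hc)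
      rwa [hM', cj_inv_cj, cj_normal _ hVn] at h2
    rw [le_antisymm h1 hVM]; exact hVn
  have houtW : ∀ y ∈ M', y ∉ Vz P → y ∉ cz (P : Subgroup G) W := fun y hy hyV hc =>
    hyV (hM'R.le ⟨hy, f.R_inf ▸ Subgroup.mem_inf.mpr ⟨e.Y_Q (hM'Y hy), hc⟩⟩)
  obtain ⟨x, hx, hxQ⟩ := SetLike.not_le_iff_exists.mp d.X_Q
  have hxP := d.X_mem.le hx
  have hXY : ∀ y ∈ Y, ⁅x, y⁆ ∈ M := fun y hy => hM ▸ e.XY x hx y hy
  have hMdec : ∀ m ∈ M, ∃ v ∈ Vz P, ∃ w ∈ W, v * w = m := fun m hm => h.V_mem.exists_mul d.W_mem (hM ▸ hm)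
  -- commuting with `x` modulo `Cz` forces membership in `W`
  have hkey : ∀ m ∈ M, ⁅x, m⁆ ∈ Cz P → m ∈ W := by
    intro m hm hc
    obtain ⟨v, hv, w, hw, rfl⟩ := hMdec m hm
    rw [comm_right_drop ((mem_cz.mp (d.X_W hx)).2 w hw).symm] at hc
    exact mul_mem (h.Z_le_of_mem d.W_mem (h.fix hxP hxQ hv hc)) hw
  have hnot : ∀ y ∈ M', y ∉ Vz P → ⁅x, ⁅x, y⁆⁆ ∉ Cz P := fun y hy hyV hc => by
    have h1 := hkey _ (hXY y (hM'Y hy)) hc
    refine hF y (hM'P hy) (houtW y hy hyV) x hx hxQ ?_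
    rw [← commutatorElement_inv]; exact inv_mem h1
  by_cases hp2 : p = 2
  · exfalso
    refine hnot y₀ hy₀ hy₀V ?_
    have hxx : x * x = 1 := by have := d.X_exp x hx; rwa [hp2, sq] at this
    have hx2 : x⁻¹ = x := inv_eq_of_mul_eq_one_left hxx
    have he2 := e.M_exp _ (hM ▸ hXY y₀ (hM'Y hy₀))
    rw [hp2, sq] at he2
    have h1 : x * ⁅x, y₀⁆ * x⁻¹ = ⁅x, y₀⁆ := by
      have h2 : x * ⁅x, y₀⁆ * x⁻¹ = ⁅x, y₀⁆⁻¹ := by
        simp only [commutatorElement_def, mul_inv_rev, inv_inv, hx2]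
        calc x * (x * y₀ * x * y₀⁻¹) * x = x * x * (y₀ * x * y₀⁻¹ * x) := by group
          _ = y₀ * x * y₀⁻¹ * x := by rw [hxx, one_mul]
          _ = _ := by group
      rw [h2, inv_eq_of_mul_eq_one_left he2]
    rw [(comm_one_iff _ _).mpr (mul_inv_eq_iff_eq_mul.mp h1)]
    exact one_mem _
  by_contra hp3
  haveI hCh := h.charP
  have hCzV : Cz P ≤ Vz P := h.Cz_le_Zs.trans h.v.Z_le
  have hMP : M ≤ (P : Subgroup G) := hMY.trans (e.Y_Q.trans hQP)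
  -- the value
  let T : G → G → F := fun a m => h.co ⁅a, m⁆ 0
  have hTQ : ∀ k ∈ Cfsg.pCore p G, ∀ m ∈ M, T k m = 0 := fun k hk m hm => by
    show h.co _ 0 = 0
    rw [(h.co_eq_zero (hCzV (e.QY k hk m (hMY hm)))).mpr (e.QY k hk m (hMY hm))]; rfl
  have hTV : ∀ a ∈ (P : Subgroup G), ∀ m ∈ M, ⁅a, m⁆ ∈ Vz P := fun a ha m hm => h.v.Z_le (hMove a ha m hm)
  have hTl : ∀ a ∈ (P : Subgroup G), ∀ b ∈ (P : Subgroup G), ∀ m ∈ M, T (a * b) m = T a m + T b m := by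
    intro a ha b hb m hm
    show h.co _ 0 = h.co _ 0 + h.co _ 0
    rw [cmul_left, h.comm_Z ha (hMove b hb m hm), mul_inv_cancel_right, h.co_mul (hTV b hb m hm) (hTV a ha m hm),
      Pi.add_apply, add_comm]
  have hTr : ∀ a ∈ (P : Subgroup G), ∀ m ∈ M, ∀ m' ∈ M, T a (m * m') = T a m + T a m' := by
    intro a ha m hm m' hm'
    show h.co _ 0 = h.co _ 0 + h.co _ 0
    rw [cmul_right, h.comm_Z (hMP hm) (hMove a ha m' hm'), mul_inv_cancel_right,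
      h.co_mul (hTV a ha m hm) (hTV a ha m' hm'), Pi.add_apply]
  have hTz : ∀ a ∈ (P : Subgroup G), ∀ z ∈ Zs P, T a z = 0 := fun a ha z hz => by
    show h.co _ 0 = 0
    rw [(comm_one_iff _ _).mpr (h.comm_Z ha hz), h.co_one]; rfl
  have hzM : ∀ z ∈ Zs P, z ∈ M := fun z hz => hVM (h.v.Z_le hz)
  -- additivity of the double value in the second place
  have hTy : ∀ y ∈ Y, ∀ y' ∈ Y, T x ⁅x, y * y'⁆ = T x ⁅x, y⁆ + T x ⁅x, y'⁆ := by
    intro y hy y' hy'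
    have hc : ⁅y, ⁅x, y'⁆⁆ ∈ Cz P := e.QY y (e.Y_Q hy) _ (hMY (hXY y' hy'))
    rw [cmul_right, show y * ⁅x, y'⁆ * y⁻¹ = ⁅y, ⁅x, y'⁆⁆ * ⁅x, y'⁆ by simp only [commutatorElement_def]; group,
      hTr x hxP _ (hXY y hy) _ (mul_mem (hzM _ (h.Cz_le_Zs hc)) (hXY y' hy')),
      hTr x hxP _ (hzM _ (h.Cz_le_Zs hc)) _ (hXY y' hy'), hTz x hxP _ (h.Cz_le_Zs hc), zero_add]
  -- the second section
  have hcardM' : Nat.card M' = Nat.card M := hM' ▸ card_cj _ _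
  have hMM' : M ⊓ M' = Vz P := by
    refine le_antisymm ?_ (le_inf hVM hVM')
    rw [← hM'R]
    exact le_inf inf_le_right (inf_le_left.trans (hM ▸ e.M_R))
  obtain ⟨π, hπ⟩ : ∃ π, π = QuotientGroup.mk' (Vz P) := ⟨_, rfl⟩
  have hπ1 : ∀ g, π g = 1 ↔ g ∈ Vz P := fun g => hπ ▸ QuotientGroup.eq_one_iff g
  have hline : IsLineSection fr Y M (Vz P) := by
    refine ⟨e.Y_normal, hVn, hVM, hMY, fun a ha b hb => hCzV (e.QY a (e.Y_Q ha) b hb),
      fun a ha b hb => hCzV (e.QY a ha b hb), fun s hs m hm => h.v.Z_le (hMove s hs m hm), ?_, ?_, ?_, ?_⟩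
    · intro s hs y hy
      obtain ⟨x', hx', q, hq, rfl⟩ := d.X_mem.exists_mul h.Q_mem ((h.sup_core d.X_mem d.X_Q).ge hs)
      rw [cmul_left]
      exact mul_mem (hVM (hVn.conj_mem _ (hCzV (e.QY q hq y hy)) x')) (hM ▸ e.XY x' hx' y hy)
    · intro m hm hall
      refine hMM'.le (Subgroup.mem_inf.mpr ⟨hm, ?_⟩)
      rw [hM', mem_cj]
      have h1 := mul_mem (hVM (hall fr.w⁻¹)) hm
      convert h1 using 1
      simp only [commutatorElement_def]; group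
    · rw [card_eq_map_mul (Vz P) M hVM]
      refine Nat.mul_le_mul_right _ ?_
      rw [← Nat.card_eq_fintype_card]
      have hmv : ∀ t, π ⁅fr.σ t, y₀⁆ ∈ M.map π := fun t => by
        obtain ⟨x', hx', q, hq, he⟩ := d.X_mem.exists_mul h.Q_mem ((h.sup_core d.X_mem d.X_Q).ge (fr.σ_mem t))
        refine ⟨_, ?_, rfl⟩
        rw [← he, cmul_left]
        exact mul_mem (hVM (hVn.conj_mem _ (hCzV (e.QY q hq y₀ (hM'Y hy₀))) x')) (hM ▸ e.XY x' hx' y₀ (hM'Y hy₀))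
      rw [← hπ]
      refine Nat.card_le_card_of_injective (fun t => (⟨π ⁅fr.σ t, y₀⁆, hmv t⟩ : M.map π)) fun t u hh => ?_
      have he : π ⁅fr.σ t, y₀⁆ = π ⁅fr.σ u, y₀⁆ := congrArg Subtype.val hh
      by_contra hne
      obtain ⟨a, ha⟩ : ∃ a, a = (fr.σ u)⁻¹ * fr.σ t := ⟨_, rfl⟩
      have haQ : a ∉ Cfsg.pCore p G := by
        intro haQ'
        refine hne ?_
        have h1 := fr.σ_add u (t - u)
        rw [add_sub_cancel] at h1
        have h2 : fr.σ (t - u) ∈ Cfsg.pCore p G := by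
          have h3 := mul_mem haQ' h1
          rwa [ha, show (fr.σ u)⁻¹ * fr.σ t * ((fr.σ t)⁻¹ * (fr.σ u * fr.σ (t - u))) = fr.σ (t - u) by group] at h3
        exact sub_eq_zero.mp (fr.σ_eq_zero _ h2)
      let H : Subgroup G :=
        { carrier := {g | ⁅g, y₀⁆ ∈ Vz P}
          one_mem' := by simp [one_mem]
          mul_mem' := by
            intro g g' (hg : ⁅g, y₀⁆ ∈ Vz P) (hg' : ⁅g', y₀⁆ ∈ Vz P)
            show ⁅g * g', y₀⁆ ∈ Vz P
            rw [cmul_left]; exact mul_mem (hVn.conj_mem _ hg' g) hg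
          inv_mem' := by
            intro g (hg : ⁅g, y₀⁆ ∈ Vz P)
            show ⁅g⁻¹, y₀⁆ ∈ Vz P
            rw [show ⁅g⁻¹, y₀⁆ = g⁻¹ * ⁅g, y₀⁆⁻¹ * g⁻¹⁻¹ by simp only [commutatorElement_def]; group]
            exact hVn.conj_mem _ (inv_mem hg) _ }
      have haH : a ∈ H := by
        show ⁅a, y₀⁆ ∈ Vz P
        have h1 : ⁅a, y₀⁆ = (fr.σ u)⁻¹ * (⁅fr.σ t, y₀⁆ * ⁅fr.σ u, y₀⁆⁻¹) * (fr.σ u)⁻¹⁻¹ := by
          rw [ha]; simp only [commutatorElement_def]; group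
        rw [h1]
        refine hVn.conj_mem _ ((hπ1 _).mp ?_) _
        rw [map_mul, map_inv, he, mul_inv_cancel]
      have htop : H = ⊤ := fr.gen a (ha ▸ mul_mem (inv_mem (fr.σ_mem u)) (fr.σ_mem t)) haQ fr.w fr.w_not H haH
        fun s hs => by
          show ⁅fr.w * s * fr.w⁻¹, y₀⁆ ∈ Vz P
          rw [show ⁅fr.w * s * fr.w⁻¹, y₀⁆ = fr.w * ⁅s, fr.w⁻¹ * y₀ * fr.w⁆ * fr.w⁻¹ by
            simp only [commutatorElement_def]; group]
          exact h.conj_Vz _ (h.v.Z_le (hMove s hs _ (mem_cj.mp (hM' ▸ hy₀))))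
      have h1 : ⁅fr.w⁻¹, y₀⁆ ∈ Vz P := htop.ge (mem_top _)
      refine hy₀V (hMM'.le (Subgroup.mem_inf.mpr ⟨?_, hy₀⟩))
      have h2 := mul_mem (inv_mem (hVM h1)) (mem_cj.mp (hM' ▸ hy₀))
      convert h2 using 1
      simp only [commutatorElement_def]; group
    · have hM'card : Nat.card M' ≤ Fintype.card F * Nat.card (Vz P) := by
        let ψ : M' →* Multiplicative F :=
          { toFun := fun y => Multiplicative.ofAdd (T x ⁅x, (y : G)⁆)
            map_one' := congrArg Multiplicative.ofAdd (by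
              rw [OneMemClass.coe_one, commutatorElement_one_right]; exact hTz x hxP 1 (one_mem _))
            map_mul' := fun a b => congrArg Multiplicative.ofAdd (hTy a (hM'Y a.2) b (hM'Y b.2)) }
        have h1 := Subgroup.card_mul_index ψ.ker
        rw [Subgroup.index_ker, mul_comm] at h1
        refine h1.ge.trans (Nat.mul_le_mul ?_ ?_)
        · refine (card_le_card_group _).trans (le_of_eq ?_)
          rw [Nat.card_congr Multiplicative.toAdd, Nat.card_eq_fintype_card]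
        · rw [← Nat.card_congr (subgroupOfEquivOfLe hVM').toEquiv]
          refine card_le_of_le fun y hy => ?_
          rw [Subgroup.mem_subgroupOf]
          by_contra hyV
          refine hnot y y.2 hyV ?_
          have hz := hMove x hxP _ (hXY y (hM'Y y.2))
          refine (h.co_eq_zero (h.v.Z_le hz)).mp (funext fun i => ?_)
          fin_cases i
          · exact Multiplicative.ofAdd.injective (MonoidHom.mem_ker.mp hy)
          · exact (h.co_one_eq (h.v.Z_le hz)).mpr hz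
      have h1 := (show Mem (P : Subgroup G) M from hM ▸ h.V_mem.sup d.W_mem).card_sup
        (h.cj_mem (hM ▸ h.V_mem.sup d.W_mem) hVM (hMY.trans e.Y_Q) fr.w)
      rw [← hM', hMM'] at h1
      have hYeq : M ⊔ M' = Y := le_antisymm (sup_le hMY hM'Y) fun y hy => by
        obtain ⟨m, hm, m', hm', rfl⟩ := e.Y_dec y hy
        exact mul_mem (mem_sup_left (hM ▸ hm)) (mem_sup_right (hM' ▸ hM ▸ hm'))
      rw [hYeq] at h1
      refine Nat.le_of_mul_le_mul_right (h1.le.trans ?_) Nat.card_pos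
      calc Nat.card M * Nat.card M' ≤ Nat.card M * (Fintype.card F * Nat.card (Vz P)) := Nat.mul_le_mul_left _ hM'card
        _ = _ := by ring
  obtain ⟨ρ', hρ'⟩ := hline.natural_section fr
  have hρρ : ρ' = h.rho := hρ'.std.unique h.nat.std
  obtain ⟨ψ, hψm, hψ0, hψc⟩ := hρ'.coords
  have h2F : (2 : F) ≠ 0 := Cfsg.Agent.Grp.SL2.two_ne_zero' p hp2
  obtain ⟨g, hg, hρg⟩ := h.rho_normalizer (b := dg (2 : F) h2F) (by rw [mem_bor]; simp [dg])
  obtain ⟨y', hy'⟩ : ∃ y', y' = g * y₀ * g⁻¹ := ⟨_, rfl⟩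
  have hy₀Y := hM'Y hy₀
  have hy'Y : y' ∈ Y := hy' ▸ e.Y_normal.conj_mem y₀ hy₀Y g
  have hψinv : ∀ u ∈ Y, ψ u⁻¹ = - ψ u := fun u hu => by
    have h1 := hψm u⁻¹ (inv_mem hu) u hu
    rw [inv_mul_cancel, (hψ0 1 (one_mem _)).mpr (one_mem _)] at h1
    exact eq_neg_of_add_eq_zero_left h1.symm
  have hmM : y₀⁻¹ * (y' * y') ∈ M := by
    have hmY : y₀⁻¹ * (y' * y') ∈ Y := mul_mem (inv_mem hy₀Y) (mul_mem hy'Y hy'Y)
    refine hρ'.fix (fr.σ 1) (fr.σ_mem 1) (fun h' => one_ne_zero (fr.σ_eq_zero 1 h')) _ hmY ?_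
    have hcY : fr.σ 1 * (y₀⁻¹ * (y' * y')) * (fr.σ 1)⁻¹ ∈ Y := e.Y_normal.conj_mem _ hmY _
    refine (hψ0 _ ?_).mp ?_
    · rw [commutatorElement_def]; exact mul_mem hcY (inv_mem hmY)
    · rw [commutatorElement_def, hψm _ hcY _ (inv_mem hmY), hψinv _ hmY, hψc _ _ hmY, hρρ, h.nat.std.up',
        hψm _ (inv_mem hy₀Y) _ (mul_mem hy'Y hy'Y), hψinv _ hy₀Y, hψm _ hy'Y _ hy'Y, hy', hψc _ _ hy₀Y, hρρ, hρg]
      ext i
      fin_cases i <;> simp [up, dg, Matrix.mulVec, dotProduct, Fin.sum_univ_two]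
      simp only [Matrix.vecHead, Matrix.vecTail, Function.comp_apply]
      have hh : (2 : F)⁻¹ + 2⁻¹ = 1 := by rw [← two_mul, mul_inv_cancel₀ h2F]
      simp only [Fin.succ_zero_eq_one]
      · linear_combination (ψ y₀ 1) * hh
      · ring
  have hT2 : T x ⁅x, y₀⁆ = 2 * T x ⁅x, y'⁆ := by
    have h1 := hTy y₀ hy₀Y _ (hMY hmM)
    rw [mul_inv_cancel_left, hTy y' hy'Y y' hy'Y, hTz x hxP _ (hMove x hxP _ hmM), add_zero] at h1
    rw [← h1]; ring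
  -- iterates
  obtain ⟨s, hsdef⟩ : ∃ s, s = g * x * g⁻¹ := ⟨_, rfl⟩
  have hsP : s ∈ (P : Subgroup G) := hsdef ▸ hg x hxP
  have hk : (x ^ 4)⁻¹ * s ∈ Cfsg.pCore p G := by
    obtain ⟨t, ht⟩ := h.rho_P hxP
    refine (h.mem_core_iff (mul_mem (inv_mem (pow_mem hxP 4)) hsP)).mpr ?_
    rw [hsdef, map_mul, map_inv, map_pow, map_mul, map_mul, map_inv, hρg, ht, Nat2.dg_up, mul_inv_cancel_right,
      inv_mul_eq_one, Cfsg.Agent.Grp.SL2.up_pow]
    congr 1; push_cast; ring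
  obtain ⟨k, hkdef⟩ : ∃ k, k = (x ^ 4)⁻¹ * s := ⟨_, rfl⟩
  rw [← hkdef] at hk
  have hse : s = x ^ 4 * k := by rw [hkdef]; group
  have hTs : ∀ m ∈ M, T s m = 4 * T x m := by
    intro m hm
    have hxk : ∀ n : ℕ, T (x ^ n) m = n * T x m := by
      intro n
      induction n with
      | zero =>
        show h.co _ 0 = _
        rw [pow_zero, commutatorElement_one_left, h.co_one]; simp
      | succ n ih => rw [pow_succ, hTl _ (pow_mem hxP n) _ hxP m hm, ih]; push_cast; ring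
    rw [hse, hTl _ (pow_mem hxP 4) _ (hQP hk) m hm, hTQ k hk m hm, hxk, add_zero]; norm_num
  have hstep : ∀ n : ℕ, ⁅x ^ n, y'⁆ ∈ M ∧ T x ⁅x ^ n, y'⁆ = n * T x ⁅x, y'⁆ := by
    intro n
    induction n with
    | zero =>
      simp only [pow_zero, commutatorElement_one_left]
      exact ⟨one_mem _, by rw [hTz x hxP 1 (one_mem _)]; simp⟩
    | succ n ih =>
      obtain ⟨ih1, ih2⟩ := ih
      have hz := hMove x hxP _ ih1
      have he : ⁅x ^ (n + 1), y'⁆ = ⁅x, ⁅x ^ n, y'⁆⁆ * ⁅x ^ n, y'⁆ * ⁅x, y'⁆ := by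
        rw [pow_succ', cmul_left]; simp only [commutatorElement_def]; group
      refine ⟨he ▸ mul_mem (mul_mem (hzM _ hz) ih1) (hXY y' hy'Y), ?_⟩
      rw [he, hTr x hxP _ (mul_mem (hzM _ hz) ih1) _ (hXY y' hy'Y), hTr x hxP _ (hzM _ hz) _ ih1, hTz x hxP _ hz, ih2]
      push_cast; ring
  have hsy : ⁅s, y'⁆ ∈ M ∧ T x ⁅s, y'⁆ = 4 * T x ⁅x, y'⁆ := by
    have hc : x ^ 4 * ⁅k, y'⁆ * (x ^ 4)⁻¹ ∈ Cz P := (inferInstance : (Cz P).Normal).conj_mem _ (e.QY k hk y' hy'Y) _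
    rw [hse, cmul_left]
    refine ⟨mul_mem (hzM _ (h.Cz_le_Zs hc)) (hstep 4).1, ?_⟩
    rw [hTr x hxP _ (hzM _ (h.Cz_le_Zs hc)) _ (hstep 4).1, hTz x hxP _ (h.Cz_le_Zs hc), (hstep 4).2, zero_add]
    norm_num
  have hzz := hMove x hxP _ (hXY y₀ hy₀Y)
  have hmain : h.co (g * ⁅x, ⁅x, y₀⁆⁆ * g⁻¹) 0 = 2 * T x ⁅x, y₀⁆ := by
    rw [h.co_conj g (h.v.Z_le hzz), hρg]
    simp [T, dg, Matrix.mulVec, dotProduct, Fin.sum_univ_two, (h.co_one_eq (h.v.Z_le hzz)).mpr hzz]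
  rw [conj_comm, conj_comm, ← hsdef, ← hy'] at hmain
  have hA : T s ⁅s, y'⁆ = 2 * T x ⁅x, y₀⁆ := hmain
  rw [hTs _ hsy.1, hsy.2] at hA
  have h6 : (12 : F) * T x ⁅x, y'⁆ = 0 := by linear_combination hA + 2 * hT2
  have h12 : (12 : F) ≠ 0 := by
    rw [show (12 : F) = ((12 : ℕ) : F) by norm_num, Ne, CharP.cast_eq_zero_iff F p]
    intro hdvd
    rcases (Nat.Prime.dvd_mul hp.out).mp (show p ∣ 4 * 3 from hdvd) with h4 | h3
    · exact hp2 ((Nat.prime_dvd_prime_iff_eq hp.out Nat.prime_two).mp (hp.out.dvd_of_dvd_pow (show p ∣ 2 ^ 2 from h4)))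
    · exact hp3 ((Nat.prime_dvd_prime_iff_eq hp.out Nat.prime_three).mp h3)
  have hzero : T x ⁅x, y₀⁆ = 0 := by rw [hT2, (mul_eq_zero.mp h6).resolve_left h12, mul_zero]
  refine hnot y₀ hy₀ hy₀V ((h.co_eq_zero (h.v.Z_le hzz)).mp (funext fun i => ?_))
  fin_cases i
  · exact hzero
  · exact (h.co_one_eq (h.v.Z_le hzz)).mpr hzz

/-- A chain of length one: the commutators of `R` lie in a normal subgroup meeting the fixed line centrally. -/
theorem Loc.short_RR {W X R : Subgroup G} (d : ShortData fr W X) (f : ShortFacts fr W X R) :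
    ∃ N : Subgroup G, N.Normal ∧ (∀ z ∈ Zs P, z ∈ N → z ∈ center G) ∧ ∀ a ∈ R, ∀ b ∈ R, ⁅a, b⁆ ∈ N := by
  by_cases hn : (Vz P ⊔ W).Normal
  · exact h.dead_RR d f hn
  · obtain ⟨Y, D, e⟩ := h.wide_facts d f hn
    exact h.wide_RR d f e

/-- A forced chain of length one: `X` is normalised by `P`, or `p = 3` and the Frattini part is bounded. -/
theorem Loc.short_forced {W X : Subgroup G} (d : ShortData fr W X)
    (hF : ∀ a ∈ (P : Subgroup G), a ∉ cz (P : Subgroup G) W → ∀ x ∈ X, x ∉ Cfsg.pCore p G → ⁅a, x⁆ ∉ W) :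
    NIn (P : Subgroup G) X ∨ (p = 3 ∧ (∃ N W₁, Bounds P N W₁) ∧
      ∃ x ∈ (P : Subgroup G), x ∉ Cfsg.pCore p G ∧ QuadOn (Cfsg.pCore p G) x) := by
  obtain ⟨R, f⟩ := h.short_facts d
  by_cases hn : (Vz P ⊔ W).Normal
  · exact Or.inl (h.dead_nin d f hn)
  · obtain ⟨Y, D, e⟩ := h.wide_facts d f hn
    obtain ⟨x, hx, hxQ⟩ := SetLike.not_le_iff_exists.mp d.X_Q
    exact Or.inr ⟨h.forced_three d f e hn hF, ⟨_, _, h.wide_bounds d f e⟩, x, d.X_mem.le hx, hxQ,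
      h.quadOn_wide d f e hx⟩

end Cfsg.Agent.Fus.GN
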