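import Mathlib
import Cfsg.Agent.Lib.Fus.GN.Final
import Cfsg.Agent.Lib.Fus.GN.Long
import Cfsg.Agent.Lib.Fus.GN.ShortForced

/-!
# Pairs for pushing up: every reached member lies in every core
-/

set_option autoImplicit false
set_option linter.style.haveILetI false
set_option linter.unusedSectionVars false

namespace Cfsg.Agent.Fus.GN

open Subgroup Cfsg.Agent.Invol Cfsg.Agent.Invol.PushUp
open scoped commutatorElement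

universe u

variable {S : Type u} [Group S] [Finite S] {p : ℕ} [hp : Fact p.Prime] {S₁ : Subgroup S} {q : Prop}

section

variable (hs : Std p (⊤ : Subgroup S)) (hS₁ : Excl p S₁ q) (hS₁' : S₁ ≤ center S)
include hs

theorem Sit.map_exp (T : Sit p S₁ q) {X : Subgroup S} (h : ∀ a ∈ X, a ^ p = 1) : ∀ a ∈ X.map T.ι, a ^ p = 1 := by
  rintro _ ⟨a, ha, rfl⟩; rw [← map_pow, h a ha, map_one]

theorem Sit.map_comm (T : Sit p S₁ q) {X : Subgroup S} (h : ∀ a ∈ X, ∀ b ∈ X, a * b = b * a) :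
    ∀ a ∈ X.map T.ι, ∀ b ∈ X.map T.ι, a * b = b * a := by
  rintro _ ⟨a, ha, rfl⟩ _ ⟨b, hb, rfl⟩; rw [← map_mul, ← map_mul, h a ha b hb]

/-- The module of one group meets that of another in the fixed points, once their cores differ. -/
theorem Sit.inf_V (Ti Tj : Sit p S₁ q) (hne : ¬ Tj.Q ≤ Ti.Q) : Tj.V ⊓ Ti.V = cz ⊤ ⊤ := by
  refine (Ti.atom hs _ ((Tj.V_mem hs).inf (Ti.V_mem hs)) (le_inf (Tj.V_mem hs).Z_le (Ti.V_mem hs).Z_le)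
    inf_le_right).resolve_right fun he => hne ?_
  rw [← Ti.cz_V hs, ← Tj.cz_V hs]
  exact cz_anti (he.ge.trans inf_le_left)

theorem Sit.zs_map (T : Sit p S₁ q) {a b : S} (h : ⁅a, b⁆ ∈ cz (⊤ : Subgroup S) ⊤) :
    ⁅T.ι a, T.ι b⁆ ∈ Zs T.P := by
  rw [← map_commutatorElement]; exact (T.mem_Z hs).mpr h

include hS₁ hS₁'

theorem chain_zero (Ti Tj : Sit p S₁ q) : Tj.V ≤ Ti.Q := by
  by_contra hc
  obtain ⟨w, hw, hwQ⟩ := SetLike.not_le_iff_exists.mp hc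
  obtain ⟨N, W₁, hb, hflat, hpow⟩ := (Ti.loc hs).zero_bounds (Ti.map_mem (Tj.V_mem hs)) (Ti.map_nin Tj.V_nin)
    (Ti.map_comm hs fun a ha b hb => Tj.V_comm ha hb) (Ti.map_exp hs fun a ha => Tj.V_exp ha)
    (fun s hs' w hw => by
      obtain ⟨a, rfl⟩ := Ti.exists_ι hs'
      obtain ⟨v, hv, rfl⟩ := hw
      exact Ti.zs_map hs (Tj.move hs a hv))
    (fun M hM hMW => by
      have h := Ti.map_atom (Tj.atom hs) M hM
      rw [Ti.map_Z hs] at h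
      exact h ((Ti.loc hs).Z_le_of_mem hM) hMW)
    fun h => hc (Ti.le_Q.mp h)
  exact hS₁ Ti ⟨⟨N, W₁, hb, Or.inr ⟨hflat, hpow⟩⟩, Ti.ι w, Ti.ι_mem w, fun h => hwQ h,
    quadOn_of_abelian (Ti.map_nin Tj.V_nin) (Ti.map_comm hs fun a ha b hb => Tj.V_comm ha hb) (mem_map_of_mem _ hw)⟩

theorem atom_one (Ta Tj : Sit p S₁ q) (g : Tj.G) :
    Atom ⊤ Tj.V (Tj.cj g (Ta.V ⊔ Tj.V)) ∧ Tj.V ≤ Tj.cj g (Ta.V ⊔ Tj.V) := by
  have hQ : Ta.V ⊔ Tj.V ≤ Tj.Q := sup_le (chain_zero hs hS₁ hS₁' Tj Ta) Tj.V_le_Q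
  refine ⟨?_, Tj.V_le_cj le_sup_right⟩
  have h := (Ta.atom hs).sup (Ta.V_mem hs).Z_le (Ta.V_mem hs) (Tj.V_mem hs)
  rw [sup_eq_right.mpr (Tj.V_mem hs).Z_le] at h
  have h' := h.cj hs Tj g le_rfl le_sup_right hQ
  rwa [Tj.cj_V] at h'

theorem short_data (Ta Tj Ti : Sit p S₁ q) (g : Tj.G) (hX : ¬ Tj.cj g (Ta.V ⊔ Tj.V) ≤ Ti.Q) :
    ShortData Ti.fr (Tj.V.map Ti.ι) ((Tj.cj g (Ta.V ⊔ Tj.V)).map Ti.ι) := by
  obtain ⟨hat, hle⟩ := atom_one hs hS₁ hS₁' Ta Tj g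
  have hQ : Ta.V ⊔ Tj.V ≤ Tj.Q := sup_le (chain_zero hs hS₁ hS₁' Tj Ta) Tj.V_le_Q
  obtain ⟨hm, hcomm, hexp⟩ := (Reach.step Tj g (Reach.base Ta) fun T' => chain_zero hs hS₁ hS₁' T' Ta).facts hs
  have hXQj := Tj.cj_le_Q (g := g) hQ
  constructor
  · exact Ti.map_mem (Tj.V_mem hs)
  · exact Ti.map_nin Tj.V_nin
  · exact Ti.map_comm hs fun a ha b hb => Tj.V_comm ha hb
  · exact Ti.map_exp hs fun a ha => Tj.V_exp ha
  · exact Ti.le_Q.mpr (chain_zero hs hS₁ hS₁' Ti Tj)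
  · rintro s hs' _ ⟨w, hw, rfl⟩
    obtain ⟨a, rfl⟩ := Ti.exists_ι hs'
    exact Ti.zs_map hs (Tj.move hs a hw)
  · intro M hM hMW
    have h := Ti.map_atom (Tj.atom hs) M hM
    rw [Ti.map_Z hs] at h
    exact h ((Ti.loc hs).Z_le_of_mem hM) hMW
  · rw [← Ti.map_V, ← Subgroup.map_inf _ _ _ Ti.ι_inj, Sit.inf_V hs Ti Tj fun h => hX (hXQj.trans h), Ti.map_Z hs]
  · exact Ti.map_mem hm
  · exact Ti.map_comm hs hcomm
  · exact Ti.map_exp hs hexp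
  · rw [← Ti.map_cz, Tj.cz_V hs]; exact map_mono hXQj
  · exact fun h => hX (Ti.le_Q.mp h)
  · rw [← Ti.map_Q, ← Subgroup.map_inf _ _ _ Ti.ι_inj]
    refine congrArg _ ((hat _ (hm.inf (Ti.Q_mem hs)) (le_inf hle (chain_zero hs hS₁ hS₁' Ti Tj))
      inf_le_left).resolve_right fun he => hX (he.ge.trans inf_le_right))

/-- A conjugate out of the maximal subgroup stays in every core. -/
theorem no_wide (Ta Tj Ti : Sit p S₁ q) {g : Tj.G} (hg : g ∉ Tj.fr.M) : Tj.cj g (Ta.V ⊔ Tj.V) ≤ Ti.Q := by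
  by_contra hX
  have hVQ := chain_zero hs hS₁ hS₁'
  have hQ : Ta.V ⊔ Tj.V ≤ Tj.Q := sup_le (hVQ Tj Ta) Tj.V_le_Q
  have hMQi : Ta.V ⊔ Tj.V ≤ Ti.Q := sup_le (hVQ Ti Ta) (hVQ Ti Tj)
  have hVn : (Vz Tj.P).Normal := normalClosure_normal
  obtain ⟨X, hXdef⟩ : ∃ X, X = Tj.cj g (Ta.V ⊔ Tj.V) := ⟨_, rfl⟩
  have hmov : ∀ s : S, ∀ y ∈ Ta.V ⊔ Tj.V, ⁅s, y⁆ ∈ Tj.V := by
    intro s y hy
    obtain ⟨a, ha, w, hw, rfl⟩ := (Ta.V_mem hs).exists_mul (Tj.V_mem hs) hy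
    rw [comm_Z_right (Tj.move hs s hw)]
    exact mul_mem ((Tj.V_mem hs).Z_le (Ta.move hs s ha)) ((Tj.V_mem hs).Z_le (Tj.move hs s hw))
  refine ((Ti.loc hs).short_forced (short_data hs hS₁ hS₁' Ta Tj Ti g hX) ?_).elim (fun hnin => ?_) ?_
  · intro a ha haW x hx hxQ hax
    obtain ⟨a₀, rfl⟩ := Ti.exists_ι ha
    obtain ⟨x₀, hx₀, rfl⟩ := hx
    have ha₀ : a₀ ∉ Tj.Q := fun h => haW (by rw [← Ti.map_cz, Tj.cz_V hs]; exact mem_map_of_mem _ h)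
    rw [← map_commutatorElement, Ti.mem_map] at hax
    let H : Subgroup Tj.G :=
      { carrier := {k | ⁅k, Tj.ι x₀⁆ ∈ Vz Tj.P}
        one_mem' := by simp [one_mem]
        mul_mem' := by
          intro k k' (hk : ⁅k, Tj.ι x₀⁆ ∈ Vz Tj.P) (hk' : ⁅k', Tj.ι x₀⁆ ∈ Vz Tj.P)
          show ⁅k * k', Tj.ι x₀⁆ ∈ Vz Tj.P
          rw [cmul_left]; exact mul_mem (hVn.conj_mem _ hk' k) hk
        inv_mem' := by
          intro k (hk : ⁅k, Tj.ι x₀⁆ ∈ Vz Tj.P)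
          show ⁅k⁻¹, Tj.ι x₀⁆ ∈ Vz Tj.P
          rw [show ⁅k⁻¹, Tj.ι x₀⁆ = k⁻¹ * ⁅k, Tj.ι x₀⁆⁻¹ * k⁻¹⁻¹ by simp only [commutatorElement_def]; group]
          exact hVn.conj_mem _ (inv_mem hk) _ }
    obtain ⟨y, hy, hye⟩ := Tj.mem_cj.mp hx₀
    have htop : H = ⊤ := by
      refine Tj.fr.gen (Tj.ι a₀) (Tj.ι_mem a₀) ha₀ g hg H ?_ fun s hs' => ?_
      · show ⁅Tj.ι a₀, Tj.ι x₀⁆ ∈ Vz Tj.P
        rw [← map_commutatorElement]; exact hax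
      · obtain ⟨s₀, rfl⟩ := Tj.exists_ι hs'
        show ⁅g * Tj.ι s₀ * g⁻¹, Tj.ι x₀⁆ ∈ Vz Tj.P
        rw [show ⁅g * Tj.ι s₀ * g⁻¹, Tj.ι x₀⁆ = g * ⁅Tj.ι s₀, g⁻¹ * Tj.ι x₀ * g⁆ * g⁻¹ by
          simp only [commutatorElement_def]; group, ← hye, ← map_commutatorElement]
        exact hVn.conj_mem _ (hmov s₀ y hy) _
    have h1 : ⁅g⁻¹, Tj.ι x₀⁆ ∈ Vz Tj.P := htop.ge (mem_top _)
    have h2 : y * x₀⁻¹ ∈ Tj.V := by
      show Tj.ι _ ∈ Vz Tj.P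
      rw [map_mul, map_inv, hye]
      convert h1 using 1
      simp only [commutatorElement_def]; group
    exact hxQ (hMQi (by simpa [mul_assoc] using mul_mem (inv_mem (mem_sup_right (S := Ta.V) h2)) hy))
  · rw [← hXdef] at hnin hX
    have hXQ : X ≤ Tj.Q := hXdef ▸ Tj.cj_le_Q hQ
    have hMn : NIn ⊤ (Ta.V ⊔ Tj.V) := Ta.V_nin.sup Tj.V_nin
    have hnormal : (X.map Tj.ι).Normal := by
      refine (Tj.loc hs).normal_of hg (Tj.map_nin (Ti.of_map_nin hnin)) fun s hs' x hx => ?_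
      rw [hXdef, Tj.map_cj hQ, GN.mem_cj] at hx ⊢
      have h1 := Tj.map_nin hMn s hs' _ hx
      convert h1 using 1
      group
    refine hX (le_trans (le_of_eq ?_) hMQi)
    have h1 : Tj.cj g⁻¹ X = X := by rw [Sit.cj, cj_normal g⁻¹ hnormal, Tj.comap_map]
    rw [← h1, hXdef, Tj.cj_inv_cj hQ]
  · rintro ⟨hp3, ⟨N, W₁, hb⟩, x, hx, hxQ, hquad⟩
    exact hS₁ Ti ⟨⟨N, W₁, hb, Or.inl hp3⟩, x, hx, hxQ, hquad⟩

/-- A member reached in one step stays in every core. -/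
theorem chain_one (Ta Tj Ti : Sit p S₁ q) (k : Tj.G) : Tj.cj k (Ta.V ⊔ Tj.V) ≤ Ti.Q := by
  by_contra hX
  have hVQ := chain_zero hs hS₁ hS₁'
  have hQ : Ta.V ⊔ Tj.V ≤ Tj.Q := sup_le (hVQ Tj Ta) Tj.V_le_Q
  have hij : Ti.V ⊔ Tj.V ≤ Tj.Q := sup_le (hVQ Tj Ti) Tj.V_le_Q
  have hk : k ∈ Tj.fr.M := by
    by_contra hk
    exact hX (no_wide hs hS₁ hS₁' Ta Tj Ti hk)
  have hd := short_data hs hS₁ hS₁' Ta Tj Ti k hX
  obtain ⟨R, f⟩ := (Ti.loc hs).short_facts hd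
  obtain ⟨N, hN, hNc, hNR⟩ := (Ti.loc hs).short_RR hd f
  obtain ⟨hat, hle⟩ := atom_one hs hS₁ hS₁' Ta Tj k
  obtain ⟨hXm, -, -⟩ := (Reach.step Tj k (Reach.base Ta) fun T' => hVQ T' Ta).facts hs
  obtain ⟨X, hXdef⟩ : ∃ X, X = Tj.cj k (Ta.V ⊔ Tj.V) := ⟨_, rfl⟩
  rw [← hXdef] at hX hle hat hXm
  have hXQ : X ≤ Tj.Q := hXdef ▸ Tj.cj_le_Q hQ
  obtain ⟨g, hgdef⟩ : ∃ g, g = Tj.fr.w := ⟨_, rfl⟩
  have hg : g ∉ Tj.fr.M := hgdef ▸ Tj.fr.w_not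
  have hXg : ∀ l, Tj.cj l X = Tj.cj (l * k) (Ta.V ⊔ Tj.V) := fun l => by rw [hXdef, Tj.cj_cj hQ]
  have hR : ∀ y : S, y ∈ Ti.Q → y ∈ Tj.Q → Ti.ι y ∈ R := fun y hi hj => by
    rw [f.R_eq, ← Ti.map_V, ← Subgroup.map_sup, ← Ti.map_cz]
    refine mem_map_of_mem _ ?_
    rw [cz_sup, Ti.cz_V hs, Tj.cz_V hs]
    exact ⟨hi, hj⟩
  obtain ⟨U, hU⟩ : ∃ U, U = Tj.V ⊔ sSup {Y | ∃ l, l ∉ Tj.fr.M ∧ Y = Tj.cj l (Ti.V ⊔ Tj.V)} := ⟨_, rfl⟩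
  have hUQ : U ≤ Tj.Q := by
    rw [hU]
    refine sup_le Tj.V_le_Q (sSup_le ?_)
    rintro _ ⟨l, -, rfl⟩
    exact Tj.cj_le_Q hij
  refine Sit.final hs Ti Tj (C := N.comap Ti.ι) ?_ hXQ hX (hVQ Tj Ti) g ?_ (U := U) (X₁ := Tj.V) ?_ ?_ ?_ hXm hle
    (Tj.V_mem hs) ?_ (Tj.V_le_cj hle) ?_ ?_
  · intro c hc hcZ
    exact ⟨(Ti.loc hs).v.Z_le ((Ti.mem_Z hs).mpr hcZ), hNc _ ((Ti.mem_Z hs).mpr hcZ) hc⟩
  · intro h hh x hx v hv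
    have hhM : h ∈ Tj.fr.M := (Tj.loc hs).normalizer_le_M hh
    have hl : h * g ∉ Tj.fr.M := fun h' => hg ((mul_mem_cancel_left hhM).mp h')
    obtain ⟨x', hx', hxe⟩ := Tj.cj_elem (g := h * g) hXQ hx
    obtain ⟨v', hv', hve⟩ := Tj.cj_elem (g := h * g) hij (mem_sup_left hv)
    refine ⟨⁅x', v'⁆, ?_, ?_⟩
    · show Ti.ι ⁅x', v'⁆ ∈ N
      rw [map_commutatorElement]
      refine hNR _ (hR x' ?_ (Tj.cj_le_Q hXQ hx')) _ (hR v' ?_ (Tj.cj_le_Q hij hv'))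
      · rw [hXg] at hx'
        exact no_wide hs hS₁ hS₁' Ta Tj Ti (fun h' => hl ((mul_mem_cancel_right hk).mp h')) hx'
      · exact no_wide hs hS₁ hS₁' Ti Tj Ti hl hv'
    · rw [map_commutatorElement, map_commutatorElement, hxe, hve, GN.conj_comm]
  · rw [hU]
    refine (Tj.V_mem hs).sSup _ ?_
    rintro _ ⟨l, -, rfl⟩
    exact Tj.cj_mem hs ((Ti.V_mem hs).sup (Tj.V_mem hs)) le_sup_right hij
  · rw [hU]
    refine Tj.V_nin.sup fun s _ u hu => ?_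
    refine (sSup_le (a := (sSup _ : Subgroup S).comap (MulAut.conj s).toMonoidHom) ?_ hu :)
    rintro _ ⟨l, hl, rfl⟩ y hy
    exact le_sSup (a := Tj.cj (Tj.ι s * l) (Ti.V ⊔ Tj.V))
      (by exact ⟨_, fun h' => hl ((mul_mem_cancel_left (Tj.fr.S_le (Tj.ι_mem s))).mp h'), rfl⟩) (Tj.conj_cj hy s)
  · rw [hU]
    exact (Tj.cj_mono le_sup_left).trans (le_trans (le_sSup (by exact ⟨g, hg, rfl⟩)) le_sup_right)
  · rw [hXg g]; exact (atom_one hs hS₁ hS₁' Ta Tj (g * k)).1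
  · exact le_cz_comm le_top ((Tj.cz_V hs).ge.trans' hUQ)
  · have h1 := Ti.card_inf hs hXm hX
    rwa [(hat _ (hXm.inf (Ti.Q_mem hs)) (le_inf hle (hVQ Ti Tj)) inf_le_left).resolve_right
      fun he => hX (he.ge.trans inf_le_right)] at h1

/-- A member reached in at least two steps stays in every core. -/
theorem chain_long {n : ℕ} (hN : ∀ m ≤ n + 1, ∀ X, Reach p S₁ q m X → AllQ p S₁ q X) {A : Subgroup S}
    (hA : Reach p S₁ q (n + 1) A) [hc : S₁.Characteristic] (Tj Ti : Sit p S₁ q) (g : Tj.G) :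
    Tj.cj g (A ⊔ Tj.V) ≤ Ti.Q := by
  by_contra hX
  have hVQ := chain_zero hs hS₁ hS₁'
  obtain ⟨X, hXdef⟩ : ∃ X, X = Tj.cj g (A ⊔ Tj.V) := ⟨_, rfl⟩
  rw [← hXdef] at hX
  have hAQ : ∀ {A'}, Reach p S₁ q (n + 1) A' → AllQ p S₁ q A' := fun h => hN _ le_rfl _ h
  have hB : ∀ {A'}, Reach p S₁ q (n + 1) A' → A' ⊔ Tj.V ≤ Tj.Q := fun h => sup_le (hAQ h Tj) Tj.V_le_Q
  obtain ⟨hXm, hXc, -⟩ := (Reach.step Tj g hA (hAQ hA)).facts hs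
  rw [← hXdef] at hXm hXc
  have hXQ : X ≤ Tj.Q := hXdef ▸ Tj.cj_le_Q (hB hA)
  have hM : Ti.V ⊔ Tj.V ≤ Tj.Q := sup_le (hVQ Tj Ti) Tj.V_le_Q
  have hMl : ∀ l, AllQ p S₁ q (Tj.cj l (Ti.V ⊔ Tj.V)) := fun l =>
    hN 1 (by omega) _ (Reach.step Tj l (Reach.base Ti) fun T' => hVQ T' Ti)
  -- members commuting with every conjugate
  have hcomm : ∀ {B : Subgroup S}, B ≤ Tj.Q → (∀ l, AllQ p S₁ q (Tj.cj l B)) → ∀ l,
      Tj.cj l (Ti.V ⊔ Tj.V) ≤ cz ⊤ B := by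
    intro B hBQ hB l a ha
    refine mem_cz.mpr ⟨mem_top _, fun b hb => ?_⟩
    have h1 : ∀ x ∈ Tj.cj l⁻¹ B, ∀ y ∈ Ti.V ⊔ Tj.V, x * y = y * x := fun x hx y hy =>
      ((mem_cz.mp ((hB l⁻¹).le_cz hs Ti Tj hx)).2 y hy).symm
    have h2 := Tj.cj_comm (g := l) h1
    rw [Tj.cj_cj_inv hBQ] at h2
    exact h2 b hb a ha
  obtain ⟨U, hU⟩ : ∃ U, U = Tj.V ⊔ sSup {Y | ∃ l, Y = Tj.cj l (Ti.V ⊔ Tj.V)} := ⟨_, rfl⟩
  have hUle : ∀ {B : Subgroup S}, Tj.V ≤ B → (∀ l, Tj.cj l (Ti.V ⊔ Tj.V) ≤ B) → U ≤ B := by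
    intro B h1 h2
    rw [hU]
    refine sup_le h1 (sSup_le ?_)
    rintro _ ⟨l, rfl⟩
    exact h2 l
  have hlU : ∀ l, Tj.cj l (Ti.V ⊔ Tj.V) ≤ U := fun l => hU ▸ le_trans (le_sSup (by exact ⟨l, rfl⟩)) le_sup_right
  have hMU : Ti.V ⊔ Tj.V ≤ U := (Tj.cj_one _).ge.trans (hlU 1)
  have hUQ : ∀ T : Sit p S₁ q, U ≤ T.Q := fun T => hUle (hVQ T Tj) fun l => hMl l T
  have hUm : Mem ⊤ U := by
    rw [hU]
    refine (Tj.V_mem hs).sSup _ ?_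
    rintro _ ⟨l, rfl⟩
    exact Tj.cj_mem hs ((Ti.V_mem hs).sup (Tj.V_mem hs)) le_sup_right hM
  have hUn : NIn ⊤ U := by
    rw [hU]
    refine Tj.V_nin.sup fun s _ u hu => ?_
    refine (sSup_le (a := (sSup _ : Subgroup S).comap (MulAut.conj s).toMonoidHom) ?_ hu :)
    rintro _ ⟨l, rfl⟩ y hy
    exact le_sSup (a := Tj.cj (Tj.ι s * l) (Ti.V ⊔ Tj.V)) (by exact ⟨_, rfl⟩) (Tj.conj_cj hy s)
  have hUcz : ∀ {B : Subgroup S}, B ≤ Tj.Q → (∀ l, AllQ p S₁ q (Tj.cj l B)) → B ≤ cz ⊤ U := fun {B} hBQ hB =>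
    le_cz_comm le_top (hUle (le_cz_comm le_top ((Tj.cz_V hs).ge.trans' hBQ)) (hcomm hBQ hB))
  have hUab : ∀ a ∈ U, ∀ b ∈ U, a * b = b * a := by
    have h1 : U ≤ cz ⊤ U := hUle (le_cz_comm le_top ((Tj.cz_V hs).ge.trans' (hUQ Tj))) fun l =>
      hUcz (Tj.cj_le_Q hM) fun l' => by rw [Tj.cj_cj hM]; exact hMl _
    exact fun a ha b hb => ((mem_cz.mp (h1 ha)).2 b hb).symm
  have hmove : ∀ a ∈ Tj.Q, ∀ u ∈ U, ⁅a, u⁆ ∈ Tj.V := by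
    have hVn : ∀ c, ∀ v ∈ Tj.V, c * v * c⁻¹ ∈ Tj.V := fun c v hv => Tj.V_nin c (mem_top _) v hv
    let H : Subgroup S :=
      { carrier := {u | ∀ a ∈ Tj.Q, ⁅a, u⁆ ∈ Tj.V}
        one_mem' := fun a _ => by simp [one_mem]
        mul_mem' := fun {u v} hu hv a ha => by rw [cmul_right]; exact mul_mem (hu a ha) (hVn u _ (hv a ha))
        inv_mem' := fun {u} hu a ha => by
          rw [show ⁅a, u⁻¹⁆ = u⁻¹ * ⁅a, u⁆⁻¹ * u⁻¹⁻¹ by simp only [commutatorElement_def]; group]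
          exact hVn _ _ (inv_mem (hu a ha)) }
    have h1 : U ≤ H := by
      refine hUle (fun v hv a _ => (Tj.V_mem hs).Z_le (Tj.move hs a hv)) fun l u hu a ha => ?_
      obtain ⟨m, hm, hme⟩ := Tj.mem_cj.mp hu
      obtain ⟨a', ha', hae⟩ := Tj.cj_elem (g := l⁻¹) le_rfl ha
      show Tj.ι _ ∈ Vz Tj.P
      rw [map_commutatorElement, show ⁅Tj.ι a, Tj.ι u⁆ = l * ⁅Tj.ι a', Tj.ι m⁆ * l⁻¹ by
        rw [hae, hme]; simp only [commutatorElement_def]; group, ← map_commutatorElement]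
      refine (normalClosure_normal : (Vz Tj.P).Normal).conj_mem _ ?_ _
      obtain ⟨v, hv, w, hw, rfl⟩ := (Ti.V_mem hs).exists_mul (Tj.V_mem hs) hm
      have hw' : a' * w = w * a' := ((mem_cz.mp ((Tj.cz_V hs).ge (Tj.cj_le_Q le_rfl ha'))).2 w hw).symm
      rw [comm_right_drop hw']
      exact (Tj.V_mem hs).Z_le (Ti.move hs a' hv)
    exact fun a ha u hu => h1 hu a ha
  -- every decomposition of `X`
  have key : ∀ {A' : Subgroup S} (g' : Tj.G), Reach p S₁ q (n + 1) A' → X = Tj.cj g' (A' ⊔ Tj.V) →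
      ∃ A₁, A₁ ⊔ Tj.V ≤ cz ⊤ U ∧ Mem ⊤ (A₁ ⊔ Tj.V) ∧ A₁ ⊔ Tj.V ≤ A' ⊔ Tj.V ∧
        Atom ⊤ (A₁ ⊔ Tj.V) (A' ⊔ Tj.V) ∧ X ⊓ Ti.Q = Tj.cj g' (A₁ ⊔ Tj.V) ∧
        ∀ r ∈ A' ⊔ Tj.V, ∀ u ∈ U, Ti.ι ⁅r, u⁆ ∈ centralizer (res p Ti.G : Set Ti.G) := by
    intro A' g' hA' he
    obtain ⟨A₁, hle, hm, hat, hr⟩ := hA'.lower hs fun m hm => hN m hm
    have hX₁Q : A₁ ⊔ Tj.V ≤ Tj.Q := (sup_le_sup_right hle _).trans (hB hA')
    have hX₁l : ∀ l, AllQ p S₁ q (Tj.cj l (A₁ ⊔ Tj.V)) := fun l => hN _ le_rfl _ (hr Tj l)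
    have hA'm := (hA'.facts hs).1
    have hat' := hat.sup hle hA'm (Tj.V_mem hs)
    have hX₁m := hm.sup (Tj.V_mem hs)
    have hinf : X ⊓ Ti.Q = Tj.cj g' (A₁ ⊔ Tj.V) := by
      refine ((he ▸ hat'.cj hs Tj g' le_sup_right (sup_le_sup_right hle _) (hB hA')) _ (hXm.inf (Ti.Q_mem hs))
        (le_inf (he ▸ Tj.cj_mono (sup_le_sup_right hle _)) (hX₁l g' Ti)) inf_le_left).resolve_right
        fun h' => hX (h'.ge.trans inf_le_right)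
    refine ⟨A₁, hUcz hX₁Q hX₁l, hX₁m, sup_le_sup_right hle _, hat', hinf, fun r hr u hu => ?_⟩
    rw [mem_centralizer_iff, map_commutatorElement]
    refine (Ti.loc hs).long (W := Tj.V.map Ti.ι) (U := U.map Ti.ι) (X := X.map Ti.ι)
      (X₀ := (A' ⊔ Tj.V).map Ti.ι) (X₁ := (A₁ ⊔ Tj.V).map Ti.ι) ?_ _ (mem_map_of_mem _ hr) _ (mem_map_of_mem _ hu)
    constructor
    · exact Ti.map_mem (Tj.V_mem hs)
    · exact Ti.le_Q.mpr (hVQ Ti Tj)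
    · exact Ti.map_nin Tj.V_nin
    · intro M hM hMW
      have h := Ti.map_atom (Tj.atom hs) M hM
      rw [Ti.map_Z hs] at h
      exact h ((Ti.loc hs).Z_le_of_mem hM) hMW
    · rw [← Ti.map_V, ← Subgroup.map_inf _ _ _ Ti.ι_inj, Sit.inf_V hs Ti Tj fun h => hX (hXQ.trans h), Ti.map_Z hs]
    · exact Ti.map_mem hUm
    · exact Ti.map_nin hUn
    · exact Ti.map_comm hs hUab
    · exact Ti.map_V ▸ map_mono (le_sup_left.trans hMU)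
    · exact map_mono (le_sup_right.trans hMU)
    · exact Ti.le_Q.mpr (hUQ Ti)
    · rw [← Ti.map_cz, Tj.cz_V hs]
      rintro _ ⟨a, ha, rfl⟩ _ ⟨b, hb, rfl⟩
      exact ⟨_, hmove a ha b hb, map_commutatorElement _ _ _⟩
    · exact Ti.map_mem hXm
    · exact Ti.map_comm hs hXc
    · rw [← Ti.map_cz, Tj.cz_V hs]; exact map_mono hXQ
    · exact fun h => hX (Ti.le_Q.mp h)
    · rw [← Ti.map_Q, ← Subgroup.map_inf _ _ _ Ti.ι_inj, ← Ti.map_cz, hinf]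
      refine map_mono (hUcz (Tj.cj_le_Q hX₁Q) fun l => ?_)
      rw [Tj.cj_cj hX₁Q]; exact hX₁l _
    · exact Ti.map_mem (hA'm.sup (Tj.V_mem hs))
    · exact Ti.le_Q.mpr (sup_le (hAQ hA' Ti) (hVQ Ti Tj))
    · rw [← Ti.map_cz, Tj.cz_V hs]; exact map_mono (hB hA')
    · exact Ti.map_mem hX₁m
    · exact map_mono (sup_le_sup_right hle _)
    · rw [← Ti.map_cz]; exact map_mono (hUcz hX₁Q hX₁l)
    · exact Ti.map_atom hat'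
  obtain ⟨A₁, hA₁U, hA₁m, hA₁le, hA₁at, hinf, -⟩ := key g hA hXdef
  have hback : Tj.cj g⁻¹ X = A ⊔ Tj.V := by rw [hXdef, Tj.cj_inv_cj (hB hA)]
  refine Sit.final hs Ti Tj (C := (centralizer (res p Ti.G : Set Ti.G)).comap Ti.ι) ?_ hXQ hX (hVQ Tj Ti) g⁻¹ ?_
    hUm hUn ((Tj.cj_mono le_sup_left).trans (hlU _)) hXm (hXdef ▸ Tj.V_le_cj le_sup_right) hA₁m
    (by rw [hback]; exact hA₁at) (by rw [hback]; exact hA₁le) hA₁U ?_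
  · intro c hc hcZ
    exact (Ti.loc hs).res_V ((Ti.loc hs).v.Z_le ((Ti.mem_Z hs).mpr hcZ)) fun l hl => mem_centralizer_iff.mp hc l hl
  · intro h hh x hx v hv
    obtain ⟨τ, hτ⟩ := Tj.exists_aut hh
    have hA' : Reach p S₁ q (n + 1) (Tj.cj h A) := hτ A ▸ hA.map_aut τ
    have he : X = Tj.cj (g * h⁻¹) (Tj.cj h A ⊔ Tj.V) := by
      rw [← Tj.cj_V h, ← Tj.cj_sup (hAQ hA Tj) Tj.V_le_Q, Tj.cj_cj (hB hA), inv_mul_cancel_right, hXdef]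
    obtain ⟨-, -, -, -, -, -, hC⟩ := key _ hA' he
    obtain ⟨r, hr, hre⟩ := Tj.cj_elem (g := h * g⁻¹) hXQ hx
    obtain ⟨w, hw, hwe⟩ := Tj.cj_elem (g := h * g⁻¹) hM (mem_sup_left hv)
    refine ⟨⁅r, w⁆, hC r ?_ w (hlU _ hw), ?_⟩
    · rw [he, Tj.cj_cj (hB hA'), show h * g⁻¹ * (g * h⁻¹) = 1 by group, Tj.cj_one] at hr
      exact hr
    · rw [map_commutatorElement, map_commutatorElement, hre, hwe, GN.conj_comm]
  · rw [Ti.card_inf hs hXm hX, hinf, Tj.card_cj ((sup_le_sup_right (hA₁le.trans' le_sup_left) _).trans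
      (by rw [sup_assoc, sup_idem]; exact hB hA))]

/-- Every reached member lies in every core. -/
theorem reach_allQ [hc : S₁.Characteristic] : ∀ n X, Reach p S₁ q n X → AllQ p S₁ q X := by
  intro n
  induction n using Nat.strong_induction_on with
  | _ n ih =>
    intro X hX Ti
    cases hX with
    | base T => exact chain_zero hs hS₁ hS₁' Ti T
    | @step T g m A hA hQ =>
      cases m with
      | zero =>
        cases hA with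
        | base Ta => exact chain_one hs hS₁ hS₁' Ta T Ti g
      | succ k => exact chain_long hs hS₁ hS₁' (fun i hi => ih i (by omega)) hA T Ti g

end

end Cfsg.Agent.Fus.GN
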