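import Mathlib
import Cfsg.Agent.Lib.Fus.GN.Chain

/-!
# Pairs for pushing up: the pair of a group generated by self-centralising members
-/

set_option autoImplicit false
set_option linter.style.haveILetI false
set_option linter.unusedSectionVars false

namespace Cfsg.Agent.Fus.GN

open Subgroup Cfsg.Agent.Invol Cfsg.Agent.Invol.PushUp
open scoped commutatorElement

universe u

/-- The largest product of order and centre is attained by no less than any subgroup. -/
theorem le_maxCentralProduct {H : Type*} [Group H] [Finite H] (R : Subgroup H) :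
    Nat.card R * Nat.card (center ↥R) ≤ Cfsg.maxCentralProduct H := by
  refine le_csSup ⟨Nat.card H * Nat.card H, ?_⟩ ⟨R, rfl⟩
  rintro k ⟨R', rfl⟩
  exact Nat.mul_le_mul (card_le_card_group R') ((card_le_card_group _).trans (card_le_card_group R'))

theorem maxCentralProduct_le {H : Type*} [Group H] [Finite H] {n : ℕ}
    (h : ∀ R : Subgroup H, Nat.card R * Nat.card (center ↥R) ≤ n) : Cfsg.maxCentralProduct H ≤ n :=
  csSup_le ⟨_, ⊥, rfl⟩ fun k hk => by obtain ⟨R, rfl⟩ := hk; exact h R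

theorem maxCentralProduct_le_of_injective {A B : Type*} [Group A] [Finite A] [Group B] [Finite B] (f : A →* B)
    (hf : Function.Injective f) : Cfsg.maxCentralProduct A ≤ Cfsg.maxCentralProduct B := by
  refine maxCentralProduct_le fun R => ?_
  have h1 := le_maxCentralProduct (R.map f)
  rwa [card_map_of_injective hf,
    ← Nat.card_congr (Subgroup.centerCongr (R.equivMapOfInjective f hf)).toEquiv] at h1

theorem maxCentralProduct_congr {H K : Type*} [Group H] [Finite H] [Group K] [Finite K] (e : H ≃* K) :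
    Cfsg.maxCentralProduct H = Cfsg.maxCentralProduct K :=
  le_antisymm (maxCentralProduct_le_of_injective e.toMonoidHom e.injective)
    (maxCentralProduct_le_of_injective e.symm.toMonoidHom e.symm.injective)

/-- The centre of a subgroup has the order of its trace in the centraliser. -/
theorem card_center_eq {H : Type*} [Group H] (R : Subgroup H) :
    Nat.card (center ↥R) = Nat.card ↥(R ⊓ centralizer (R : Set H)) := by
  rw [← card_map_of_injective R.subtype_injective (K := center ↥R)]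
  have e : (center ↥R).map R.subtype = R ⊓ centralizer (R : Set H) := by
    ext x
    constructor
    · rintro ⟨z, hz, rfl⟩
      exact ⟨z.2, mem_centralizer_iff.mpr fun a ha => congrArg Subtype.val (mem_center_iff.mp hz ⟨a, ha⟩)⟩
    · rintro ⟨hx, hc⟩
      exact ⟨⟨x, hx⟩, mem_center_iff.mpr fun a => Subtype.ext (mem_centralizer_iff.mp hc a a.2), rfl⟩
  rw [e]

variable {S : Type u} [Group S] [Finite S] {p : ℕ} [hp : Fact p.Prime]

/-- The normaliser of the image of `S` fixes a characteristic subgroup. -/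
theorem char_fixed {G : Type u} [Group G] {P : Subgroup G} (e : S ≃* ↥P) {S₁ : Subgroup S} [hc : S₁.Characteristic]
    {n : G} (hn : n ∈ normalizer (P : Set G)) {x : G} (hx : x ∈ S₁.map (P.subtype.comp e.toMonoidHom)) :
    n * x * n⁻¹ ∈ S₁.map (P.subtype.comp e.toMonoidHom) := by
  obtain ⟨s, hs, rfl⟩ := hx
  let τ : S ≃* S := e.trans ((P.normalizerMonoidHom ⟨n, hn⟩).trans e.symm)
  refine ⟨τ s, (characteristic_iff_map_eq.mp hc τ).le (mem_map_of_mem _ hs), ?_⟩
  simp [τ, Subgroup.normalizerMonoidHom]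
  rfl

variable {S₁ : Subgroup S} [hc : S₁.Characteristic] {q : Prop}

/-- A bad group over `S` gives a situation. -/
theorem exists_sit (hs : Std p (⊤ : Subgroup S)) (hS₁' : S₁ ≤ center S) (G : Type u) [Group G] [Finite G]
    (P : Sylow p G) (e : S ≃* ↥(P : Subgroup G))
    (hE₁ : centralizer (Cfsg.pCore p G : Set G) ≤ Cfsg.pCore p G)
    (hE₂ : ∃! M : Subgroup G, IsCoatom M ∧ (P : Subgroup G) ≤ M) (K : Subgroup G) [K.Normal]
    {F : Type} [Field F] [Fintype F] {n : ℕ} (hF : Fintype.card F = p ^ n)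
    (iso : G ⧸ K ≃* Matrix.ProjectiveSpecialLinearGroup (Fin 2) F)
    (hbad : ¬ (S₁.map ((P : Subgroup G).subtype.comp e.toMonoidHom)).Normal) (hhard : q → NoQuad P) :
    ∃ T : Sit p S₁ q, T.G = G ∧ ∀ S₂ : Subgroup S, (S₂.map T.ι).Normal →
      (S₂.map ((P : Subgroup G).subtype.comp e.toMonoidHom)).Normal := by
  obtain ⟨fr, -⟩ := exists_frame P hE₁ hE₂ K hF iso
  obtain ⟨ι, hι⟩ : ∃ ι, ι = (P : Subgroup G).subtype.comp e.toMonoidHom := ⟨_, rfl⟩
  have hinj : Function.Injective ι := hι ▸ (P : Subgroup G).subtype_injective.comp e.injective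
  have htop : (⊤ : Subgroup S).map ι = (P : Subgroup G) := by
    rw [hι, ← Subgroup.map_map, map_top_of_surjective _ e.surjective, ← MonoidHom.range_eq_map, range_subtype]
  have hP : Std p (P : Subgroup G) := htop ▸ hs.map hinj
  have hcl : cz (P : Subgroup G) P = (cz (⊤ : Subgroup S) ⊤).map ι := by rw [← htop, cz_map ι hinj]
  have hZ : S₁.map ι ≤ Zs P := by
    intro x hx
    have h1 : x ∈ cz (P : Subgroup G) P := hcl.ge (map_mono (hS₁'.trans cz_top_top.ge) hx)
    exact ⟨h1.1, h1.2, hP.exp x h1⟩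
  have hZn : ¬ (Zs P).Normal := fun hn' => by
    refine hbad (normalizer_eq_top_iff.mp (eq_top_iff.mpr ?_))
    rw [← hι]
    haveI := PushUnique.centralizer_normal' (Zs P)
    obtain ⟨C, hC⟩ : ∃ C, C = centralizer (Zs P : Set G) := ⟨_, rfl⟩
    haveI : C.Normal := hC ▸ inferInstance
    have hPC : (P : Subgroup G) ≤ C := fun a ha => hC ▸ mem_centralizer_iff.mpr fun z hz =>
      (mem_centralizer_iff.mp hz.2.1 a ha).symm
    have hsup : normalizer ((P : Subgroup G) : Set G) ⊔ C = ⊤ := by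
      have h := Sylow.normalizer_sup_eq_top (P.subtype hPC)
      rwa [Sylow.coe_subtype, subgroupOf_map_subtype, inf_eq_left.mpr hPC] at h
    rw [← hsup]
    refine sup_le (fun m hm => mem_normalizer_fintype fun x hx => ?_) (fun c hcC => mem_normalizer_fintype fun x hx => ?_)
    · exact hι ▸ char_fixed e hm (hι ▸ hx)
    · rw [← mem_centralizer_iff.mp (hC ▸ hcC) x (hZ hx), mul_inv_cancel_right]
      exact hx
  have hA : ∃ A : Subgroup G, A ≤ (P : Subgroup G) ∧ (∀ a ∈ A, ∀ b ∈ A, a * b = b * a) ∧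
      (∀ B : Subgroup G, B ≤ (P : Subgroup G) → (∀ a ∈ B, ∀ b ∈ B, a * b = b * a) → Nat.card B ≤ Nat.card A) ∧
      ¬ A ≤ Cfsg.pCore p G := by
    obtain ⟨A, hA, hAA, hAQ⟩ := hP.exists_not_le (Q := Cfsg.pCore p G)
      fun hle => one_ne_zero (fr.σ_eq_zero 1 (hle (fr.σ_mem 1)))
    exact ⟨A, hA.le, fun a ha b hb => (mem_cz.mp (hAA.ge hb)).2 a ha, fun B => card_abelian_le hA hAA, hAQ⟩
  exact ⟨{ G := G, P := P, F := F, fr := fr, e := e, hv := GN.exists_vertex fr hZn hA, bad := hbad, hard := hhard }, rfl,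
    fun S₂ h => h⟩

/-- The subgroup generated by the reached members. -/
def reachJoin (p : ℕ) [Fact p.Prime] (S₁ : Subgroup S) (q : Prop) : Subgroup S :=
  cz ⊤ ⊤ ⊔ sSup {X | ∃ n, Reach p S₁ q n X}

variable (hs : Std p (⊤ : Subgroup S)) (hS₁ : Excl p S₁ q) (hS₁' : S₁ ≤ center S)
include hs hS₁ hS₁'

theorem reach_comm : ∀ n X, Reach p S₁ q n X → ∀ m Y, Reach p S₁ q m Y → Y ≤ cz ⊤ X := by
  intro n X hX
  induction hX with
  | base T => exact fun m Y hY => (T.cz_V hs).symm ▸ reach_allQ hs hS₁ hS₁' m Y hY T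
  | @step T g n A hA hQ ih =>
    intro m Y hY
    have hYQ := reach_allQ hs hS₁ hS₁' m Y hY
    have hB : A ⊔ T.V ≤ T.Q := sup_le (hQ T) T.V_le_Q
    have hY' := Reach.step T g⁻¹ hY hYQ
    have h1 : T.cj g⁻¹ (Y ⊔ T.V) ≤ cz ⊤ (A ⊔ T.V) := by
      rw [cz_sup, T.cz_V hs]
      exact le_inf (ih _ _ hY') (reach_allQ hs hS₁ hS₁' _ _ hY' T)
    have h2 := T.cj_comm (g := g) fun a ha b hb => ((mem_cz.mp (h1 ha)).2 b hb).symm
    rw [T.cj_cj_inv (sup_le (hYQ T) T.V_le_Q)] at h2
    exact fun y hy => mem_cz.mpr ⟨mem_top _, fun a ha => (h2 y (mem_sup_left hy) a ha).symm⟩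

/-- The pair of a group generated by self-centralising members, for the situations of the class. -/
theorem class_pair : ∃ S₂ : Subgroup S, S₂.Characteristic ∧ center S ≤ S₂ ∧
    Cfsg.maxCentralProduct ↥S₂ = Cfsg.maxCentralProduct S ∧
    ∀ (G : Type u) [Group G] [Finite G] (P : Sylow p G) (e : S ≃* ↥(P : Subgroup G)),
      centralizer (Cfsg.pCore p G : Set G) ≤ Cfsg.pCore p G →
      (∃! M : Subgroup G, IsCoatom M ∧ (P : Subgroup G) ≤ M) →
      (∃ (K : Subgroup G) (_ : K.Normal) (F : Type) (_ : Field F) (_ : Fintype F) (n : ℕ),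
        Fintype.card F = p ^ n ∧ Nonempty (G ⧸ K ≃* Matrix.ProjectiveSpecialLinearGroup (Fin 2) F)) →
      (q → NoQuad P) →
      (S₁.map ((P : Subgroup G).subtype.comp e.toMonoidHom)).Normal ∨
        (S₂.map ((P : Subgroup G).subtype.comp e.toMonoidHom)).Normal := by
  obtain ⟨Y, hY⟩ : ∃ Y, Y = reachJoin p S₁ q := ⟨_, rfl⟩
  have hYle : ∀ {B : Subgroup S}, cz ⊤ ⊤ ≤ B → (∀ n X, Reach p S₁ q n X → X ≤ B) → Y ≤ B := fun h1 h2 => by
    rw [hY, reachJoin]
    exact sup_le h1 (sSup_le fun X ⟨n, hn⟩ => h2 n X hn)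
  have hXY : ∀ {n X}, Reach p S₁ q n X → X ≤ Y := fun hn => hY ▸ le_trans (le_sSup (by exact ⟨_, hn⟩)) le_sup_right
  have hZY : cz ⊤ ⊤ ≤ Y := hY ▸ le_sup_left
  have hYm : Mem ⊤ Y := hY ▸ hs.mem.sSup _ fun X ⟨n, hn⟩ => (hn.facts hs).1
  have hYab : Y ≤ cz ⊤ Y := by
    refine hYle hYm.cz.Z_le fun n X hn => le_cz_comm le_top (hYle ?_ fun m X' hm => reach_comm hs hS₁ hS₁' n X hn m X' hm)
    exact cz_anti le_top
  have hchar : Y.Characteristic := by
    refine characteristic_iff_map_le.mpr fun σ => ?_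
    rw [map_le_iff_le_comap]
    refine hYle ?_ fun n X hn => map_le_iff_le_comap.mp (hXY (hn.map_aut σ))
    rw [← map_le_iff_le_comap]
    refine le_trans (le_of_eq ?_) hZY
    rw [cz_top_top]
    exact characteristic_iff_map_eq.mp inferInstance σ
  refine ⟨cz ⊤ Y, ?_, ?_, ?_, fun G _ _ P e hE₁ hE₂ hE₃ hhard => ?_⟩
  · rw [cz_top]; infer_instance
  · exact cz_top_top.ge.trans (hYm.cz).Z_le
  · have hle : ∀ R : Subgroup S, Nat.card R * Nat.card (center ↥R) ≤ Nat.card (cz ⊤ Y) * Nat.card Y := fun R => by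
      rw [mul_comm (Nat.card (cz ⊤ Y))]
      refine le_trans (Nat.mul_le_mul_left _ ?_) (hYm.max R le_top)
      rw [card_center_eq]
      exact card_le_of_le fun x hx => ⟨mem_top _, hx.2⟩
    refine le_antisymm (maxCentralProduct_le fun R => ?_) (maxCentralProduct_le fun R => (hle R).trans ?_)
    · have h := le_maxCentralProduct (R.map (cz ⊤ Y).subtype)
      rwa [card_map_of_injective (cz ⊤ Y).subtype_injective,
        ← Nat.card_congr (Subgroup.centerCongr (R.equivMapOfInjective _ (cz ⊤ Y).subtype_injective)).toEquiv] at h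
    · refine le_trans (Nat.mul_le_mul ?_ ?_) (le_maxCentralProduct (⊤ : Subgroup ↥(cz ⊤ Y)))
      · rw [Subgroup.card_top]
      · rw [Nat.card_congr (Subgroup.centerCongr Subgroup.topEquiv).toEquiv, card_center_eq]
        exact card_le_of_le fun y hy => ⟨hYab hy, mem_centralizer_iff.mpr fun a ha => ((mem_cz.mp ha).2 y hy).symm⟩
  refine or_iff_not_imp_left.mpr fun hbad => ?_
  obtain ⟨K, hK, F, iF, iF', n, hF, ⟨iso⟩⟩ := hE₃
  obtain ⟨T, -, hT⟩ := exists_sit hs hS₁' G P e hE₁ hE₂ K hF iso hbad hhard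
  refine hT _ ?_
  have hYQ : Y ≤ T.Q := hYle ((T.Q_mem hs).Z_le) fun n X hn => reach_allQ hs hS₁ hS₁' n X hn T
  have hVY : T.V ≤ Y := hXY (Reach.base T)
  have hcj : ∀ g, T.cj g Y ≤ Y := fun g => by
    have h1 : Y ≤ T.cj g⁻¹ Y := hYle ((T.V_mem hs).Z_le.trans (T.V_le_cj hVY)) fun n X hn => by
      have hXQ := reach_allQ hs hS₁ hS₁' n X hn
      have h2 : T.cj g X ≤ Y := (T.cj_mono le_sup_left).trans (hXY (Reach.step T g hn hXQ))
      exact (T.cj_inv_cj (hXQ T)).ge.trans (T.cj_mono h2)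
    exact (T.cj_mono h1).trans (T.cj_cj_inv hYQ).le
  haveI hYn : (Y.map T.ι).Normal := ⟨fun y hy g => by
    have h1 : g * y * g⁻¹ ∈ (T.cj g Y).map T.ι := (T.map_cj hYQ).ge (GN.conj_mem_cj hy)
    exact map_mono (hcj g) h1⟩
  haveI := PushUnique.centralizer_normal' (Y.map T.ι)
  haveI := Frame.Q_normal (G := T.G) (p := p)
  have e1 : (cz ⊤ Y).map T.ι = Cfsg.pCore p T.G ⊓ centralizer (Y.map T.ι : Set T.G) := by
    rw [T.map_cz]
    refine le_antisymm (le_inf ?_ inf_le_right) (inf_le_inf_right _ Frame.Q_le_S)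
    exact (T.loc hs).cz_le_core (T.map_V ▸ map_mono hVY)
  rw [e1]
  infer_instance

omit hS₁ in
/-- The pair of a group generated by self-centralising members. -/
theorem main_pair (hS₀ : S₁ ≤ szero p S) : ∃ S₂ : Subgroup S, S₂.Characteristic ∧ center S ≤ S₂ ∧
    Cfsg.maxCentralProduct ↥S₂ = Cfsg.maxCentralProduct S ∧
    ∀ (G : Type u) [Group G] [Finite G] (P : Sylow p G) (e : S ≃* ↥(P : Subgroup G)),
      centralizer (Cfsg.pCore p G : Set G) ≤ Cfsg.pCore p G →
      (∃! M : Subgroup G, IsCoatom M ∧ (P : Subgroup G) ≤ M) →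
      (∃ (K : Subgroup G) (_ : K.Normal) (F : Type) (_ : Field F) (_ : Fintype F) (n : ℕ),
        Fintype.card F = p ^ n ∧ Nonempty (G ⧸ K ≃* Matrix.ProjectiveSpecialLinearGroup (Fin 2) F)) →
      (S₁.map ((P : Subgroup G).subtype.comp e.toMonoidHom)).Normal ∨
        (S₂.map ((P : Subgroup G).subtype.comp e.toMonoidHom)).Normal := by
  obtain ⟨S₂, h1, h2, h3, h4⟩ := class_pair (q := False) hs (excl_of_szero hs hS₀ hS₁') hS₁'
  exact ⟨S₂, h1, h2, h3, fun G _ _ P e a b c => h4 G P e a b c False.elim⟩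

end Cfsg.Agent.Fus.GN
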