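import Mathlib
import Cfsg.Agent.Lib.Fus.GN.Pair
import Cfsg.Agent.Lib.Invol.ThompsonJ

/-!
# Pairs for pushing up: subgroups of `S` and their images
-/

set_option autoImplicit false
set_option linter.style.haveILetI false
set_option linter.unusedSectionVars false

namespace Cfsg.Agent.Fus.GN

open Subgroup Cfsg.Agent.Invol
open scoped commutatorElement

universe u

variable {S : Type u} [Group S] [Finite S] {p : ℕ} [hp : Fact p.Prime]

/-- The centre of the Thompson subgroup. -/
abbrev zj (S : Type u) [Group S] : Subgroup S :=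
  Cfsg.thompsonSubgroupA S ⊓ centralizer (Cfsg.thompsonSubgroupA S : Set S)

/-- The centraliser of the centre of the Thompson subgroup. -/
abbrev tilde (S : Type u) [Group S] : Subgroup S := centralizer (zj S : Set S)

/-- A characteristic subgroup of a characteristic subgroup is characteristic. -/
theorem char_map_subtype {H : Subgroup S} [hH : H.Characteristic] (K : Subgroup ↥H) [hK : K.Characteristic] :
    (K.map H.subtype).Characteristic := by
  refine characteristic_iff_map_le.mpr fun φ => ?_
  rintro _ ⟨_, ⟨k, hk, rfl⟩, rfl⟩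
  have e : H.map φ.toMonoidHom = H := characteristic_iff_map_eq.mp hH φ
  let ψ : ↥H ≃* ↥H := (φ.subgroupMap H).trans (MulEquiv.subgroupCongr e)
  exact ⟨ψ k, (characteristic_iff_map_eq.mp hK ψ).le (mem_map_of_mem _ hk), rfl⟩

/-- A characteristic subgroup stays so inside the whole group. -/
theorem char_subgroupOf_top {H K : Subgroup S} [hK : K.Characteristic] (hH : H = ⊤) :
    (K.subgroupOf H).Characteristic := by
  subst hH
  refine characteristic_iff_map_le.mpr fun φ => ?_
  rintro _ ⟨x, hx, rfl⟩
  let ψ : S ≃* S := Subgroup.topEquiv.symm.trans (φ.trans Subgroup.topEquiv)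
  have h1 : ψ (x : S) ∈ K := (characteristic_iff_map_eq.mp hK ψ).le (mem_map_of_mem _ hx)
  exact h1

theorem char_self (H : Subgroup S) : (H.subgroupOf H).Characteristic := by
  rw [subgroupOf_self]; infer_instance

theorem map_powerClosure {A B : Type*} [Group A] [Group B] (f : A →* B) (n : ℕ) (H : Subgroup A) :
    (Cfsg.powerClosure p n H).map f = Cfsg.powerClosure p n (H.map f) := by
  rw [Cfsg.powerClosure, Cfsg.powerClosure, MonoidHom.map_closure]
  congr 1
  ext y
  constructor
  · rintro ⟨_, ⟨x, hx, rfl⟩, rfl⟩
    exact ⟨f x, mem_map_of_mem _ hx, map_pow _ _ _⟩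
  · rintro ⟨_, ⟨x, hx, rfl⟩, rfl⟩
    exact ⟨_, ⟨x, hx, rfl⟩, map_pow _ _ _⟩

instance powerClosure_char (n : ℕ) (H : Subgroup S) [hH : H.Characteristic] :
    (Cfsg.powerClosure p n H).Characteristic :=
  characteristic_iff_map_eq.mpr fun φ => by rw [map_powerClosure, characteristic_iff_map_eq.mp hH φ]

instance thompson_char : (Cfsg.thompsonSubgroupA S).Characteristic :=
  characteristic_iff_map_eq.mpr fun φ => Invol.map_thompsonSubgroupA φ

theorem inf_char {H K : Subgroup S} [hH : H.Characteristic] [hK : K.Characteristic] : (H ⊓ K).Characteristic :=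
  characteristic_iff_map_eq.mpr fun φ => by
    rw [Subgroup.map_inf _ _ _ φ.injective, characteristic_iff_map_eq.mp hH φ, characteristic_iff_map_eq.mp hK φ]

theorem sup_char {H K : Subgroup S} [hH : H.Characteristic] [hK : K.Characteristic] : (H ⊔ K).Characteristic :=
  characteristic_iff_map_eq.mpr fun φ => by
    rw [Subgroup.map_sup, characteristic_iff_map_eq.mp hH φ, characteristic_iff_map_eq.mp hK φ]

instance zj_char : (zj S).Characteristic := inf_char

theorem szero_char : (szero p S).Characteristic := by
  haveI := char_map_subtype (H := frattini S) (frattini ↥(frattini S))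
  unfold szero
  split_ifs <;> exact sup_char

/-- A nontrivial normal subgroup of a `p`-group meets the centre. -/
theorem inf_center_ne_bot (hS : IsPGroup p S) {N : Subgroup S} [N.Normal] (hN : N ≠ ⊥) : N ⊓ center S ≠ ⊥ := by
  haveI := hS.isNilpotent
  exact Grp.inf_center_ne_bot N hN

theorem center_ne_bot (hS : IsPGroup p S) [Nontrivial S] : center S ≠ ⊥ := by
  haveI := hS.center_nontrivial
  exact (Subgroup.nontrivial_iff_ne_bot _).mp inferInstance

section

variable {G : Type u} [Group G] (P : Subgroup G) (e : S ≃* ↥P)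

/-- The embedding of `S` on `P`. -/
abbrev emb : S →* G := P.subtype.comp e.toMonoidHom

theorem emb_inj : Function.Injective (emb P e) := P.subtype_injective.comp e.injective

theorem emb_top : (⊤ : Subgroup S).map (emb P e) = P := by
  rw [← Subgroup.map_map, map_top_of_surjective _ e.surjective, ← MonoidHom.range_eq_map, range_subtype]

theorem emb_map (X : Subgroup S) : (X.map e.toMonoidHom).map P.subtype = X.map (emb P e) := Subgroup.map_map _ _ _

theorem emb_centralizer (X : Subgroup S) :
    (centralizer (X : Set S)).map (emb P e) = P ⊓ centralizer (X.map (emb P e) : Set G) := by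
  rw [← cz_top, ← cz_map _ (emb_inj P e), emb_top]
  rfl

theorem emb_center : (center S).map (emb P e) = P ⊓ centralizer (P : Set G) := by
  rw [← cz_top_top, ← cz_map _ (emb_inj P e), emb_top]
  rfl

theorem emb_zj : (zj S).map (emb P e) = Cfsg.centerThompsonAOf P := by
  have e1 : (Cfsg.thompsonSubgroupA S).map (emb P e) = Cfsg.thompsonSubgroupAOf P := by
    rw [← emb_map, Invol.map_thompsonSubgroupA]
    rfl
  show (cz (Cfsg.thompsonSubgroupA S) (Cfsg.thompsonSubgroupA S)).map _ = _
  rw [← cz_map _ (emb_inj P e), e1]
  rfl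

theorem emb_tilde : (tilde S).map (emb P e) = P ⊓ centralizer (Cfsg.centerThompsonAOf P : Set G) := by
  rw [tilde, emb_centralizer, emb_zj]

end

end Cfsg.Agent.Fus.GN
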