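import Mathlib
import Cfsg.Agent.Lib.Fus.GN.Transport
import Cfsg.Agent.Lib.Invol.PushCLFrattini

/-!
# Pairs for pushing up: the joins of minimal centrally large subgroups under isomorphisms
-/

set_option autoImplicit false
set_option linter.style.haveILetI false
set_option linter.unusedSectionVars false

namespace Cfsg.Agent.Fus.GN

open Subgroup Cfsg.Agent.Invol
open scoped commutatorElement

universe u v

variable {A : Type u} [Group A] [Finite A] {B : Type v} [Group B] [Finite B]

theorem centrallyLarge_map (e : A ≃* B) {R : Subgroup A} (hR : Cfsg.IsCentrallyLarge R) :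
    Cfsg.IsCentrallyLarge (R.map e.toMonoidHom) := by
  unfold Cfsg.IsCentrallyLarge at hR ⊢
  rw [← maxCentralProduct_congr e, ← Nat.card_congr (R.equivMapOfInjective e.toMonoidHom e.injective).toEquiv,
    ← Nat.card_congr (Subgroup.centerCongr (R.equivMapOfInjective e.toMonoidHom e.injective)).toEquiv, hR]

theorem map_symm_map (e : A ≃* B) (R : Subgroup A) : (R.map e.toMonoidHom).map e.symm.toMonoidHom = R := by
  rw [Subgroup.map_map, show e.symm.toMonoidHom.comp e.toMonoidHom = MonoidHom.id A from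
    MonoidHom.ext e.symm_apply_apply, Subgroup.map_id]

theorem minimal_map_iso (e : A ≃* B) {R : Subgroup A} (hR : Cfsg.IsMinimalCentrallyLarge R) :
    Cfsg.IsMinimalCentrallyLarge (R.map e.toMonoidHom) := by
  refine ⟨centrallyLarge_map e hR.1, fun R' hle hR' => ?_⟩
  have h1 : R'.map e.symm.toMonoidHom ≤ R := (map_symm_map e R) ▸ map_mono hle
  rw [← hR.2 _ h1 (centrallyLarge_map e.symm hR')]
  exact (map_symm_map e.symm R').symm

theorem minimalJoin_le (e : A ≃* B) :
    (Cfsg.minimalCentrallyLargeJoin A).map e.toMonoidHom ≤ Cfsg.minimalCentrallyLargeJoin B := by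
  rw [map_le_iff_le_comap]
  exact sSup_le fun R hR => map_le_iff_le_comap.mp (le_sSup (minimal_map_iso e hR))

theorem minimalJoin_map (e : A ≃* B) :
    (Cfsg.minimalCentrallyLargeJoin A).map e.toMonoidHom = Cfsg.minimalCentrallyLargeJoin B :=
  le_antisymm (minimalJoin_le e) fun b hb =>
    ⟨e.symm b, minimalJoin_le e.symm (mem_map_of_mem _ hb), e.apply_symm_apply b⟩

variable {p : ℕ} [hp : Fact p.Prime]

theorem card_omega_map (e : A ≃* B) (Q : Subgroup A) :
    Nat.card (Cfsg.omegaOneCenter p (Q.map e.toMonoidHom)) = Nat.card (Cfsg.omegaOneCenter p Q) := by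
  rw [PushCLF.omegaOneCenter_map _ e.injective, card_map_of_injective e.injective]

theorem maxOmega_map (e : A ≃* B) :
    Cfsg.maxOmegaCenterOfMinimalCL p A = Cfsg.maxOmegaCenterOfMinimalCL p B := by
  obtain ⟨Q, hQ, hQc⟩ := PushCLF.sSup_attained (p := p) (P := A)
  obtain ⟨R, hR, hRc⟩ := PushCLF.sSup_attained (p := p) (P := B)
  refine le_antisymm ?_ ?_
  · rw [← hQc, ← card_omega_map e]; exact PushCLF.le_maxOmega (minimal_map_iso e hQ)
  · rw [← hRc, ← card_omega_map e.symm]; exact PushCLF.le_maxOmega (minimal_map_iso e.symm hR)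

theorem frattini_iso (e : A ≃* B) : (frattini A).map e.toMonoidHom = frattini B :=
  le_antisymm (map_le_iff_le_comap.mpr (frattini_le_comap_frattini_of_surjective (φ := e.toMonoidHom) e.surjective))
    fun b hb => ⟨e.symm b, frattini_le_comap_frattini_of_surjective (φ := e.symm.toMonoidHom) e.symm.surjective hb,
      e.apply_symm_apply b⟩

theorem frattiniJoin_le (e : A ≃* B) :
    (Cfsg.frattiniOfMinimalCLJoin p A).map e.toMonoidHom ≤ Cfsg.frattiniOfMinimalCLJoin p B := by
  rw [map_le_iff_le_comap]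
  refine iSup_le fun ⟨Q, hQ, hQc⟩ => ?_
  rw [← map_le_iff_le_comap]
  refine le_iSup_of_le ⟨Q.map e.toMonoidHom, minimal_map_iso e hQ, ?_⟩ ?_
  · rw [card_omega_map, hQc, maxOmega_map e]
  · show ((frattini ↥Q).map Q.subtype).map e.toMonoidHom ≤
      (frattini ↥(Q.map e.toMonoidHom)).map (Q.map e.toMonoidHom).subtype
    rw [Subgroup.map_map, ← frattini_iso (Q.equivMapOfInjective e.toMonoidHom e.injective), Subgroup.map_map]
    exact le_of_eq rfl

theorem frattiniJoin_map (e : A ≃* B) :
    (Cfsg.frattiniOfMinimalCLJoin p A).map e.toMonoidHom = Cfsg.frattiniOfMinimalCLJoin p B :=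
  le_antisymm (frattiniJoin_le e) fun b hb =>
    ⟨e.symm b, frattiniJoin_le e.symm (mem_map_of_mem _ hb), e.apply_symm_apply b⟩

end Cfsg.Agent.Fus.GN
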