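import Mathlib
import Cfsg.Agent.Lib.Fus.GN.MCLMap
import Cfsg.Agent.Lib.Invol.PushTilde
import Cfsg.Agent.Lib.Invol.PushUniqueMax

/-!
# Pairs for pushing up: the pair of any `p`-group
-/

set_option autoImplicit false
set_option linter.style.haveILetI false
set_option linter.unusedSectionVars false

namespace Cfsg.Agent.Fus.GN

open Subgroup Cfsg.Agent.Invol
open scoped commutatorElement

universe u

/-- The conclusion on a pair of subgroups of `S`. -/
structure Pair (p : ℕ) [Fact p.Prime] {S : Type u} [Group S] (S₁ S₂ : Subgroup S) : Prop where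
  ne₁ : S₁ ≠ ⊥
  ne₂ : S₂ ≠ ⊥
  char₁ : S₁.Characteristic
  char₂ : S₂.Characteristic
  central : S₁ ≤ center S
  le_tilde : S₂ ≤ tilde S
  sub : (S₂.subgroupOf (tilde S)).Characteristic
  normal : ∀ (G : Type u) [Group G] [Finite G] (P : Sylow p G) (e : S ≃* ↥(P : Subgroup G)),
    centralizer (Cfsg.pCore p G : Set G) ≤ Cfsg.pCore p G →
    (∃! M : Subgroup G, IsCoatom M ∧ (P : Subgroup G) ≤ M) →
    (∃ (K : Subgroup G) (_ : K.Normal) (F : Type) (_ : Field F) (_ : Fintype F) (n : ℕ),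
      Fintype.card F = p ^ n ∧ Nonempty (G ⧸ K ≃* Matrix.ProjectiveSpecialLinearGroup (Fin 2) F)) →
    (S₁.map (emb (P : Subgroup G) e)).Normal ∨ (S₂.map (emb (P : Subgroup G) e)).Normal

variable {S : Type u} [Group S] [Finite S] {p : ℕ} [hp : Fact p.Prime]

/-- The standing hypotheses once the three special cases are excluded. -/
theorem std_of_regular (hJ : ⁅zj S, (⊤ : Subgroup S)⁆ = ⊥) (hel : Cfsg.IsElementaryAbelian p (center S))
    (hQ : ∀ Q : Subgroup S, Cfsg.IsMinimalCentrallyLarge Q → ⁅Q, Q⁆ = ⊥) :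
    Std p (⊤ : Subgroup S) ∧ Cfsg.thompsonSubgroupA S = ⊤ ∧
      (∀ A ∈ Cfsg.maxAbelianSubgroups S, Mem ⊤ A ∧ cz ⊤ A = A) ∧
      ∀ Q, Cfsg.IsMinimalCentrallyLarge Q ↔ Q ∈ Cfsg.maxAbelianSubgroups S := by
  obtain ⟨Q₀, hQ₀⟩ := CL.exists_centrallyLarge S
  obtain ⟨Q, -, hQmin⟩ := CL.exists_minimal_le hQ₀
  have hiff := CL.minimal_abelian_iff hQmin
    (CL.isMulCommutative_of_le_centralizer (commutator_eq_bot_iff_le_centralizer.mp (hQ Q hQmin)))
  have hmem : ∀ A ∈ Cfsg.maxAbelianSubgroups S, Mem ⊤ A ∧ cz ⊤ A = A := fun A hA => by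
    obtain ⟨hm, -⟩ := (Invol.centrallyLarge_iff _).mp ((hiff A).mpr hA).1
    refine ⟨⟨le_top, fun K _ => ?_⟩, by rw [cz_top]; exact CL.maxAbelian_centralizer hA⟩
    rw [cz_top, cz_top]
    exact hm K
  obtain ⟨A₀, hA₀⟩ := CL.exists_maxAbelian S
  obtain ⟨J, hJdef⟩ : ∃ J, J = Cfsg.thompsonSubgroupA S := ⟨_, rfl⟩
  have hJm : Mem ⊤ J := by
    have h1 : A₀ ⊔ SupSet.sSup (Cfsg.maxAbelianSubgroups S) = J := by
      rw [hJdef]; exact sup_eq_right.mpr (le_sSup hA₀)
    exact h1 ▸ (hmem A₀ hA₀).1.sSup _ fun A hA => (hmem A hA).1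
  have hczJ : cz ⊤ J = cz (⊤ : Subgroup S) ⊤ := by
    refine le_antisymm ?_ (cz_anti le_top)
    rw [cz_top, cz_top_top, hJdef]
    intro x hx
    have h1 : x ∈ zj S := ⟨CL.centralizer_thompson_le hx, hx⟩
    exact mem_center_iff.mpr fun s =>
      mem_centralizer_iff.mp (commutator_eq_bot_iff_le_centralizer.mp hJ h1) s (mem_top s)
  have htop : J = ⊤ := by
    rw [← hJm.cz_cz, hczJ]
    exact le_antisymm le_top (le_cz_cz le_rfl)
  refine ⟨⟨hczJ ▸ hJm.cz, fun z hz => hel.2 z (cz_top_top (S := S) ▸ hz), ?_⟩, hJdef ▸ htop, hmem, hiff⟩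
  refine (hJdef ▸ htop).ge.trans ?_
  exact sSup_le_sSup fun A hA => hmem A hA

variable (hS : IsPGroup p S)
include hS

theorem tilde_eq_top (hJ : ⁅zj S, (⊤ : Subgroup S)⁆ = ⊥) : tilde S = ⊤ :=
  centralizer_eq_top_iff_subset.mpr fun x hx => mem_center_iff.mpr fun s =>
    mem_centralizer_iff.mp (commutator_eq_bot_iff_le_centralizer.mp hJ hx) s (mem_top s)

theorem P_le_centralizer (hJ : tilde S = ⊤) {G : Type u} [Group G] (P : Subgroup G) (e : S ≃* ↥P) :
    P ≤ centralizer (Cfsg.centerThompsonAOf P : Set G) := by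
  have h := emb_tilde P e
  rw [hJ, emb_top] at h
  exact h.le.trans inf_le_right

/-- The centre and the Frattini join. -/
theorem pair_frattini [Nontrivial S] (hJ : ⁅zj S, (⊤ : Subgroup S)⁆ = ⊥)
    (hΦ : Cfsg.frattiniOfMinimalCLJoin p S ≠ ⊥) :
    Pair p (center S) (Cfsg.frattiniOfMinimalCLJoin p S) := by
  have hT := tilde_eq_top hS hJ
  haveI hc : (Cfsg.frattiniOfMinimalCLJoin p S).Characteristic :=
    characteristic_iff_map_eq.mpr fun φ => frattiniJoin_map φ
  refine ⟨center_ne_bot hS, hΦ, inferInstance, hc, le_rfl, hT ▸ le_top, char_subgroupOf_top hT,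
    fun G _ _ P e hE₁ hE₂ ⟨K, _, F, _, _, n, hF, ⟨iso⟩⟩ => ?_⟩
  rcases PushCLF.center_or_frattini_normal P hE₁ hE₂ hF K iso (P_le_centralizer hS hT _ e) with h | h
  · exact Or.inl (emb_center _ e ▸ h)
  · refine Or.inr ?_
    rwa [← emb_map, frattiniJoin_map e]

/-- A pair exists unless `S` is small. -/
theorem exists_pair [Nontrivial S]
    (hok : ⁅zj S, (⊤ : Subgroup S)⁆ ≠ ⊥ ∨ ¬ Cfsg.IsElementaryAbelian p (center S) ∨
      (∃ Q : Subgroup S, Cfsg.IsMinimalCentrallyLarge Q ∧ ⁅Q, Q⁆ ≠ ⊥) ∨ szero p S ≠ ⊥ ∨ IsMulCommutative S) :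
    ∃ S₁ S₂ : Subgroup S, Pair p S₁ S₂ ∧ Cfsg.maxCentralProduct ↥S₂ = Cfsg.maxCentralProduct ↥(tilde S) := by
  have hcbot := center_ne_bot hS
  have htopne : (⊤ : Subgroup S) ≠ ⊥ := top_ne_bot
  by_cases hJ : ⁅zj S, (⊤ : Subgroup S)⁆ = ⊥
  swap
  · haveI : (tilde S).Characteristic := inferInstance
    refine ⟨⁅zj S, (⊤ : Subgroup S)⁆ ⊓ center S, tilde S, ⟨inf_center_ne_bot hS hJ,
      fun h => hcbot (le_bot_iff.mp (h ▸ center_le_centralizer _)), inf_char, inferInstance, inf_le_right, le_rfl,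
      char_self _, fun G _ _ P e hE₁ hE₂ ⟨K, _, F, _, _, n, hF, ⟨iso⟩⟩ => ?_⟩, rfl⟩
    rcases PushTilde.commutator_or_tilde_normal P hE₁ hE₂ hF K iso with h | h
    · refine Or.inl ?_
      rwa [Subgroup.map_inf _ _ _ (emb_inj _ e), map_commutator, emb_zj, emb_top, emb_center]
    · refine Or.inr ?_
      rwa [emb_tilde]
  have hT := tilde_eq_top hS hJ
  have hfT : Cfsg.maxCentralProduct ↥(tilde S) = Cfsg.maxCentralProduct S :=
    maxCentralProduct_congr ((MulEquiv.subgroupCongr hT).trans Subgroup.topEquiv)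
  have hftop : Cfsg.maxCentralProduct ↥(⊤ : Subgroup S) = Cfsg.maxCentralProduct ↥(tilde S) :=
    hfT.symm ▸ maxCentralProduct_congr Subgroup.topEquiv
  by_cases hel : Cfsg.IsElementaryAbelian p (center S)
  swap
  · have hne : Cfsg.powerClosure p 1 (center S) ≠ ⊥ := fun h => hel ⟨inferInstance, fun a ha =>
      mem_bot.mp (h ▸ subset_closure ⟨a, ha, by rw [pow_one]⟩)⟩
    refine ⟨Cfsg.powerClosure p 1 (center S), ⊤, ⟨hne, htopne, inferInstance, inferInstance, ?_, hT ▸ le_rfl,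
      char_subgroupOf_top hT, fun G _ _ P e hE₁ hE₂ _ => ?_⟩, hftop⟩
    · rw [Cfsg.powerClosure, closure_le]
      rintro _ ⟨x, hx, rfl⟩
      exact pow_mem hx _
    · rcases PushUnique.powerClosure_or_centralizer_normal P hE₁ hE₂ with h | h
      · refine Or.inl ?_
        rwa [map_powerClosure, emb_center]
      · refine Or.inr ?_
        rw [← emb_tilde _ e, hT] at h
        exact h
  by_cases hQ : ∃ Q : Subgroup S, Cfsg.IsMinimalCentrallyLarge Q ∧ ⁅Q, Q⁆ ≠ ⊥
  · obtain ⟨Q, hQ, hQne⟩ := hQ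
    haveI : (⁅Q, Q⁆).Characteristic := PushCL.derived_characteristic hQ
    haveI hM : (Cfsg.minimalCentrallyLargeJoin S).Characteristic :=
      characteristic_iff_map_eq.mpr fun φ => minimalJoin_map φ
    have hQM : Q ≤ Cfsg.minimalCentrallyLargeJoin S := le_sSup hQ
    refine ⟨center S ⊓ ⁅Q, Q⁆, Cfsg.minimalCentrallyLargeJoin S,
      ⟨inf_comm (center S) ⁅Q, Q⁆ ▸ inf_center_ne_bot hS hQne,
        fun h => hQne (le_bot_iff.mp ((commutator_le.mpr fun a ha b hb => by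
          rw [mem_bot.mp (h.le (hQM ha))]; simp))),
        inf_char, hM, inf_le_left, hT ▸ le_top, char_subgroupOf_top hT,
        fun G _ _ P e hE₁ hE₂ ⟨K, _, F, _, _, n, hF, ⟨iso⟩⟩ => ?_⟩, ?_⟩
    · rcases PushCL.derived_or_join_normal P hE₁ hE₂ hF K iso (P_le_centralizer hS hT _ e) (minimal_map_iso e hQ)
        with h | h
      · refine Or.inl ?_
        rwa [Subgroup.map_inf _ _ _ (emb_inj _ e), emb_center, ← emb_map _ _ ⁅Q, Q⁆, map_commutator]
      · refine Or.inr ?_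
        rwa [← emb_map, minimalJoin_map e]
    · rw [hfT]
      refine le_antisymm (maxCentralProduct_le_of_injective _ (subtype_injective _)) ?_
      conv_lhs => rw [← hQ.1]
      have h := le_maxCentralProduct (Q.subgroupOf (Cfsg.minimalCentrallyLargeJoin S))
      rwa [Nat.card_congr (subgroupOfEquivOfLe hQM).toEquiv,
        Nat.card_congr (Subgroup.centerCongr (subgroupOfEquivOfLe hQM)).toEquiv] at h
  push Not at hQ
  obtain ⟨hs, -, -, -⟩ := std_of_regular hJ hel hQ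
  by_cases h0 : szero p S = ⊥
  · have hab : IsMulCommutative S := by
      rcases hok with h | h | ⟨Q, hQ', hne⟩ | h | h
      exacts [absurd hJ h, absurd hel h, absurd (hQ Q hQ') hne, absurd h0 h, h]
    refine ⟨center S, ⊤, ⟨hcbot, htopne, inferInstance, inferInstance, le_rfl, hT ▸ le_rfl, char_subgroupOf_top hT,
      fun G _ _ P e hE₁ _ _ => Or.inr ?_⟩, hftop⟩
    rw [emb_top]
    haveI := Grp.pCore_isNormal (p := p) (G := G)
    have hle : (P : Subgroup G) ≤ Cfsg.pCore p G := fun a ha => hE₁ <| mem_centralizer_iff.mpr fun q hq => by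
      have h1 := congrArg (fun s => ((e s : ↥(P : Subgroup G)) : G))
        (hab.is_comm.comm (e.symm ⟨q, Grp.pCore_le_sylow P hq⟩) (e.symm ⟨a, ha⟩))
      simpa using h1
    rw [le_antisymm hle (Grp.pCore_le_sylow P)]
    infer_instance
  · haveI := szero_char (S := S) (p := p)
    haveI hc : (szero p S ⊓ center S).Characteristic := inf_char
    obtain ⟨S₂, hS₂, hle, hf, hnormal⟩ := main_pair hs inf_le_right (inf_le_left : szero p S ⊓ center S ≤ _)
    exact ⟨_, S₂, ⟨inf_center_ne_bot hS h0, ne_bot_of_le_ne_bot hcbot hle, hc, hS₂, inf_le_right, hT ▸ le_top,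
      char_subgroupOf_top hT, hnormal⟩, hf.trans hfT.symm⟩

end Cfsg.Agent.Fus.GN
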