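import Mathlib
import Cfsg.Agent.Lib.Fus.GN.Outer

/-!
# Pairs for pushing up: the exceptional class and the situation form
-/

set_option autoImplicit false
set_option linter.style.haveILetI false
set_option linter.unusedSectionVars false

namespace Cfsg.Agent.Fus.GN

open Subgroup Cfsg.Agent.Invol
open scoped commutatorElement Pointwise

universe u

variable {S : Type u} [Group S] [Finite S] {p : ℕ} [hp : Fact p.Prime]

/-- A small group lies in the exceptional class. -/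
theorem exceptional [Nontrivial S] (hS : IsPGroup p S) (hJ : ⁅zj S, (⊤ : Subgroup S)⁆ = ⊥)
    (hel : Cfsg.IsElementaryAbelian p (center S))
    (hQ : ∀ Q : Subgroup S, Cfsg.IsMinimalCentrallyLarge Q → ⁅Q, Q⁆ = ⊥) (h0 : szero p S = ⊥) :
    Cfsg.thompsonSubgroupA S = ⊤ ∧ Cfsg.IsElementaryAbelian p (center S) ∧
      Cfsg.IsElementaryAbelian p (frattini S) ∧ (p = 2 → frattini S ≤ center S) ∧
      (p = 3 → frattini S ≤ Subgroup.upperCentralSeries S 2) ∧
      (3 < p → frattini S ≤ center S ∧ Monoid.exponent S = p) ∧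
      (∀ A ∈ Cfsg.maxAbelianSubgroups S, ∀ B ∈ Cfsg.maxAbelianSubgroups S, ∀ Q : Subgroup S,
        Nat.card ↥A ^ 2 = Nat.card S * Nat.card ↥(center S) ∧
        Nat.card ↥Q * Nat.card ↥(center ↥Q) ≤ Nat.card S * Nat.card ↥(center S) ∧
        ((A ⊔ B : Subgroup S) : Set S) = (A : Set S) * (B : Set S) ∧
        A ⊔ B = centralizer ((A ⊓ B : Subgroup S) : Set S)) := by
  obtain ⟨hs, hJtop, hmem, -⟩ := std_of_regular hJ hel hQ
  have htm : Mem (⊤ : Subgroup S) ⊤ := Mem.top hs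
  have hmeas : Nat.card (⊤ : Subgroup S) * Nat.card (cz (⊤ : Subgroup S) ⊤) = Nat.card S * Nat.card ↥(center S) := by
    rw [Subgroup.card_top, cz_top_top]
  have hcent : p ≠ 3 → frattini S ≤ center S := fun h3 x hx => by
    have h1 : ⁅frattini S, (⊤ : Subgroup S)⁆ ≤ szero p S := by
      unfold szero
      rw [if_neg h3]
      split_ifs <;> exact le_sup_left
    exact mem_center_iff.mpr fun s =>
      mem_centralizer_iff.mp (commutator_eq_bot_iff_le_centralizer.mp (le_bot_iff.mp (h1.trans h0.le)) hx) s (mem_top s)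
  have hexp : p ≠ 2 → p ≠ 3 → ∀ x : S, x ^ p = 1 := fun h2 h3 x => by
    have h1 : Cfsg.powerClosure p 1 (⊤ : Subgroup S) ≤ szero p S := by
      unfold szero
      rw [if_neg h2, if_neg h3]
      exact le_sup_right
    exact mem_bot.mp (h0.le (h1 (subset_closure ⟨x, mem_top x, by rw [pow_one]⟩)))
  have hPhi2 : (p = 2 ∨ p = 3) → (frattini ↥(frattini S)).map (frattini S).subtype = ⊥ := fun h => by
    refine le_bot_iff.mp (le_trans ?_ h0.le)
    unfold szero
    rcases h with h | h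
    · rw [if_pos h]; exact le_sup_right
    · rw [if_neg (by omega), if_pos h]; exact le_sup_right
  refine ⟨hJtop, hel, ?_, fun h => hcent (by omega), fun h3 x hx => ?_, fun h => ⟨hcent (by omega), ?_⟩, ?_⟩
  · have hPp : IsPGroup p ↥(frattini S) := hS.to_subgroup _
    by_cases h23 : p = 2 ∨ p = 3
    · have hb := hPhi2 h23
      refine ⟨⟨⟨fun a b => ?_⟩⟩, fun a ha => ?_⟩
      · refine commutatorElement_eq_one_iff_mul_comm.mp (Subtype.ext (mem_bot.mp (hb.le ⟨⁅a, b⁆, ?_, rfl⟩)))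
        exact Grp.pGroup_commutator_le_frattini hPp (commutator_mem_commutator (mem_top a) (mem_top b))
      · exact mem_bot.mp (hb.le ⟨(⟨a, ha⟩ : ↥(frattini S)) ^ p, Grp.pGroup_pow_mem_frattini hPp _, rfl⟩)
    · refine ⟨⟨⟨fun a b => Subtype.ext (mem_center_iff.mp (hcent (by omega) b.2) a)⟩⟩,
        fun a _ => hexp (by omega) (by omega) a⟩
  · have h1 : ⁅⁅frattini S, (⊤ : Subgroup S)⁆, (⊤ : Subgroup S)⁆ = ⊥ := by
      refine le_bot_iff.mp (le_trans ?_ h0.le)
      unfold szero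
      rw [if_neg (by omega), if_pos h3]
      exact le_sup_left
    refine (_root_.mem_upperCentralSeries_succ_iff (G := S) (n := 1)).mpr fun s => ?_
    rw [Subgroup.upperCentralSeries_one]
    exact mem_center_iff.mpr fun t => mem_centralizer_iff.mp (commutator_eq_bot_iff_le_centralizer.mp h1
      (commutator_mem_commutator hx (mem_top s))) t (mem_top t)
  · refine ((Nat.dvd_prime hp.out).mp (Monoid.exponent_dvd_of_forall_pow_eq_one
      (hexp (by omega) (by omega)))).resolve_left fun h1 => ?_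
    exact (not_subsingleton S) (Monoid.exp_eq_one_iff.mp h1)
  · intro A hA B hB Q
    obtain ⟨hAm, hAc⟩ := hmem A hA
    obtain ⟨hBm, hBc⟩ := hmem B hB
    refine ⟨?_, ?_, ?_, ?_⟩
    · rw [sq, ← hmeas]
      conv_lhs => arg 2; rw [← hAc]
      exact hAm.card_eq htm
    · rw [← hmeas]
      refine le_trans (Nat.mul_le_mul_left _ ?_) (htm.max Q le_top)
      rw [card_center_eq]
      exact card_le_of_le fun x hx => ⟨mem_top _, hx.2⟩
    · ext z
      refine ⟨fun hz => ?_, ?_⟩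
      · obtain ⟨a, ha, b, hb, rfl⟩ := hAm.exists_mul hBm hz
        exact Set.mul_mem_mul ha hb
      · rintro ⟨a, ha, b, hb, rfl⟩
        exact mul_mem (mem_sup_left ha) (mem_sup_right hb)
    · rw [← cz_top, hAm.cz_inf hBm, hAc, hBc]

/-- The Frattini join is nontrivial without elementary large abelian subgroups. -/
theorem frattiniJoin_ne_bot (hS : IsPGroup p S) (hJ : ⁅zj S, (⊤ : Subgroup S)⁆ = ⊥)
    (hel : Cfsg.IsElementaryAbelian p (center S))
    (hQ : ∀ Q : Subgroup S, Cfsg.IsMinimalCentrallyLarge Q → ⁅Q, Q⁆ = ⊥)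
    (hno : ¬ ∃ A ∈ Cfsg.maxAbelianSubgroups S, Cfsg.IsElementaryAbelian p A) :
    Cfsg.frattiniOfMinimalCLJoin p S ≠ ⊥ := by
  intro hΦ
  obtain ⟨-, -, -, hiff⟩ := std_of_regular hJ hel hQ
  obtain ⟨Q, hQm, hQc⟩ := PushCLF.sSup_attained (p := p) (P := S)
  refine hno ⟨Q, (hiff Q).mp hQm, ((hiff Q).mp hQm).1, fun a ha => ?_⟩
  have hle : (frattini ↥Q).map Q.subtype ≤ ⊥ := hΦ ▸ le_iSup_of_le ⟨Q, hQm, hQc⟩ le_rfl
  exact mem_bot.mp (hle ⟨(⟨a, ha⟩ : ↥Q) ^ p, Grp.pGroup_pow_mem_frattini (hS.to_subgroup Q) _, rfl⟩)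

/-- The normality clause in the situation form. -/
theorem Pair.situation {S₁ S₂ : Subgroup S} (h : Pair p S₁ S₂) (G : Type u) [Group G] [Finite G] (P : Subgroup G)
    (e : S ≃* ↥P) (hE : Cfsg.IsPushingUpSituation p P) :
    (S₁.map (emb P e)).Normal ∨ (S₂.map (emb P e)).Normal := by
  obtain ⟨-, ⟨P', rfl⟩, hE₁, hE₂, hE₃⟩ := hE
  exact h.normal G P' e hE₁ hE₂ hE₃

/-- The normality clause for an embedding. -/
theorem Pair.embedding {S₁ S₂ : Subgroup S} (h : Pair p S₁ S₂) (G : Type u) [Group G] [Finite G] (τ : S →* G)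
    (hτ : Function.Injective τ) (hP : ∃ P : Sylow p G, (P : Subgroup G) = τ.range)
    (hE₁ : centralizer (Cfsg.pCore p G : Set G) ≤ Cfsg.pCore p G)
    (hE₂ : ∃! M : Subgroup G, IsCoatom M ∧ τ.range ≤ M)
    (hE₃ : ∃ (K : Subgroup G) (_ : K.Normal) (F : Type) (_ : Field F) (_ : Fintype F) (n : ℕ),
      1 ≤ n ∧ Fintype.card F = p ^ n ∧ Nonempty (G ⧸ K ≃* Matrix.ProjectiveSpecialLinearGroup (Fin 2) F)) :
    (S₁.map τ).Normal ∨ (S₂.map τ).Normal := by
  obtain ⟨P, hP⟩ := hP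
  let e : S ≃* ↥(P : Subgroup G) := (MonoidHom.ofInjective hτ).trans (MulEquiv.subgroupCongr hP.symm)
  have he : emb (P : Subgroup G) e = τ := rfl
  obtain ⟨K, hK, F, iF, iF', n, -, hn, hiso⟩ := hE₃
  exact he ▸ h.normal G P e hE₁ (hP.symm ▸ hE₂) ⟨K, hK, F, iF, iF', n, hn, hiso⟩

end Cfsg.Agent.Fus.GN
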